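import Cfsg.Agent.H3.S8h
import Cfsg.Prelude.Def_Local
/-! One fusion pattern does not occur in the 3-local identification of `Sym(8)`. -/
set_option autoImplicit false
set_option maxRecDepth 100000
namespace H15.B2
open Subgroup Equiv H3S
variable {G : Type*} [Group G] [Finite G] {φ : P →* G} {σ t : G} {ψ : Perm (Fin 6) →* G} {θ : A5 × A5 →* G}

def y0 : Perm (Fin 6) := swap 0 1 * swap 1 2 * (swap 3 4 * swap 4 5)
def e0 : Perm (Fin 6) := swap 0 3 * swap 1 4 * swap 2 5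
theorem dP : ∀ m : P, m * z0 = z0 * m → m * (r1 * t0) = r1 * t0 * m → m ^ 9 = 1 → m = 1 ∨ m = z0 ∨ m = z0 * z0 := by
  decide +kernel
theorem dS : ∀ s : Perm (Fin 6), s * y0 = y0 * s → s * e0 = e0 * s → s ^ 9 = 1 → s = 1 ∨ s = y0 ∨ s = y0 * y0 := by
  decide +kernel
theorem dA : ∀ s : Perm (Fin 6), s * swap 0 1 = swap 0 1 * s → s * swap 3 4 = swap 3 4 * s →
    (s = 1 ∨ s = swap 0 1 ∨ s = swap 3 4 ∨ s = swap 0 1 * swap 3 4) ∨ s = swap 2 5 ∨ s = swap 2 5 * swap 0 1 ∨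
      s = swap 2 5 * swap 3 4 ∨ s = swap 2 5 * swap 0 1 * swap 3 4 := by
  decide +kernel
theorem dC : (Finset.univ.filter fun s : Perm (Fin 6) => y0 * s = s * y0).card = 18 := by decide +kernel

theorem tc (p : Ps φ σ ψ) (s : Perm (Fin 6)) : ψ s * φ t0 = φ t0 * ψ s := (p.ct _).2 ⟨s, .inl rfl⟩
theorem tt : φ t0 * φ t0 = 1 := by rw [← map_mul, show t0 * t0 = 1 by decide, map_one]

theorem key (h : Hy φ σ) (p : Ps φ σ ψ) {i x : G} (hi : IsConj (φ t0) i) (x3 : x ^ 3 = 1) (c : x * i = i * x) :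
    ∃ w, w * i = i * w ∧ w * x = x * w ∧ w ^ 9 = 1 ∧ w ∉ zpowers x := by
  obtain ⟨g, rfl⟩ := isConj_iff.1 hi
  haveI : Fact (Nat.Prime 3) := ⟨by norm_num⟩
  have h9 : 9 ∣ Nat.card (centralizer ({g * φ t0 * g⁻¹} : Set G)) := by
    have le : ((MulAut.conj g).toMonoidHom.comp ψ).range ≤ centralizer ({g * φ t0 * g⁻¹} : Set G) := by
      rintro _ ⟨s, rfl⟩
      refine mem_centralizer_singleton_iff.2 ?_
      change g * ψ s * g⁻¹ * _ = _ * (g * ψ s * g⁻¹)
      calc _ = g * (ψ s * φ t0) * g⁻¹ := by group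
        _ = _ := by rw [tc p]; group
    refine Dvd.dvd.trans ?_ (card_dvd_of_le le)
    rw [← Nat.card_congr (MonoidHom.ofInjective (f := (MulAut.conj g).toMonoidHom.comp ψ)
      ((MulAut.conj g).injective.comp p.inj)).toEquiv, Nat.card_eq_fintype_card, Fintype.card_perm]
    decide
  obtain ⟨K, hK⟩ := Sylow.exists_subgroup_card_pow_prime 3 (n := 2)
    (nine h.n27 (mem_centralizer_singleton_iff.2 c) x3 h9)
  by_contra hn
  have le : K.map (Subgroup.subtype _) ≤ zpowers x := by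
    rintro _ ⟨w, hw, rfl⟩
    by_contra k
    refine hn ⟨w.1, mem_centralizer_singleton_iff.1 w.2.1, mem_centralizer_singleton_iff.1 w.2.2, ?_, k⟩
    have := congrArg (fun a : K => (a.1.1 : G)) (pow_card_eq_one' (x := (⟨w, hw⟩ : K)))
    rwa [hK] at this
  have := (card_dvd_of_le le).trans (Nat.card_zpowers x ▸ orderOf_dvd_of_pow_eq_one x3)
  rw [card_subtype, hK] at this
  omega

theorem yy (p : Ps φ σ ψ) : ψ y0 = φ z0 * φ z1 := by rw [y0, map_mul, p.z, p.z']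

theorem cy (h : Hy φ σ) (p : Ps φ σ ψ) {g : G} (hg : g * ψ y0 = ψ y0 * g) : g * φ t0 = φ t0 * g := by
  let A := (centralizer ({y0} : Set (Perm (Fin 6)))).map ψ
  let C := centralizer ({ψ y0} : Set G)
  have le : A ≤ C := by
    rintro _ ⟨s, hs, rfl⟩
    exact mem_centralizer_singleton_iff.2 (by rw [← map_mul, mem_centralizer_singleton_iff.1 hs, map_mul])
  have cA : Nat.card A = 18 := by
    rw [card_map_of_injective p.inj, ← dC]
    exact Nat.subtype_card _ fun s => by simp [mem_centralizer_iff]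
  have cC : Nat.card C = 36 := by rw [← h.cy, ← yy p]
  have e := (A.subgroupOf C).card_mul_index
  rw [Nat.card_congr (subgroupOfEquivOfLe le).toEquiv, cA, cC] at e
  have tC : φ t0 ∈ C := mem_centralizer_singleton_iff.2 (tc p _).symm
  have gC : g ∈ C := mem_centralizer_singleton_iff.2 hg
  have k := mul_mem_iff_of_index_two (H := A.subgroupOf C) (by omega) (a := ⟨_, tC⟩) (b := ⟨_, gC⟩)
  by_cases j : g ∈ A
  · obtain ⟨s, -, rfl⟩ := j
    exact tc p s
  · obtain ⟨s, -, hs⟩ := k.2 (iff_of_false (fun ⟨s, _, hs⟩ => p.nt s hs) j)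
    refine (p.ct g).2 ⟨s, .inr ?_⟩
    rw [hs]
    change g = φ t0 * (φ t0 * g)
    rw [← mul_assoc, tt, one_mul]

theorem ne (h : Hy φ σ) (p : Ps φ σ ψ) {i : G} (hi : i = ψ e0 ∨ i = φ t0 * ψ e0) : ¬ IsConj (φ t0) i := fun k => by
  have ye : ψ y0 * ψ e0 = ψ e0 * ψ y0 := by rw [← map_mul, ← map_mul, show y0 * e0 = e0 * y0 by decide]
  obtain ⟨w, w1, w2, w9, hw⟩ := key h p k (x := ψ y0) (by rw [← map_pow, show y0 ^ 3 = 1 by decide, map_one]) (by
    rcases hi with rfl | rfl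
    · exact ye
    · rw [← mul_assoc, tc p, mul_assoc, ye, mul_assoc])
  have wt := cy h p w2
  have we : w * ψ e0 = ψ e0 * w := by
    rcases hi with rfl | rfl
    · exact w1
    · rwa [← mul_assoc, wt, mul_assoc, mul_assoc, mul_right_inj] at w1
  obtain ⟨s, rfl | rfl⟩ := (p.ct w).1 wt
  · rcases dS s (p.inj (by simpa only [map_mul] using w2)) (p.inj (by simpa only [map_mul] using we))
      (p.inj (by rw [map_pow, w9, map_one])) with rfl | rfl | rfl
    exacts [hw (map_one ψ ▸ one_mem _), hw (mem_zpowers _), hw (by rw [map_mul ψ y0 y0]; exact mul_mem (mem_zpowers _) (mem_zpowers _))]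
  · rw [Commute.mul_pow (tc p s).symm, show 9 = 2 * 4 + 1 from rfl, pow_succ (φ t0), pow_mul (φ t0), pow_two, tt, one_pow,
      one_mul, ← map_pow] at w9
    exact p.nt (s ^ (2 * 4 + 1))⁻¹ (by rw [map_inv]; exact inv_eq_of_mul_eq_one_left w9)

theorem nr (h : Hy φ σ) (p : Ps φ σ ψ) : ¬ IsConj (φ t0) (φ (r1 * t0)) := fun k => by
  obtain ⟨w, w1, w2, w9, hw⟩ := key h p k (x := φ z0) (by rw [← map_pow, show z0 ^ 3 = 1 by decide, map_one])
    (by rw [← map_mul, ← map_mul, show z0 * (r1 * t0) = r1 * t0 * z0 by decide])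
  obtain ⟨m, rfl⟩ := h.nz w (by rw [w2, mul_inv_cancel_right]; exact mem_zpowers _)
  rcases dP m (h.inj (by simpa only [map_mul] using w2)) (h.inj (by simpa only [map_mul] using w1))
    (h.inj (by rw [map_pow, w9, map_one])) with rfl | rfl | rfl
  exacts [hw (map_one φ ▸ one_mem _), hw (mem_zpowers _), hw (map_mul φ _ _ ▸ mul_mem (mem_zpowers _) (mem_zpowers _))]

theorem cj (k : Perm (Fin 6)) {s s' : Perm (Fin 6)} (e : k * s * k⁻¹ = s') : IsConj (ψ s) (ψ s') :=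
  isConj_iff.2 ⟨ψ k, by rw [← e, map_mul, map_mul, map_inv]⟩
theorem cj' (p : Ps φ σ ψ) (k : Perm (Fin 6)) {s s' : Perm (Fin 6)} (e : k * s * k⁻¹ = s') :
    IsConj (φ t0 * ψ s) (φ t0 * ψ s') :=
  isConj_iff.2 ⟨ψ k, by rw [← e, map_mul, map_mul, map_inv, ← mul_assoc, tc p]; group⟩

theorem b2 (h : Hy φ σ) (hc : σ * φ r0 * σ = φ (r1 * t0)) (p : Ps φ σ ψ) : False := by
  have hQ : ψ (swap 3 4) = φ (r1 * t0) := p.r'.trans hc
  have T2 : φ t0 * φ t0 = 1 := tt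
  have VR : φ v0 * ψ (swap 0 1) * (φ v0)⁻¹ = ψ (swap 0 1) := by
    rw [p.r, ← map_inv, ← map_mul, ← map_mul, show v0 * r0 * v0⁻¹ = r0 by decide]
  have VQ : φ v0 * ψ (swap 3 4) * (φ v0)⁻¹ = ψ (swap 3 4) := by
    rw [hQ, ← map_inv, ← map_mul, ← map_mul, show v0 * (r1 * t0) * v0⁻¹ = r1 * t0 by decide]
  have VT : φ v0 * φ t0 * (φ v0)⁻¹ = φ t0 * ψ (swap 3 4) := by
    rw [hQ, ← map_inv, ← map_mul, ← map_mul, ← map_mul, show v0 * t0 * v0⁻¹ = t0 * (r1 * t0) by decide]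
  have nc : ¬ IsConj (φ t0) (ψ (swap 2 5)) := fun k =>
    nr h p (hQ ▸ k.trans (cj (swap 2 3 * swap 4 5) (by decide)))
  have n1 : ¬ IsConj (φ t0) (ψ (swap 2 5 * swap 0 1 * swap 3 4)) := fun k =>
    ne h p (.inl rfl) (k.trans (cj (swap 1 3) (by decide)))
  have n2 : ¬ IsConj (φ t0) (φ t0 * ψ (swap 2 5 * swap 0 1 * swap 3 4)) := fun k =>
    ne h p (.inr rfl) (k.trans (cj' p (swap 1 3) (by decide)))
  generalize φ v0 = V at VR VQ VT
  have mv : ∀ a b : G, V * (a * b) * V⁻¹ = V * a * V⁻¹ * (V * b * V⁻¹) := fun a b => by group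
  have c0 : IsConj (φ t0) (φ t0 * ψ (swap 3 4)) := isConj_iff.2 ⟨V, VT⟩
  have c1 : IsConj (φ t0) (φ t0 * ψ (swap 0 1 * swap 3 4)) :=
    (c0.trans (cj' p (swap 0 3 * swap 1 4) (s' := swap 0 1) (by decide))).trans (isConj_iff.2 ⟨V, by
      rw [mv, VT, VR, mul_assoc, ← map_mul, show (swap 3 4 * swap 0 1 : Perm (Fin 6)) = swap 0 1 * swap 3 4 by decide]⟩)
  have up : ∀ {a : G}, IsConj (φ t0) a → IsConj (φ t0) (V * a * V⁻¹) := fun k => k.trans (isConj_iff.2 ⟨V, rfl⟩)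
  have u0 := up (c0.trans (cj' p (swap 2 3 * swap 4 5) (s' := swap 2 5) (by decide)))
  have u1 := up (c1.trans (cj' p (swap 2 3 * swap 4 5) (s' := swap 2 5 * swap 0 1) (by decide)))
  have u2 := up (c1.trans (cj' p (swap 0 2 * swap 1 5) (s' := swap 2 5 * swap 3 4) (by decide)))
  rw [map_mul, ← mul_assoc (φ t0), mv, VR] at u1
  rw [map_mul, ← mul_assoc (φ t0), mv, VQ] at u2
  have cm : ∀ {a b : G}, a * b = b * a → V * a * V⁻¹ * (V * b * V⁻¹) = V * b * V⁻¹ * (V * a * V⁻¹) := fun k => by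
    rw [← mv, ← mv, k]
  have cs : ∀ s, swap 2 5 * s = s * swap 2 5 → φ t0 * ψ (swap 2 5) * ψ s = ψ s * (φ t0 * ψ (swap 2 5)) := fun s k => by
    rw [mul_assoc, ← map_mul, k, map_mul, ← mul_assoc, ← tc p, mul_assoc]
  have uR := cm (cs (swap 0 1) (by decide))
  have uQ := cm (cs (swap 3 4) (by decide))
  have VTQ : V * (φ t0 * ψ (swap 3 4)) * V⁻¹ = φ t0 := by
    rw [mv, VT, VQ, mul_assoc, ← map_mul, swap_mul_self, map_one, mul_one]
  have m2 : ∀ a b, φ t0 * ψ a * ψ b = φ t0 * ψ (a * b) := fun a b => by rw [map_mul, mul_assoc]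
  have m3 : ∀ a b, φ t0 * ψ a * (φ t0 * ψ b) = ψ (a * b) := fun a b => by
    rw [← tc p a, mul_assoc, ← mul_assoc (φ t0), T2, one_mul, map_mul]
  have uT := cm (a := φ t0 * ψ (swap 2 5)) (b := φ t0 * ψ (swap 3 4)) (by
    rw [m3, m3, show (swap 2 5 * swap 3 4 : Perm (Fin 6)) = swap 3 4 * swap 2 5 by decide])
  rw [VR] at uR
  rw [VQ] at uQ
  rw [VTQ] at uT
  have fx : ∀ s : Perm (Fin 6), s = 1 ∨ s = swap 0 1 ∨ s = swap 3 4 ∨ s = swap 0 1 * swap 3 4 →
      V * ψ s * V⁻¹ = ψ s ∧ swap 2 5 ≠ swap 3 4 * s := by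
    rintro _ (rfl | rfl | rfl | rfl)
    exacts [⟨by simp, by decide⟩, ⟨VR, by decide⟩, ⟨VQ, by decide⟩, ⟨by rw [map_mul, mv, VR, VQ], by decide⟩]
  obtain ⟨s, hs | hs⟩ := (p.ct _).1 uT
  · rw [hs] at u0 u1 u2 uR uQ
    rw [← map_mul] at u1 u2
    rcases dA s (p.inj (by simpa only [map_mul] using uR)) (p.inj (by simpa only [map_mul] using uQ)) with
      k | rfl | rfl | rfl | rfl
    · rw [← (fx s k).1, mul_left_inj, mul_right_inj] at hs
      exact p.nt (s * (swap 2 5)⁻¹) (by rw [map_mul, map_inv, ← hs, mul_inv_cancel_right])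
    · exact nc u0
    · exact nc (by rwa [mul_assoc, swap_mul_self, mul_one] at u1)
    · exact nc (by rwa [mul_assoc, swap_mul_self, mul_one] at u2)
    · exact n1 u0
  · rw [hs] at u0 u1 u2 uR uQ
    rw [m2] at u1 u2
    rw [← mul_assoc (ψ _), tc p, mul_assoc, mul_assoc, mul_right_inj] at uR uQ
    rcases dA s (p.inj (by simpa only [map_mul] using uR)) (p.inj (by simpa only [map_mul] using uQ)) with
      k | rfl | rfl | rfl | rfl
    · rw [← (fx s k).1] at hs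
      conv_rhs at hs => rw [← VTQ]
      rw [← mv, mul_left_inj, mul_right_inj, m2, mul_right_inj] at hs
      exact (fx s k).2 (p.inj hs)
    · have VC : V * ψ (swap 2 5) * V⁻¹ = ψ (swap 3 4 * swap 2 5) := by
        rw [← m3, ← hs, ← VT, ← mv, ← mul_assoc (φ t0), T2, one_mul]
      have k1 : ψ (swap 0 2 * swap 1 5) * (φ t0 * ψ (swap 3 4)) * (ψ (swap 0 2 * swap 1 5))⁻¹ = φ t0 * ψ (swap 3 4) := by
        rw [← mul_assoc, tc p, ← map_inv, m2, m2]; exact congrArg (φ t0 * ψ ·) (by decide)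
      have k2 : (ψ (swap 0 2 * swap 1 5))⁻¹ * φ t0 * ψ (swap 0 2 * swap 1 5) = φ t0 := by
        rw [mul_assoc, ← tc p, inv_mul_cancel_left]
      have k3 : (ψ (swap 0 2 * swap 1 5))⁻¹ * ψ (swap 2 5) * ψ (swap 0 2 * swap 1 5) = ψ (swap 0 1) := by
        rw [← map_inv, ← map_mul, ← map_mul]; exact congrArg ψ (by decide)
      generalize ψ (swap 0 2 * swap 1 5) = π at k1 k2 k3
      have wT : V * π * V * π⁻¹ * φ t0 * (V * π * V * π⁻¹)⁻¹ = φ t0 := by
        calc _ = V * (π * (V * (π⁻¹ * φ t0 * π) * V⁻¹) * π⁻¹) * V⁻¹ := by group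
          _ = _ := by rw [k2, VT, k1, VTQ]
      have wC : V * π * V * π⁻¹ * ψ (swap 2 5) * (V * π * V * π⁻¹)⁻¹ = ψ (swap 3 4 * swap 2 5) := by
        calc _ = V * (π * (V * (π⁻¹ * ψ (swap 2 5) * π) * V⁻¹) * π⁻¹) * V⁻¹ := by group
          _ = _ := by rw [k3, VR, ← k3, ← VC]; group
      have fin : ∀ a : Perm (Fin 6), ψ a * ψ (swap 2 5) * (ψ a)⁻¹ ≠ ψ (swap 3 4 * swap 2 5) := fun a e => by
        rw [← map_inv, ← map_mul, ← map_mul] at e
        have := congrArg Perm.sign (p.inj e)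
        rw [map_mul, map_mul, mul_right_comm, ← map_mul, mul_inv_cancel, map_one, one_mul] at this
        exact absurd this (by decide)
      obtain ⟨a, ha | ha⟩ := (p.ct _).1 (mul_inv_eq_iff_eq_mul.1 wT)
      · exact fin a (ha ▸ wC)
      · refine fin a (Eq.trans ?_ (ha ▸ wC))
        calc _ = φ t0 * (ψ (a * swap 2 5 * a⁻¹)) * (φ t0)⁻¹ := by
              rw [← tc p, mul_inv_cancel_right, map_mul, map_mul, map_inv]
          _ = _ := by rw [map_mul, map_mul, map_inv]; group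
    · exact n2 u2
    · exact n2 (by rwa [show (swap 2 5 * swap 3 4 * swap 0 1 : Perm (Fin 6)) = swap 2 5 * swap 0 1 * swap 3 4 by decide] at u1)
    · exact n2 u0
end H15.B2
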