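import Cfsg.Agent.H15.BL3b

/-! Lemma L, rank three: the centraliser of `U` is abelian. -/

set_option autoImplicit false

namespace H15.Bd

open Subgroup _root_.Cfsg H1 _root_.H15 H26 H15.L3

theorem ind_of_inj : ∀ a b c : E, Inj a b c →
    a ≠ 0 ∧ b ≠ 0 ∧ a ≠ b ∧ c ≠ 0 ∧ c ≠ a ∧ c ≠ b ∧ c ≠ a + b := by decide +kernel

theorem exists_basis {N A : Type*} [Group N] [Finite N] [AddCommGroup A] [Finite A]
    [DistribMulAction N A] (H : AH N A) {a b c : A} (i : AInd a b c) : Nonempty (E ≃+ A) := by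
  let s : ZMod 2 → A → A := fun x v => if x = 0 then 0 else v
  have hs : ∀ x y v, s (x + y) v = s x v + s y v := fun x y v => by
    have h1 : ∀ x : ZMod 2, x = 0 ∨ x = 1 := by decide
    have h2 : (1 + 1 : ZMod 2) = 0 := by decide
    rcases h1 x with rfl | rfl <;> rcases h1 y with rfl | rfl <;> simp [s, h2, H.h2]
  let ε : E →+ A := AddMonoidHom.mk' (fun u => s u.1 a + s u.2.1 b + s u.2.2 c) fun u v => by
    simp only [Prod.fst_add, Prod.snd_add, hs]; abel
  have e1 : ε e1 = a := by simp [ε, s, L3.e1]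
  have e2 : ε e2 = b := by simp [ε, s, L3.e2]
  have e3 : ε e3 = c := by simp [ε, s, L3.e3]
  refine ⟨AddEquiv.ofBijective ε ((Nat.bijective_iff_surjective_and_card _).2 ⟨fun x => ?_, ?_⟩)⟩
  · change x ∈ ε.range
    have ha : a ∈ ε.range := ⟨_, e1⟩
    have hb : b ∈ ε.range := ⟨_, e2⟩
    have hc : c ∈ ε.range := ⟨_, e3⟩
    rcases H.mem_cases i x with rfl | rfl | rfl | rfl | rfl | rfl | rfl | rfl
    exacts [zero_mem _, ha, hb, add_mem ha hb, hc, add_mem hc ha, add_mem hc hb,
      add_mem hc (add_mem ha hb)]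
  · rw [H.card_eq i]; simp

theorem cent_comm' {N : Type*} [Group N] [Finite N] {U : Subgroup N} (h : LH2 U) :
    IsMulCommutative (centralizer (U : Set N)) := by
  have := h.nrm
  have := h.toLH.isComm
  have H := h.ah
  obtain ⟨a, b, c, i⟩ := h.exists_ind
  obtain ⟨ε⟩ := exists_basis H i
  let ψ : N →* AddMonoid.End E :=
    { toFun := fun n => ε.symm.toAddMonoidHom.comp
        ((DistribMulAction.toAddMonoidEnd N (Ad U) n).comp ε.toAddMonoidHom)
      map_one' := AddMonoidHom.ext fun u => by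
        change ε.symm ((1 : N) • ε u) = u
        simp
      map_mul' := fun n m => AddMonoidHom.ext fun u => by
        change ε.symm ((n * m) • ε u) = ε.symm (n • ε (ε.symm (m • ε u)))
        simp [mul_smul] }
  have hψ : ∀ n u, ε (ψ n u) = n • ε u := fun n u => ε.apply_symm_apply _
  have ai : ∀ a b c, Inj a b c → AInd (ε a) (ε b) (ε c) := fun a b c j => by
    obtain ⟨h1, h2, h3, h4, h5, h6, h7⟩ := ind_of_inj a b c j
    exact ⟨by simpa using h1, by simpa using h2, by simpa using h3, by simpa using h4, by simpa using h5,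
      by simpa using h6, by rw [← map_add]; exact ε.injective.ne h7⟩
  have mem : ∀ n, n ∈ centralizer (U : Set N) ↔ ∀ u, ψ n u = u := fun n => by
    constructor
    · intro hn u
      apply ε.injective
      rw [hψ]
      apply Ad.ext
      rw [Ad.val_smul, ← hn _ (ε u).mem, mul_inv_cancel_right]
    · intro hn x hx
      have := congrArg Ad.val (hψ n (ε.symm (Ad.mk x hx)))
      rw [hn, ε.apply_symm_apply, Ad.val_smul, Ad.val_mk] at this
      exact (mul_inv_eq_iff_eq_mul.1 this.symm).symm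
  refine St.comm (ψ := ψ) (ι := fun u => (ε u).val) ⟨⟨fun x y z j => ?_⟩, fun u v => by simp,
    fun u v e => ε.injective (Ad.ext e), fun n u => by rw [hψ, Ad.val_smul], fun t ht =>
    ⟨ε.symm (Ad.mk t (h.inv t ht)), by simp⟩, mem, ?_⟩
  · obtain ⟨g, g1, g2, g3⟩ := H.trans3 (ai e1 e2 e3 (by decide)) (ai x y z j)
    refine ⟨g, fun u => ?_⟩
    rw [eq_lf, ε.injective ((hψ g e1).trans g1), ε.injective ((hψ g e2).trans g2),
      ε.injective ((hψ g e3).trans g3)]
  · obtain ⟨a, ha, b, hb, h1, h2, h3⟩ := h.toLH.exists_pair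
    exact (h.pY a ha b hb h1 h2 h3).to_le fun g hg =>
      ⟨mem_centralizer_singleton_iff.2 (hg a ha).symm, mem_centralizer_singleton_iff.2 (hg b hb).symm⟩

theorem cent_comm {N : Type*} [Group N] [Finite N] {U : Subgroup N} (h : LH2 U)
    (_h8 : Nat.card U = 8) : IsMulCommutative (centralizer (U : Set N)) := cent_comm' h

end H15.Bd
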