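import Cfsg.Agent.H26.LL5

/-! Lemma L, rank three: modules for `GL₃(2)` with an anisotropic equivariant map. -/

set_option autoImplicit false

namespace H15.L3

/-- the natural module -/
abbrev E := ZMod 2 × ZMod 2 × ZMod 2

/-- the linear map with given images of the basis, as a function -/
def lf (a b c u : E) : E := u.1 • a + u.2.1 • b + u.2.2 • c

/-- the linear map with given images of the basis -/
def lin (a b c : E) : AddMonoid.End E := AddMonoidHom.mk' (lf a b c) fun u v => by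
  simp only [lf, Prod.fst_add, Prod.snd_add, add_smul]; abel

theorem lin_apply (a b c u : E) : lin a b c u = lf a b c u := rfl

def e1 : E := (1, 0, 0)
def e2 : E := (0, 1, 0)
def e3 : E := (0, 0, 1)

theorem eq_lf (f : AddMonoid.End E) (u : E) : f u = lf (f e1) (f e2) (f e3) u := by
  have h : ∀ (x : ZMod 2) (v : E), f (x • v) = x • f v := fun x v => by
    have : x = 0 ∨ x = 1 := by revert x; decide
    rcases this with rfl | rfl <;> simp
  have e : ∀ u : E, u = lf e1 e2 e3 u := by decide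
  conv_lhs => rw [e u, lf, map_add, map_add, h, h, h]
  rfl

theorem add_self (u : E) : u + u = 0 := by revert u; decide

/-- injectivity, in decidable form -/
def Inj (a b c : E) : Prop := ∀ u : E, lf a b c u = 0 → u = 0

instance (a b c : E) : Decidable (Inj a b c) := inferInstanceAs (Decidable (∀ _, _))

/-- generators of the stabiliser of `e1` -/
def gen : Fin 4 → E → E
  | 0 => lf e1 (e2 + e1) e3
  | 1 => lf e1 e2 (e3 + e1)
  | 2 => lf e1 (e2 + e3) e3
  | 3 => lf e1 e2 (e3 + e2)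

def wd (l : List (Fin 4)) (u : E) : E := l.foldr gen u

def words : List (List (Fin 4)) :=
  [[], [0], [1], [2], [3], [1, 0], [2, 0], [3, 0], [2, 1], [3, 1], [1, 2], [3, 2], [0, 3], [2, 3],
   [3, 2, 0], [2, 3, 0], [3, 2, 1], [2, 3, 1], [3, 1, 2], [2, 3, 2], [2, 0, 3], [2, 3, 2, 0],
   [2, 3, 2, 1], [2, 3, 1, 2]]

theorem stab_words : ∀ b c : E, Inj e1 b c → ∃ l ∈ words, ∀ u, lf e1 b c u = wd l u := by
  decide +kernel

theorem exists_pair : ∀ a b : E, a ≠ 0 → b ≠ 0 → a ≠ b → ∃ c, Inj a b c := by decide +kernel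

theorem exists_one : ∀ a : E, a ≠ 0 → ∃ b c, Inj a b c := by decide +kernel

variable {N V : Type*} [Group N] [AddCommGroup V]

/-- a group inducing `GL₃(2)` on `E` -/
structure Ind (ψ : N →* AddMonoid.End E) : Prop where
  hs : ∀ a b c, Inj a b c → ∃ n, ∀ u, ψ n u = lf a b c u

theorem emul (f g : AddMonoid.End V) (v : V) : (f * g) v = f (g v) := rfl

theorem inj_of (ψ : N →* AddMonoid.End V) (n : N) {u : V} (h : ψ n u = 0) : u = 0 := by
  have : ψ (n⁻¹ * n) u = 0 := by rw [map_mul, emul, h, map_zero]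
  simpa using this

theorem inj_ψ (ψ : N →* AddMonoid.End E) (n : N) : Inj (ψ n e1) (ψ n e2) (ψ n e3) := fun u h =>
  inj_of ψ n (by rw [eq_lf, h])

/-- a module with an anisotropic equivariant quadratic map to `E` -/
structure Mod (ψ : N →* AddMonoid.End E) (ρ : N →* AddMonoid.End V) (σ : V → E) (β : V → V →+ E) :
    Prop where
  ind : Ind ψ
  hk : ∀ n m, (∀ u, ψ n u = ψ m u) → ∀ v, ρ n v = ρ m v
  two : ∀ v : V, v + v = 0
  zero : ∀ v, σ v = 0 ↔ v = 0
  eqv : ∀ n v, σ (ρ n v) = ψ n (σ v)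
  add : ∀ v w, σ (v + w) = σ v + σ w + β v w

namespace Mod
variable {ψ : N →* AddMonoid.End E} {ρ : N →* AddMonoid.End V} {σ : V → E} {β : V → V →+ E}
  (M : Mod ψ ρ σ β)
include M

theorem rel {a b c d : N} (h : ∀ u, ψ a (ψ b u) = ψ c (ψ d u)) (v : V) :
    ρ a (ρ b v) = ρ c (ρ d v) := by
  have := M.hk (a * b) (c * d) (by simpa using h) v
  simpa using this

theorem rel3 {a b c d e : N} (h : ∀ u, ψ a (ψ b u) = ψ c (ψ d (ψ e u))) (v : V) :
    ρ a (ρ b v) = ρ c (ρ d (ρ e v)) := by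
  have := M.hk (a * b) (c * d * e) (by simpa using h) v
  simpa using this

theorem sq {a : N} (h : ∀ u, ψ a (ψ a u) = u) (v : V) : ρ a (ρ a v) = v := by
  simpa using M.rel (c := 1) (d := 1) (by simpa using h) v

theorem β_eqv (n : N) (v w : V) : β (ρ n v) (ρ n w) = ψ n (β v w) := by
  have h1 := M.add (ρ n v) (ρ n w)
  rw [← map_add, M.eqv, M.add, M.eqv, M.eqv, map_add, map_add] at h1
  exact (add_left_cancel h1).symm

theorem eq_of_add {v w : V} (h : v + w = 0) : v = w := by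
  rw [← add_zero v, ← M.two w, ← add_assoc, h, zero_add]

theorem key {g h : N} {z : E} (hg : ∀ u, ψ g (ψ g u) = u) (hh : ∀ u, ψ h (ψ h u) = u)
    (hc : ∀ u, ψ h (ψ g u) = ψ g (ψ h u)) (hz : ∀ u, ψ g (u + ψ h u) = u + ψ h u)
    (hσ : ∀ u, u ≠ 0 → ψ g u = u → ψ h u = u → u = z) {a a' b : V} (ha : a ≠ 0) (ha' : a' ≠ 0)
    (hne : a ≠ a') (h1 : ρ g a = a) (h2 : ρ h a = a) (h1' : ρ g a' = a') (h2' : ρ h a' = a')
    (hb : ψ g (σ (b + ρ h b)) ≠ σ (b + ρ h b)) : False := by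
  have hσ' : ∀ v, v ≠ 0 → ρ g v = v → ρ h v = v → σ v = z := fun v h0 e1 e2 =>
    hσ _ (mt (M.zero v).1 h0) (by rw [← M.eqv, e1]) (by rw [← M.eqv, e2])
  have e0 : ρ h (b + ρ h b) = b + ρ h b := by rw [map_add, M.sq hh, add_comm]
  generalize hb1 : b + ρ h b = b1 at hb e0
  have c0 : b1 + ρ g b1 ≠ 0 := fun e => hb (by rw [← M.eqv, ← M.eq_of_add e])
  have c1 : ρ g (b1 + ρ g b1) = b1 + ρ g b1 := by rw [map_add, M.sq hg, add_comm]
  have c2 : ρ h (b1 + ρ g b1) = b1 + ρ g b1 := by rw [map_add, M.rel hc, e0]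
  have k : ∀ a, a ≠ 0 → ρ g a = a → ρ h a = a → a = b1 + ρ g b1 := fun a ha h1 h2 => by
    have e1 : β a b1 = β a b + ψ h (β a b) := by rw [← M.β_eqv, h2, ← map_add, hb1]
    have e2 : β a (b1 + ρ g b1) = 0 := by
      rw [map_add]
      nth_rewrite 2 [← h1]
      rw [M.β_eqv, e1, hz, add_self]
    refine M.eq_of_add ((M.zero _).1 ?_)
    rw [M.add, e2, hσ' a ha h1 h2, hσ' _ c0 c1 c2, add_self, add_zero]
  exact hne ((k a ha h1 h2).trans (k a' ha' h1' h2').symm)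

theorem exists_fix {g h : N} (hg : ∀ u, ψ g (ψ g u) = u) (hh : ∀ u, ψ h (ψ h u) = u)
    (hc : ∀ u, ψ h (ψ g u) = ψ g (ψ h u)) {v : V} (hv : v ≠ 0) : ∃ w, w ≠ 0 ∧ ρ g w = w ∧ ρ h w = w := by
  obtain ⟨w, h0, h1⟩ : ∃ w, w ≠ 0 ∧ ρ g w = w := by
    by_cases e : v + ρ g v = 0
    · exact ⟨v, hv, (M.eq_of_add e).symm⟩
    · exact ⟨_, e, by rw [map_add, M.sq hg, add_comm]⟩
  by_cases e : w + ρ h w = 0
  · exact ⟨w, h0, h1, (M.eq_of_add e).symm⟩
  · exact ⟨_, e, by rw [map_add, ← M.rel hc, h1], by rw [map_add, M.sq hh, add_comm]⟩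

theorem exists_stab {v : V} (hv : v ≠ 0) : ∃ w, w ≠ 0 ∧ ∀ n, ψ n e1 = e1 → ρ n w = w := by
  have hx : ∀ i, ∃ n, ∀ u, ψ n u = gen i u := fun i => by
    fin_cases i <;> exact M.ind.hs _ _ _ (by decide)
  choose x hx using hx
  obtain ⟨p, hp⟩ := M.ind.hs e3 e2 e1 (by decide)
  obtain ⟨q, hq⟩ := M.ind.hs e1 e3 e2 (by decide)
  obtain ⟨g, hg⟩ := M.ind.hs (e1 + e3) e2 e3 (by decide)
  obtain ⟨w, h0, h1, h2⟩ := M.exists_fix (g := x 0) (h := x 1) (by simp only [hx]; decide)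
    (by simp only [hx]; decide) (by simp only [hx]; decide) hv
  have s2 : ∀ w, ρ (x 0) w = w → ρ (x 1) w = w → ρ (x 0) (ρ (x 2) w) = ρ (x 2) w ∧
      ρ (x 1) (ρ (x 2) w) = ρ (x 2) w := fun w h1 h2 =>
    ⟨by rw [M.rel (c := x 2) (d := x 0) (by simp only [hx]; decide), h1],
      by rw [M.rel3 (c := x 2) (d := x 1) (e := x 0) (by simp only [hx]; decide), h1, h2]⟩
  have sq' : ∀ w, ρ (x 0) w = w → ρ (x 1) w = w → ρ (x 0) (ρ q w) = ρ q w ∧
      ρ (x 1) (ρ q w) = ρ q w := fun w h1 h2 =>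
    ⟨by rw [M.rel (c := q) (d := x 1) (by simp only [hx, hq]; decide), h2],
      by rw [M.rel (c := q) (d := x 0) (by simp only [hx, hq]; decide), h1]⟩
  have k2 : ∀ b, ρ (x 0) b = b → ρ (x 1) b = b → ρ (x 2) b = b := fun b b1 b2 => by
    by_contra hb
    have hb0 : b ≠ 0 := fun e => hb (by rw [e, map_zero])
    obtain ⟨b3, b4⟩ := s2 b b1 b2
    have tr : ∀ a, ρ (x 0) a = a → ρ (x 1) a = a → ρ g (ρ p a) = ρ p a ∧ ρ (x 2) (ρ p a) = ρ p a :=
      fun a a1 a2 => ⟨by rw [M.rel (c := p) (d := x 1) (by simp only [hx, hp, hg]; decide), a2],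
        by rw [M.rel (c := p) (d := x 0) (by simp only [hx, hp]; decide), a1]⟩
    refine M.key (g := g) (h := x 2) (z := e3) (by simp only [hg]; decide) (by simp only [hx]; decide)
      (by simp only [hx, hg]; decide) (by simp only [hx, hg]; decide) (by simp only [hx, hg]; decide)
      (a := ρ p b) (a' := ρ p (ρ (x 2) b)) (b := b) (fun e => hb0 (inj_of ρ p e))
      (fun e => hb0 (inj_of ρ _ (inj_of ρ p e)))
      (fun e => hb (sub_eq_zero.1 (inj_of ρ p (by rw [map_sub, e, sub_self])))) (tr b b1 b2).1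
      (tr b b1 b2).2 (tr _ b3 b4).1 (tr _ b3 b4).2 ?_
    have c0 : σ (b + ρ (x 2) b) ≠ 0 := fun e => hb (M.eq_of_add ((M.zero _).1 e)).symm
    have c1 : ψ (x 0) (σ (b + ρ (x 2) b)) = σ (b + ρ (x 2) b) := by rw [← M.eqv, map_add, b1, b3]
    have c2 : ψ (x 1) (σ (b + ρ (x 2) b)) = σ (b + ρ (x 2) b) := by rw [← M.eqv, map_add, b2, b4]
    rw [hx] at c1 c2
    rw [hg]
    revert c0 c1 c2
    generalize σ (b + ρ (x 2) b) = u
    revert u; decide
  have h3 : ρ (x 3) w = w := by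
    have := k2 _ (sq' w h1 h2).1 (sq' w h1 h2).2
    rw [M.rel (c := q) (d := x 3) (by simp only [hx, hq]; decide)] at this
    exact sub_eq_zero.1 (inj_of ρ q (by rw [map_sub, this, sub_self]))
  have h4 : ∀ i, ρ (x i) w = w := fun i => by
    fin_cases i
    exacts [h1, h2, k2 w h1 h2, h3]
  have h5 : ∀ l : List (Fin 4), (∀ u, ψ (l.map x).prod u = wd l u) ∧ ρ (l.map x).prod w = w := fun l => by
    induction l with
    | nil => simp [wd]
    | cons i l ih =>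
      simp only [List.map_cons, List.prod_cons, map_mul, emul, ih.1, ih.2, hx, h4]
      exact ⟨fun _ => rfl, trivial⟩
  refine ⟨w, h0, fun n hn => ?_⟩
  obtain ⟨l, -, hl⟩ := stab_words _ _ (hn ▸ inj_ψ ψ n)
  rw [M.hk n (l.map x).prod fun u => by rw [eq_lf, hn, hl, (h5 l).1], (h5 l).2]

theorem exists_emb {v : V} (hv : v ≠ 0) :
    ∃ f : E →+ V, (∀ n z, f (ψ n z) = ρ n (f z)) ∧ f e1 ≠ 0 := by
  obtain ⟨w, h0, h1⟩ := M.exists_stab hv
  have hx : ∀ z : E, ∃ y : V, (z = 0 → y = 0) ∧ ∀ n, ψ n e1 = z → y = ρ n w := fun z => by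
    by_cases hz : z = 0
    · exact ⟨0, fun _ => rfl, fun n e => absurd (inj_of ψ n (e.trans hz)) (by decide)⟩
    obtain ⟨b, c, h⟩ := exists_one z hz
    obtain ⟨m, hm⟩ := M.ind.hs _ _ _ h
    have hm1 : ψ m e1 = z := by rw [hm]; simp [lf, e1]
    refine ⟨ρ m w, fun e => absurd e hz, fun n e => ?_⟩
    have := h1 (m⁻¹ * n) (by
      rw [map_mul, emul, e, ← hm1, ← emul, ← map_mul]; simp)
    conv_lhs => rw [← this, ← emul, ← map_mul, mul_inv_cancel_left]
  choose f f0 f1 using hx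
  have f2 : ∀ n z, f (ψ n z) = ρ n (f z) := fun n z => by
    by_cases hz : z = 0
    · rw [hz, map_zero, f0 0 rfl, map_zero]
    obtain ⟨b, c, h⟩ := exists_one z hz
    obtain ⟨m, hm⟩ := M.ind.hs _ _ _ h
    have hm1 : ψ m e1 = z := by rw [hm]; simp [lf, e1]
    rw [f1 z m hm1, f1 _ (n * m) (by rw [map_mul, emul, hm1])]
    simp
  have f3 : f e1 + f e2 + f (e1 + e2) = 0 := by
    rw [← M.zero]
    have k : ∀ c, Inj e2 (e1 + e2) c → lf e2 (e1 + e2) c (σ (f e1 + f e2 + f (e1 + e2))) =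
        σ (f e1 + f e2 + f (e1 + e2)) := fun c hc => by
      obtain ⟨n, hn⟩ := M.ind.hs _ _ _ hc
      rw [← hn, ← M.eqv, map_add, map_add, ← f2, ← f2, ← f2, hn, hn, hn,
        show lf e2 (e1 + e2) c e1 = e2 by simp [lf, e1], show lf e2 (e1 + e2) c e2 = e1 + e2 by simp [lf, e2],
        show lf e2 (e1 + e2) c (e1 + e2) = e1 by clear hn hc; revert c; decide]
      congr 1; abel
    have k1 := k e3 (by decide)
    have k2 := k (e3 + e1) (by decide)
    revert k1 k2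
    generalize σ (f e1 + f e2 + f (e1 + e2)) = u
    revert u; decide
  refine ⟨AddMonoidHom.mk' f fun a b => ?_, f2, ?_⟩
  · by_cases ha : a = 0
    · rw [ha, zero_add, f0 0 rfl, zero_add]
    by_cases hb : b = 0
    · rw [hb, add_zero, f0 0 rfl, add_zero]
    by_cases hab : a = b
    · rw [hab, add_self, f0 0 rfl, M.two]
    obtain ⟨c, h⟩ := exists_pair a b ha hb hab
    obtain ⟨n, hn⟩ := M.ind.hs _ _ _ h
    have := congrArg (ρ n) f3
    rw [map_add, map_add, ← f2, ← f2, ← f2, map_add, hn, hn, map_zero,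
      show lf a b c e1 = a by simp [lf, e1], show lf a b c e2 = b by simp [lf, e2]] at this
    exact (M.eq_of_add this).symm
  · change f e1 ≠ 0
    rw [f1 e1 1 (by simp)]
    simpa using h0
end Mod

/-- trace -/
def tr (f : E → E) : ZMod 2 := (f e1).1 + (f e2).2.1 + (f e3).2.2

theorem tr_comm (f g : AddMonoid.End E) : tr ⇑(f * g) = tr ⇑(g * f) := by
  simp only [tr, emul]
  rw [eq_lf f (g e1), eq_lf f (g e2), eq_lf f (g e3), eq_lf g (f e1), eq_lf g (f e2), eq_lf g (f e3)]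
  simp only [lf, Prod.fst_add, Prod.snd_add, Prod.smul_fst, Prod.smul_snd, smul_eq_mul]
  ring

/-- fixed-point-free elements spanning the endomorphisms together with the identity -/
def ks : List (E × E × E) :=
  [((0, 0, 1), (0, 1, 1), (1, 1, 0)), ((0, 0, 1), (0, 1, 1), (1, 1, 1)), ((0, 0, 1), (1, 0, 0), (0, 1, 1)), ((0, 0, 1), (1, 0, 0), (1, 1, 0)), ((0, 0, 1), (1, 0, 1), (0, 1, 0)), ((0, 0, 1), (1, 1, 0), (0, 1, 0)), ((0, 1, 0), (0, 0, 1), (1, 0, 1)), ((0, 1, 0), (0, 0, 1), (1, 1, 0))]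

theorem ks_fpf : ∀ k ∈ ks, Inj k.1 k.2.1 k.2.2 ∧ ∀ u, lf k.1 k.2.1 k.2.2 u = u → u = 0 := by
  decide +kernel

theorem end_zero : ∀ a b c : E, tr (lf a b c) = 0 →
    (∀ k ∈ ks, tr (lf a b c ∘ lf k.1 k.2.1 k.2.2) = 0) → a = 0 := by decide +kernel

end H15.L3
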