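import Cfsg.Agent.H15.BL3a
import Cfsg.Agent.H9.Basic

/-! Lemma L, rank three: the kernel of the action on the involutions is abelian. -/

set_option autoImplicit false
set_option linter.unusedSectionVars false

namespace H15.L3

open Subgroup _root_.Cfsg H1 _root_.H15 H26
open scoped commutatorElement

/-- the setting: `ι(E)` is the set of involutions, `S` is its centraliser -/
structure St {N : Type*} [Group N] (ψ : N →* AddMonoid.End E) (ι : E → N) (S : Subgroup N) : Prop where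
  ind : Ind ψ
  mul : ∀ u v, ι (u + v) = ι u * ι v
  inj : Function.Injective ι
  conj : ∀ n u, n * ι u * n⁻¹ = ι (ψ n u)
  inv : ∀ t, t * t = 1 → ∃ u, ι u = t
  mem : ∀ n, n ∈ S ↔ ∀ u, ψ n u = u
  pg : IsPGroup 2 S

namespace St
variable {N : Type*} [Group N] [Finite N] {ψ : N →* AddMonoid.End E} {ι : E → N} {S : Subgroup N}
  (h : St ψ ι S)
include h

theorem ι0 : ι 0 = 1 := by
  have := h.mul 0 0
  rw [add_zero] at this
  exact left_eq_mul.1 this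

theorem nrm : S.Normal := ⟨fun s hs g => (h.mem _).2 fun u => by
  rw [map_mul, map_mul, emul, emul, (h.mem s).1 hs, ← emul, ← map_mul]; simp⟩

theorem nrmA : (S ⊓ 𝒞(S)).Normal := by
  have := h.nrm
  infer_instance

theorem ι_mem (u : E) : ι u ∈ S ⊓ 𝒞(S) := by
  refine ⟨(h.mem _).2 fun v => h.inj ?_, fun s hs => ?_⟩
  · rw [← h.conj, ← h.mul, add_comm, h.mul, mul_inv_cancel_right]
  · have := h.conj s u
    rw [(h.mem s).1 hs] at this
    rw [← mul_inv_eq_iff_eq_mul, this]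

theorem ι_nsmul (k : ℕ) (u : E) : ι (k • u) = ι u ^ k := by
  induction k with
  | zero => simp [h.ι0]
  | succ k ih => rw [succ_nsmul, h.mul, ih, pow_succ]

theorem exists_exp : ∃ e : ℕ, (∀ a ∈ S ⊓ 𝒞(S), a ^ 2 ^ (e + 1) = 1) ∧
    ∀ u, ∃ a ∈ S ⊓ 𝒞(S), a ^ 2 ^ e = ι u := by
  classical
  have : Fact (Nat.Prime 2) := ⟨Nat.prime_two⟩
  have hP : ∃ e : ℕ, ∀ a ∈ S ⊓ 𝒞(S), a ^ 2 ^ e = 1 := by
    obtain ⟨n, hn⟩ := IsPGroup.iff_card.1 h.pg
    refine ⟨n, fun a ha => ?_⟩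
    have := pow_card_eq_one' (G := S) (x := ⟨a, ha.1⟩)
    rw [hn] at this
    exact congrArg Subtype.val this
  have h0 : Nat.find hP ≠ 0 := fun e => by
    have := Nat.find_spec hP _ (h.ι_mem e1)
    rw [e, pow_zero, pow_one, ← h.ι0] at this
    exact absurd (h.inj this) (by decide)
  obtain ⟨e, he⟩ := Nat.exists_eq_succ_of_ne_zero h0
  have h1 := Nat.find_spec hP
  rw [he] at h1
  refine ⟨e, h1, fun u => ?_⟩
  by_cases hu : u = 0
  · exact ⟨1, one_mem _, by rw [hu, h.ι0, one_pow]⟩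
  have h2 := Nat.find_min hP (m := e) (by omega)
  push Not at h2
  obtain ⟨a, ha, h3⟩ := h2
  obtain ⟨v, hv⟩ := h.inv (a ^ 2 ^ e) (by rw [← pow_two, ← pow_mul, ← pow_succ, h1 a ha])
  have hv0 : v ≠ 0 := fun e => h3 (by rw [← hv, e, h.ι0])
  obtain ⟨b, c, i⟩ := exists_one u hu
  obtain ⟨b', c', i'⟩ := exists_one v hv0
  obtain ⟨n, hn⟩ := h.ind.hs _ _ _ i
  obtain ⟨m, hm⟩ := h.ind.hs _ _ _ i'
  have hn1 : ψ n e1 = u := by rw [hn]; simp [lf, e1]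
  have hm1 : ψ m e1 = v := by rw [hm]; simp [lf, e1]
  refine ⟨n * m⁻¹ * a * (n * m⁻¹)⁻¹, h.nrmA.conj_mem _ ha _, ?_⟩
  rw [conj_pow, ← hv, h.conj, ← hm1, ← emul, ← map_mul, inv_mul_cancel_right, hn1]

theorem root {e : ℕ} (h2 : ∀ u, ∃ a ∈ S ⊓ 𝒞(S), a ^ 2 ^ e = ι u) {b : N} (hb : b ∈ S)
    (hb2 : b * b ∈ S ⊓ 𝒞(S)) (hb3 : b ^ 2 ^ (e + 1) = 1) : b ∈ S ⊓ 𝒞(S) := by
  have cm : ∀ a ∈ S, ∀ c ∈ S ⊓ 𝒞(S), Commute a c := fun a ha c hc => hc.2 a ha
  have k : ∀ j ≤ e, ∀ a ∈ S ⊓ 𝒞(S), a ^ 2 ^ j = 1 → ∃ c ∈ S ⊓ 𝒞(S), a = c * c := fun j => by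
    induction j with
    | zero => exact fun _ a _ ha => ⟨1, one_mem _, by simpa using ha⟩
    | succ j ih =>
      intro hj a ha ha1
      obtain ⟨u, hu⟩ := h.inv (a ^ 2 ^ j) (by rw [← pow_two, ← pow_mul, ← pow_succ, ha1])
      obtain ⟨c, hc, hc1⟩ := h2 u
      obtain ⟨d, rfl⟩ : ∃ d, e = d + 1 + j := ⟨e - 1 - j, by omega⟩
      have hc2 : c ^ 2 ^ (d + 1) ∈ S ⊓ 𝒞(S) := pow_mem hc _
      obtain ⟨c', hc', e'⟩ := ih (by omega) (a * (c ^ 2 ^ (d + 1))⁻¹) (mul_mem ha (inv_mem hc2)) (by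
        rw [(cm a ha.1 _ (inv_mem hc2)).mul_pow, inv_pow, ← pow_mul, ← pow_add, hc1, hu, mul_inv_cancel])
      refine ⟨c' * c ^ 2 ^ d, mul_mem hc' (pow_mem hc _), ?_⟩
      rw [← pow_two, (cm c' hc'.1 _ (pow_mem hc _)).mul_pow, pow_two c', ← e', ← pow_mul, ← pow_succ,
        inv_mul_cancel_right]
  obtain ⟨c, hc, e'⟩ := k e le_rfl _ hb2 (by rw [← pow_two, ← pow_mul, ← pow_succ', hb3])
  obtain ⟨u, hu⟩ := h.inv (b * c⁻¹) (by
    rw [← pow_two, (cm b hb _ (inv_mem hc)).mul_pow, pow_two, e', pow_two]; group)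
  have := mul_mem (h.ι_mem u) hc
  rwa [hu, inv_mul_cancel_right] at this

theorem fpf {κ : N} (hκ : ∀ u, ψ κ u = u → u = 0) {s : N} (hs : s ∈ S) :
    ∃ x ∈ S, s = x⁻¹ * (κ * x * κ⁻¹) := by
  have k : ∀ x ∈ S, κ * x * κ⁻¹ = x → x = 1 := fun x hx e => by
    obtain ⟨n, hn⟩ := h.pg ⟨x, hx⟩
    replace hn : x ^ 2 ^ n = 1 := congrArg Subtype.val hn
    induction n with
    | zero => simpa using hn
    | succ n ih =>
      apply ih
      obtain ⟨u, hu⟩ := h.inv (x ^ 2 ^ n) (by rw [← pow_two, ← pow_mul, ← pow_succ, hn])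
      have := h.conj κ u
      rw [hu, ← conj_pow, e, ← hu] at this
      rw [← hu, hκ u (h.inj this).symm, h.ι0]
  let F : S → S := fun x => ⟨x.1⁻¹ * (κ * x.1 * κ⁻¹), mul_mem (inv_mem x.2) (h.nrm.conj_mem _ x.2 _)⟩
  have hF : Function.Injective F := fun x y e => by
    have e' : x.1⁻¹ * (κ * x.1 * κ⁻¹) = y.1⁻¹ * (κ * y.1 * κ⁻¹) := congrArg Subtype.val e
    have := k (x.1 * y.1⁻¹) (mul_mem x.2 (inv_mem y.2)) (by
      calc κ * (x.1 * y.1⁻¹) * κ⁻¹ = x.1 * (x.1⁻¹ * (κ * x.1 * κ⁻¹)) * (κ * y.1⁻¹ * κ⁻¹) := by group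
        _ = _ := by rw [e']; group)
    exact Subtype.ext (mul_inv_eq_one.1 this)
  obtain ⟨x, hx⟩ := Finite.surjective_of_injective hF ⟨s, hs⟩
  exact ⟨x.1, x.2, (congrArg Subtype.val hx).symm⟩

/-- an equivariant homomorphism `S → End E` kills `e1` -/
theorem hom_zero (Φ : N → AddMonoid.End E) (h1 : ∀ s ∈ S, ∀ t ∈ S, Φ (s * t) = Φ s + Φ t)
    (h2 : ∀ n, ∀ s ∈ S, Φ (n * s * n⁻¹) * ψ n = ψ n * Φ s) {s : N} (hs : s ∈ S) : Φ s e1 = 0 := by
  have ta : ∀ f g : AddMonoid.End E, tr ⇑(f + g) = tr ⇑f + tr ⇑g := fun f g => by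
    have : ∀ u, (f + g) u = f u + g u := fun _ => rfl
    simp only [tr, this, Prod.fst_add, Prod.snd_add]; ring
  have z2 : ∀ x : ZMod 2, x + x = 0 := by decide
  have f2 : ∀ f : AddMonoid.End E, f + f = 0 := fun f => AddMonoidHom.ext fun u => add_self _
  have h0 : Φ 1 = 0 := by
    have := h1 1 (one_mem _) 1 (one_mem _)
    rw [mul_one, f2] at this
    exact this
  have hi : ∀ x ∈ S, Φ x⁻¹ = Φ x := fun x hx => by
    have := h1 _ (inv_mem hx) _ hx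
    rw [inv_mul_cancel, h0] at this
    rw [← add_zero (Φ x⁻¹), ← f2 (Φ x), ← add_assoc, ← this, zero_add]
  have k : ∀ k ∈ ks, tr ⇑(Φ s) = 0 ∧ tr (⇑(Φ s) ∘ lf k.1 k.2.1 k.2.2) = 0 := fun k hk => by
    obtain ⟨κ, hκ⟩ := h.ind.hs _ _ _ (ks_fpf k hk).1
    obtain ⟨x, hx, e⟩ := h.fpf (κ := κ) (fun u hu => (ks_fpf k hk).2 u (by rw [← hκ, hu])) hs
    have e1 : Φ s = Φ x + Φ (κ * x * κ⁻¹) := by
      rw [e, h1 _ (inv_mem hx) _ (h.nrm.conj_mem _ hx _), hi x hx]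
    have e2 : Φ (κ * x * κ⁻¹) = ψ κ * Φ x * ψ κ⁻¹ := by
      rw [← h2 κ x hx, mul_assoc (Φ _), ← map_mul, mul_inv_cancel, map_one, mul_one]
    constructor
    · rw [e1, ta, e2, tr_comm, ← mul_assoc, ← map_mul, inv_mul_cancel, map_one, one_mul, z2]
    · rw [show ⇑(Φ s) ∘ lf k.1 k.2.1 k.2.2 = ⇑(Φ s * ψ κ) from funext fun u => by
        rw [emul, hκ]; rfl, e1, add_mul, ta, h2 κ x hx, tr_comm, z2]
  have e : ⇑(Φ s) = lf (Φ s e1) (Φ s e2) (Φ s e3) := funext (eq_lf _)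
  refine end_zero _ (Φ s e2) (Φ s e3) ?_ fun k' hk => ?_
  · rw [← e]; exact (k _ (List.mem_cons_self)).1
  · rw [← e]; exact (k k' hk).2

theorem comm : IsMulCommutative S := by
  classical
  have := h.nrm
  have := h.nrmA
  have : Fact (Nat.Prime 2) := ⟨Nat.prime_two⟩
  set A := S ⊓ 𝒞(S) with hA
  have cm : ∀ a ∈ S, ∀ c ∈ A, Commute a c := fun a ha c hc => hc.2 a ha
  obtain ⟨e, he1, he2⟩ := h.exists_exp
  let π := QuotientGroup.mk' A
  have π1 : ∀ x, π x = 1 ↔ x ∈ A := fun x => QuotientGroup.eq_one_iff x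
  let B : Subgroup N :=
    { carrier := {b | b ∈ S ∧ π b * π b = 1 ∧ ∀ s ∈ S, Commute (π s) (π b)}
      one_mem' := ⟨one_mem _, by simp, fun s _ => by simp⟩
      mul_mem' := fun {a b} ha hb => ⟨mul_mem ha.1 hb.1, by
        rw [map_mul, ← pow_two, (hb.2.2 a ha.1).mul_pow, pow_two, pow_two, ha.2.1, hb.2.1, one_mul],
        fun s hs => by rw [map_mul]; exact (ha.2.2 s hs).mul_right (hb.2.2 s hs)⟩
      inv_mem' := fun {a} ha => ⟨inv_mem ha.1, by rw [map_inv, ← mul_inv_rev, ha.2.1, inv_one],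
        fun s hs => by rw [map_inv]; exact (ha.2.2 s hs).inv_right⟩ }
  have mB : ∀ b, b ∈ B ↔ b ∈ S ∧ π b * π b = 1 ∧ ∀ s ∈ S, Commute (π s) (π b) := fun _ => Iff.rfl
  have nB : B.Normal := ⟨fun b hb g => ⟨h.nrm.conj_mem _ hb.1 _, by
    rw [← map_mul, show g * b * g⁻¹ * (g * b * g⁻¹) = g * (b * b) * g⁻¹ by group, map_mul, map_mul,
      map_mul, hb.2.1]; simp, fun s hs => by
    have := (hb.2.2 _ (h.nrm.conj_mem _ hs g⁻¹)).conj (π g)
    simpa [mul_assoc] using this⟩⟩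
  have AB : A ≤ B := fun a ha => ⟨ha.1, by rw [(π1 a).2 ha, one_mul], fun s _ => by
    rw [(π1 a).2 ha]; exact Commute.one_right _⟩
  let V := B.map π
  have nV : V.Normal := nB.map π (QuotientGroup.mk'_surjective A)
  have cV : IsMulCommutative V := ⟨⟨by
    rintro ⟨_, a, ha, rfl⟩ ⟨_, b, hb, rfl⟩
    exact Subtype.ext (hb.2.2 a ha.1)⟩⟩
  have lift : ∀ v : Ad V, ∃ b ∈ B, π b = v.val := fun v => v.mem
  choose l lB ll using lift
  have eqA : ∀ {b b' : N}, π b = π b' → ∃ a ∈ A, b' = b * a := fun {b b'} e =>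
    ⟨b⁻¹ * b', (π1 _).1 (by rw [map_mul, map_inv, e, inv_mul_cancel]), by group⟩
  have sqA : ∀ b ∈ B, b * b ∈ A := fun b hb => (π1 _).1 (by rw [map_mul, hb.2.1])
  have cA : ∀ s ∈ S, ∀ b ∈ B, ⁅s, b⁆ ∈ A := fun s hs b hb => (π1 _).1 (by
    rw [map_commutatorElement]; exact (hb.2.2 s hs).commutator_eq)
  have hσ : ∀ v : Ad V, ∃ u, ∀ b, π b = v.val → ι u = b ^ 2 ^ (e + 1) := fun v => by
    obtain ⟨u, hu⟩ := h.inv (l v ^ 2 ^ (e + 1)) (by
      rw [← pow_two, ← pow_mul, mul_comm, pow_mul, pow_two, he1 _ (sqA _ (lB v))])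
    refine ⟨u, fun b hb => ?_⟩
    obtain ⟨a, ha, rfl⟩ := eqA ((ll v).trans hb.symm)
    rw [(cm _ (lB v).1 _ ha).mul_pow, he1 a ha, mul_one, hu]
  choose σ hσ using hσ
  have hδ : ∀ (s : N) (v : Ad V), ∃ u, s ∈ S → ∀ b, π b = v.val → ι u = ⁅s, b⁆ := fun s v => by
    by_cases hs : s ∈ S
    swap
    · exact ⟨0, fun h' => absurd h' hs⟩
    have c1 := cm _ (lB v).1 _ (cA s hs _ (lB v))
    obtain ⟨u, hu⟩ := h.inv ⁅s, l v⁆ (by
      rw [← H9.commutator_mul_right_of_commute c1]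
      exact (cm s hs _ (sqA _ (lB v))).commutator_eq)
    refine ⟨u, fun _ b hb => ?_⟩
    obtain ⟨a, ha, rfl⟩ := eqA ((ll v).trans hb.symm)
    have c2 := (cm s hs a ha).commutator_eq
    rw [H9.commutator_mul_right_of_commute (by rw [c2]; exact Commute.one_right _), c2, mul_one, hu]
  choose δ hδ using hδ
  have δ1 : ∀ s ∈ S, ∀ v w, δ s (v + w) = δ s v + δ s w := fun s hs v w => h.inj (by
    rw [h.mul, hδ s _ hs (l v * l w) (by rw [map_mul, ll, ll]; rfl), hδ s _ hs _ (ll v), hδ s _ hs _ (ll w),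
      H9.commutator_mul_right_of_commute (cm _ (lB v).1 _ (cA s hs _ (lB w)))])
  have δ2 : ∀ s ∈ S, ∀ t ∈ S, ∀ v, δ (s * t) v = δ s v + δ t v := fun s hs t ht v => h.inj (by
    rw [add_comm, h.mul, hδ _ _ (mul_mem hs ht) _ (ll v), hδ s _ hs _ (ll v), hδ t _ ht _ (ll v),
      H9.commutator_mul_left_of_commute (cm _ hs _ (cA t ht _ (lB v)))])
  let ρ : N →* AddMonoid.End (Ad V) := (DistribMulAction.toAddMonoidEnd _ (Ad V)).comp π
  have ρl : ∀ n v, π (n * l v * n⁻¹) = (ρ n v).val := fun n v => by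
    rw [map_mul, map_mul, map_inv, ll]; rfl
  have δ3 : ∀ n, ∀ s ∈ S, ∀ v, δ (n * s * n⁻¹) (ρ n v) = ψ n (δ s v) := fun n s hs v => h.inj (by
    rw [← h.conj, hδ s _ hs _ (ll v), hδ _ _ (h.nrm.conj_mem _ hs n) _ (ρl n v), conjugate_commutatorElement])
  have M : Mod ψ ρ σ fun v =>
      (2 ^ (e + 1)).choose 2 • AddMonoidHom.mk' (δ (l v)) (δ1 _ (lB v).1) := by
    refine ⟨h.ind, fun n m hnm v => ?_, fun v => ?_, fun v => ⟨fun h0 => ?_, fun h0 => ?_⟩, fun n v => ?_,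
      fun v w => ?_⟩
    · have hs : m⁻¹ * n ∈ S := (h.mem _).2 fun u => by
        rw [map_mul, emul, hnm, ← emul, ← map_mul]; simp
      apply Ad.ext
      rw [← ρl, ← ρl, show n * l v * n⁻¹ = m * ((m⁻¹ * n) * l v * (m⁻¹ * n)⁻¹) * m⁻¹ by group]
      simp only [map_mul π m, map_mul π _ m⁻¹, map_mul π (_ * l v), map_mul π _ (l v), map_inv π]
      rw [((lB v).2.2 _ hs).eq, mul_inv_cancel_right]
    · apply Ad.ext
      rw [Ad.val_add, ← ll]; exact (lB v).2.1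
    · apply Ad.ext
      rw [← ll, Ad.val_zero, π1]
      exact h.root he2 (lB v).1 (sqA _ (lB v)) (by rw [← hσ v _ (ll v), h0, h.ι0])
    · apply h.inj
      rw [hσ v 1 (by rw [h0]; simp), h.ι0, one_pow]
    · apply h.inj
      rw [← h.conj, hσ v _ (ll v), hσ _ _ (ρl n v), conj_pow]
    · apply h.inj
      have c := cA _ (lB v).1 _ (lB w)
      rw [add_comm (σ v), h.mul, h.mul, hσ _ (l w * l v) (by rw [add_comm, map_mul, ll, ll]; rfl),
        hσ _ _ (ll v), hσ _ _ (ll w), H9.mul_pow_class_two (cm _ (lB w).1 _ c) (cm _ (lB v).1 _ c),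
        AddMonoidHom.nsmul_apply, h.ι_nsmul]
      congr 2
      exact (hδ _ _ (lB v).1 _ (ll w)).symm
  by_contra hne
  have hv : ∃ v : Ad V, v ≠ 0 := by
    have hp : IsPGroup 2 (S.map π) := h.pg.map π
    have hn : Nontrivial (S.map π) := by
      rw [nontrivial_iff_ne_bot]
      intro e
      refine hne ⟨⟨fun a b => Subtype.ext ?_⟩⟩
      have : π b ∈ S.map π := mem_map_of_mem π b.2
      rw [e, mem_bot, π1] at this
      exact cm _ a.2 _ this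
    have := hp.center_nontrivial
    obtain ⟨z, hz⟩ := exists_prime_orderOf_dvd_card' (G := center (S.map π)) 2 (by
      obtain ⟨n, hn0, hn⟩ := (hp.to_subgroup _).nontrivial_iff_card.1 this
      rw [hn]; exact dvd_pow_self 2 hn0.ne')
    obtain ⟨⟨_, b, hb, rfl⟩, hc⟩ := z
    have h2 := pow_orderOf_eq_one (⟨⟨π b, b, hb, rfl⟩, hc⟩ : center (S.map π))
    rw [hz, pow_two] at h2
    refine ⟨Ad.mk (π b) ⟨b, ⟨hb, congrArg (fun x => x.1.1) h2, fun s hs => ?_⟩, rfl⟩, fun e => ?_⟩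
    · exact congrArg Subtype.val (mem_center_iff.1 hc ⟨π s, s, hs, rfl⟩)
    · have e' : π b = 1 := Ad.ext_iff.1 e
      have : (⟨⟨π b, b, hb, rfl⟩, hc⟩ : center (S.map π)) = 1 := Subtype.ext (Subtype.ext e')
      rw [this, orderOf_one] at hz
      omega
  obtain ⟨v, hv⟩ := hv
  obtain ⟨f, f1, f2⟩ := M.exists_emb hv
  let Φ : N → AddMonoid.End E := fun s =>
    if hs : s ∈ S then (AddMonoidHom.mk' (δ s) (δ1 s hs)).comp f else 0
  have hΦ : ∀ s ∈ S, ∀ z, Φ s z = δ s (f z) := fun s hs z => by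
    have : Φ s = (AddMonoidHom.mk' (δ s) (δ1 s hs)).comp f := dif_pos hs
    rw [this]; rfl
  have k := fun s hs => h.hom_zero Φ (fun s hs t ht => AddMonoidHom.ext fun z => by
      change Φ (s * t) z = Φ s z + Φ t z
      rw [hΦ _ (mul_mem hs ht), hΦ s hs, hΦ t ht, δ2 s hs t ht])
    (fun n s hs => AddMonoidHom.ext fun z => by
      change Φ _ (ψ n z) = ψ n (Φ s z)
      rw [hΦ _ (h.nrm.conj_mem _ hs n), hΦ s hs, f1, δ3 n s hs]) (s := s) hs
  apply f2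
  apply Ad.ext
  rw [← ll, Ad.val_zero, π1]
  refine ⟨(lB _).1, fun s hs => ?_⟩
  have := hδ s _ hs _ (ll (f e1))
  rw [← hΦ s hs, k s hs, h.ι0] at this
  exact commutatorElement_eq_one_iff_mul_comm.1 this.symm

end St
end H15.L3
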