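import Cfsg.Agent.H4.GamL2
import Cfsg.Prelude.Def_Perm

/-!
Fields in which all planes over the prime field are semilinearly equivalent.
-/

set_option autoImplicit false
set_option linter.unusedSectionVars false

namespace H15.CJ

open Subgroup
open scoped MatrixGroups

variable {F : Type*} [Field F] {p : ℕ} [hp : Fact p.Prime] [Algebra (ZMod p) F]

local notation "ι" => algebraMap (ZMod p) F

/-- the plane spanned by `1` and `w` -/
def pl (p : ℕ) [Algebra (ZMod p) F] (w : F) : Multiplicative (ZMod p × ZMod p) →* Multiplicative F :=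
  AddMonoidHom.toMultiplicative
    { toFun := fun x => algebraMap (ZMod p) F x.1 + algebraMap (ZMod p) F x.2 * w
      map_zero' := by simp
      map_add' := fun x y => by simp only [Prod.fst_add, Prod.snd_add, map_add]; ring }

theorem pl_apply (w : F) (x : Multiplicative (ZMod p × ZMod p)) :
    (pl p w x).toAdd = ι x.toAdd.1 + ι x.toAdd.2 * w := rfl

theorem indep {w : F} (hw : w ∉ Set.range ι) {i j : ZMod p} (h : ι i + ι j * w = 0) :
    i = 0 ∧ j = 0 := by
  have hj : j = 0 := by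
    by_contra k
    refine hw ⟨-i / j, ?_⟩
    have : ι j ≠ 0 := (map_ne_zero _).2 k
    rw [map_div₀, map_neg, div_eq_iff this]
    linear_combination -h
  rw [hj, map_zero, zero_mul, add_zero, map_eq_zero] at h
  exact ⟨h, hj⟩

theorem pl_inj {w : F} (hw : w ∉ Set.range ι) : Function.Injective (pl p w) :=
  (injective_iff_map_eq_one _).2 fun x hx => by
    obtain ⟨h1, h2⟩ := indep hw (congrArg Multiplicative.toAdd hx :)
    exact Multiplicative.toAdd.injective (Prod.ext h1 h2)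

theorem card_pl {G : Type*} [Group G] {f : Multiplicative F →* G} (hf : Function.Injective f) {w : F}
    (hw : w ∉ Set.range ι) : Nat.card (f.comp (pl p w)).range = p ^ 2 := by
  rw [← Nat.card_congr (MonoidHom.ofInjective (f := f.comp (pl p w)) (hf.comp (pl_inj hw))).toEquiv]
  simp [pow_two]

/-- all planes through `1` are equivalent under semilinear maps with automorphism in `T` -/
def Cov (p : ℕ) [Algebra (ZMod p) F] (T : Set (F ≃+* F)) : Prop :=
  ∀ w w' : F, w ∉ Set.range (algebraMap (ZMod p) F) → w' ∉ Set.range (algebraMap (ZMod p) F) →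
    ∃ σ ∈ T, ∃ i j k l : ZMod p, algebraMap (ZMod p) F i + algebraMap (ZMod p) F j * w' ≠ 0 ∧
      (algebraMap (ZMod p) F i + algebraMap (ZMod p) F j * w') * σ w =
        algebraMap (ZMod p) F k + algebraMap (ZMod p) F l * w'

theorem aut_fix (σ : F ≃+* F) (i : ZMod p) : σ (ι i) = ι i :=
  DFunLike.congr_fun (RingHom.ext_zmod ((σ : F →+* F).comp ι) ι) i

open Classical in
theorem Cov.surj {T : Set (F ≃+* F)} (h : Cov p T) {w : F} (hw : w ∉ Set.range ι) (x : F) :
    ∃ σ ∈ T, ∃ a b e : ZMod p, x = if b = 0 then ι a + ι e * σ w else ι a + ι b / (σ w + ι e) := by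
  by_cases hx : x ∈ Set.range ι
  · obtain ⟨σ, hσ, -⟩ := h w w hw hw
    obtain ⟨a, rfl⟩ := hx
    exact ⟨σ, hσ, a, 0, 0, by simp⟩
  obtain ⟨σ, hσ, i, j, k, l, h1, h2⟩ := h w x hw hx
  have hs : σ w ∉ Set.range ι := fun ⟨a, ha⟩ => hw ⟨a, σ.injective (by rw [aut_fix, ha])⟩
  refine ⟨σ, hσ, ?_⟩
  by_cases hj : j = 0
  · have hl : l ≠ 0 := by
      rintro rfl
      subst hj
      obtain ⟨-, k2⟩ := indep hs (i := -k) (j := i) (by
        rw [map_neg]; simp only [map_zero, zero_mul, add_zero] at h2; linear_combination h2)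
      simp [k2] at h1
    have : ι l ≠ 0 := (map_ne_zero _).2 hl
    refine ⟨-k / l, 0, i / l, ?_⟩
    rw [if_pos rfl, map_div₀, map_div₀, map_neg]
    rw [hj, map_zero, zero_mul, add_zero] at h2
    field_simp
    linear_combination -h2
  have hj' : ι j ≠ 0 := (map_ne_zero _).2 hj
  have h3 : σ w + ι (-l / j) ≠ 0 := fun e => by
    simpa using (indep hs (i := -l / j) (j := 1) (by rw [map_one, one_mul, add_comm, e])).2
  have h4 : x = ι (-i / j) + ι ((k * j - i * l) / j ^ 2) / (σ w + ι (-l / j)) := by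
    rw [← sub_eq_iff_eq_add', eq_div_iff h3]
    simp only [map_div₀, map_neg, map_sub, map_mul, map_pow]
    field_simp
    linear_combination ι j * h2
  refine ⟨-i / j, (k * j - i * l) / j ^ 2, -l / j, ?_⟩
  rw [if_neg fun e => hx ⟨-i / j, by rw [h4, e]; simp⟩, ← h4]

theorem exists_not_mem [Fintype F] (h : p < Fintype.card F) : ∃ w, w ∉ Set.range ι := by
  by_contra! k
  have := Fintype.card_le_of_surjective _ k
  rw [ZMod.card] at this
  omega

theorem Cov.card_le [Fintype F] {T : Set (F ≃+* F)} (h : Cov p T) (hq : p < Fintype.card F) :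
    Fintype.card F ≤ Nat.card T * p ^ 3 := by
  classical
  obtain ⟨w, hw⟩ := exists_not_mem hq
  have : Finite (F ≃+* F) := Finite.of_injective _ DFunLike.coe_injective
  have := Nat.card_le_card_of_surjective (fun y : T × ZMod p × ZMod p × ZMod p =>
    if y.2.2.1 = 0 then ι y.2.1 + ι y.2.2.2 * y.1.1 w else ι y.2.1 + ι y.2.2.1 / (y.1.1 w + ι y.2.2.2))
    fun x => let ⟨σ, hσ, a, b, e, k⟩ := h.surj hw x; ⟨(⟨σ, hσ⟩, a, b, e), k.symm⟩
  simp only [Nat.card_prod, Nat.card_zmod, Nat.card_eq_fintype_card (α := F)] at this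
  exact this.trans_eq (by ring)

theorem card_aut [Fintype F] {n : ℕ} (hF : Fintype.card F = p ^ n) : Nat.card (F ≃+* F) = n := by
  have e : (F ≃+* F) ≃ (F ≃ₐ[ZMod p] F) :=
    { toFun := fun σ => AlgEquiv.ofRingEquiv (f := σ) (aut_fix σ)
      invFun := fun σ => σ.toRingEquiv
      left_inv := fun _ => rfl
      right_inv := fun _ => rfl }
  rw [Nat.card_congr e, IsGalois.card_aut_eq_finrank]
  refine Nat.pow_right_injective hp.out.two_le ?_
  dsimp only
  rw [← hF, FiniteField.pow_finrank_eq_card]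

theorem Cov.not_sixteen [Fintype F] [Algebra (ZMod 2) F] {T : Set (F ≃+* F)} (h : Cov 2 T) :
    Fintype.card F ≠ 16 := fun hF => by
  classical
  obtain ⟨u, hu⟩ := exists_prime_orderOf_dvd_card (G := Fˣ) 3 (by rw [Fintype.card_units, hF]; decide)
  have h3 : (u : F) ^ 3 = 1 := by rw [← Units.val_pow_eq_pow_val, ← hu, pow_orderOf_eq_one]; rfl
  have hw : (u : F) ∉ Set.range (algebraMap (ZMod 2) F) := by
    rintro ⟨a, ha⟩
    fin_cases a
    · exact u.ne_zero (ha.symm.trans (map_zero _))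
    · rw [Units.val_eq_one.1 (ha.symm.trans (map_one _)), orderOf_one] at hu
      omega
  haveI : CharP F 2 := charP_of_injective_algebraMap (algebraMap (ZMod 2) F).injective 2
  let E : Subfield F := RingHom.eqLocusField (iterateFrobenius F 2 2) (RingHom.id F)
  have hE : ∀ x, x ∈ E ↔ x ^ 4 = x := fun x => Iff.rfl
  have h1 : ∀ a, algebraMap (ZMod 2) F a ∈ E := fun a => by
    fin_cases a
    exacts [(map_zero (algebraMap (ZMod 2) F)).symm ▸ E.zero_mem,
      (map_one (algebraMap (ZMod 2) F)).symm ▸ E.one_mem]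
  have h2 : ∀ x, x ∈ E := fun x => by
    obtain ⟨σ, -, a, b, e, rfl⟩ := h.surj hw x
    have : σ u ∈ E := (hE _).2 (by rw [← map_pow, pow_succ, h3, one_mul])
    split_ifs
    exacts [add_mem (h1 _) (mul_mem (h1 _) this), add_mem (h1 _) (div_mem (h1 _) (add_mem this (h1 _)))]
  obtain ⟨g, hg⟩ := IsCyclic.exists_ofOrder_eq_natCard (α := Fˣ)
  have : g ^ 3 = 1 := Units.ext (mul_right_cancel₀ g.ne_zero (by
    rw [Units.val_pow_eq_pow_val, ← pow_succ, (hE _).1 (h2 g), Units.val_one, one_mul]))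
  have := orderOf_dvd_of_pow_eq_one this
  rw [hg, Nat.card_eq_fintype_card, Fintype.card_units, hF] at this
  omega

theorem Cov.cases [Fintype F] {T : Set (F ≃+* F)} (h : Cov p T) {n : ℕ}
    (hF : Fintype.card F = p ^ n) :
    n ≤ 3 ∨ (p = 3 ∧ n = 4) ∨ (p = 2 ∧ n = 5 ∧ ∃ σ ∈ T, σ ≠ 1) := by
  rcases le_or_gt n 3 with k | k
  · exact Or.inl k
  obtain ⟨m, rfl⟩ := Nat.exists_eq_add_of_lt k
  have : Finite (F ≃+* F) := Finite.of_injective _ DFunLike.coe_injective
  have h1 := h.card_le (by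
    rw [hF]; exact (pow_one p).symm.trans_lt (Nat.pow_lt_pow_right hp.out.one_lt (by omega)))
  rw [hF, show p ^ (3 + m + 1) = p ^ (m + 1) * p ^ 3 by ring] at h1
  have h2 := Nat.le_of_mul_le_mul_right h1 (pow_pos hp.out.pos 3)
  have h3 : Nat.card T ≤ 3 + m + 1 := (card_aut hF) ▸ Finite.card_subtype_le _
  have h4 : ∀ m, 3 + (m + 2) + 1 < 2 ^ (m + 2 + 1) := fun m => by
    have := @Nat.lt_two_pow_self m
    rw [show 2 ^ (m + 2 + 1) = 8 * 2 ^ m by ring]; omega
  have h5 := Nat.pow_le_pow_left hp.out.two_le (m + 1)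
  rcases m with _ | _ | m
  · rcases hp.out.eq_two_or_odd' with rfl | ⟨j, hj⟩
    · exact absurd hF h.not_sixteen
    · have := hp.out.two_le
      refine Or.inr (Or.inl ⟨?_, rfl⟩)
      simp only [zero_add, pow_one] at h2
      omega
  · have : p = 2 := by
      have := hp.out.two_le
      rw [show p ^ (0 + 1 + 1) = p * p by ring] at h2
      nlinarith
    subst this
    refine Or.inr (Or.inr ⟨rfl, rfl, ?_⟩)
    by_contra! k1
    have := Nat.card_le_card_of_injective (fun _ : T => ()) fun a b _ =>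
      Subtype.ext ((k1 a a.2).trans (k1 b b.2).symm)
    rw [Nat.card_unique (α := Unit)] at this
    omega
  · exact absurd (h5.trans (h2.trans h3)) (not_le.2 (h4 m))

/-- the unipotent upper triangular elements of `PSL₂(F)` -/
def uu (F : Type*) [Field F] : Multiplicative F →* PSL(2, F) :=
  (QuotientGroup.mk' _).comp
    { toFun := fun t => H4.upT t.toAdd
      map_one' := H4.upT_zero
      map_mul' := fun s t => H4.upT_add _ _ }

theorem uu_conj {a : PGL(2, F)} {σ : F ≃+* F} {t c d : F}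
    (h1 : H4.psl2pgl (uu F (.ofAdd c)) = a * H4.fld σ (H4.psl2pgl (uu F (.ofAdd 1))) * a⁻¹)
    (h2 : H4.psl2pgl (uu F (.ofAdd d)) = a * H4.fld σ (H4.psl2pgl (uu F (.ofAdd t))) * a⁻¹) :
    c ≠ 0 ∧ c * σ t = d := by
  obtain ⟨g, rfl⟩ : ∃ g, H4.pmk g = a := Matrix.ProjGenLinGroup.mk_surjective a
  have k : ∀ c t : F, H4.psl2pgl (uu F (.ofAdd c)) =
      H4.pmk g * H4.fld σ (H4.psl2pgl (uu F (.ofAdd t))) * (H4.pmk g)⁻¹ →
      ∃ r : F, g.1 * !![1, σ t; 0, 1] = r • (!![1, c; 0, 1] * g.1) := fun c t h => by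
    rw [eq_mul_inv_iff_mul_eq] at h
    change H4.smk (H4.upT c) * H4.pmk g = H4.pmk g * H4.fld σ (H4.smk (H4.upT t)) at h
    rw [H4.fld_smk] at h
    obtain ⟨r, hr⟩ := H4.pmk_eq_iff.1 (((map_mul H4.pmk _ g).trans h).trans (map_mul H4.pmk g _).symm)
    refine ⟨r, Eq.trans ?_ hr⟩
    congr 1
    ext i j
    fin_cases i <;> fin_cases j <;> simp [H4.coe_upT]
  obtain ⟨r, hr⟩ := k _ _ h1
  obtain ⟨s, hs⟩ := k _ _ h2
  have hd := g.det_ne_zero
  rw [Matrix.det_fin_two] at hd
  have e := fun i j => congrFun (congrFun hr i) j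
  have e' := fun i j => congrFun (congrFun hs i) j
  have e1 := e 0 1
  have e2 := e 1 0
  have e3 := e 1 1
  have e4 := e' 0 1
  have e5 := e' 1 1
  simp [Matrix.mul_apply, Matrix.vecMul, Matrix.vecHead, Matrix.vecTail, dotProduct,
    Fin.sum_univ_two] at e1 e2 e3 e4 e5
  have h0 : g.1 1 0 = 0 := by
    by_contra k1
    have : r = 1 := (mul_right_cancel₀ k1 (e2.symm.trans (one_mul _).symm))
    rw [this] at e3
    exact k1 (by linear_combination e3)
  rw [h0] at e3 e5 hd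
  have h3 : g.1 1 1 ≠ 0 := fun k => hd (by rw [k]; ring)
  have hr1 : r = 1 := mul_right_cancel₀ h3 (by linear_combination -e3)
  have hs1 : s = 1 := mul_right_cancel₀ h3 (by linear_combination -e5)
  subst hr1 hs1
  refine ⟨fun k => hd ?_, mul_right_cancel₀ h3 (by linear_combination e4 - σ t * e1)⟩
  rw [k] at e1
  linear_combination g.1 1 1 * e1

theorem uu_inj : Function.Injective (uu F) := (injective_iff_map_eq_one _).2 fun t ht => by
  have := uu_conj (a := 1) (σ := 1) (t := 0) (c := 1) (d := t.toAdd) (by simp [H4.fld_one])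
    (by simp [ht])
  exact Multiplicative.toAdd.injective (this.2.symm.trans (by simp))

theorem cov_psl {T : Set (F ≃+* F)} (h : ∀ A B : Subgroup PSL(2, F), Nat.card A = p ^ 2 →
    Nat.card B = p ^ 2 → ∃ σ ∈ T, ∃ a : PGL(2, F), ∀ y ∈ A, ∃ z ∈ B,
      H4.psl2pgl z = a * H4.fld σ (H4.psl2pgl y) * a⁻¹) : Cov p T := fun w w' hw hw' => by
  obtain ⟨σ, hσ, a, k⟩ := h _ _ (card_pl uu_inj hw) (card_pl uu_inj hw')
  obtain ⟨_, ⟨x, rfl⟩, h1⟩ := k (uu F (.ofAdd 1)) ⟨.ofAdd (1, 0), congrArg (uu F)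
    (Multiplicative.toAdd.injective (by simp [pl_apply]))⟩
  obtain ⟨_, ⟨y, rfl⟩, h2⟩ := k (uu F (.ofAdd w)) ⟨.ofAdd (0, 1), congrArg (uu F)
    (Multiplicative.toAdd.injective (by simp [pl_apply]))⟩
  exact ⟨σ, hσ, _, _, _, _, uu_conj (c := (pl p w' x).toAdd) (d := (pl p w' y).toAdd) h1 h2⟩

/-- subgroups of the semi-affine group which are doubly transitive and contain the translations -/
theorem aff_cases [Fintype F] {R : Subgroup (Equiv.Perm F)} (hR : R ≤ Cfsg.semiaffineGroup F)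
    (ht : ∀ b, ∃ g ∈ R, ∀ x, g x = x + b) (h2 : ∀ c ≠ 0, ∃ g ∈ R, g 0 = 0 ∧ g 1 = c)
    (hq : (Fintype.card F - 1).Prime) (hn : (Nat.card (F ≃+* F)).Prime)
    (hl : Nat.card (F ≃+* F) < Fintype.card F - 1) :
    R = Cfsg.affineGroup F ∨ R = Cfsg.semiaffineGroup F := by
  classical
  have : Finite (F ≃+* F) := Finite.of_injective _ DFunLike.coe_injective
  have k1 : ∀ c : Fˣ, ∃ σ : F ≃+* F, ∃ g ∈ R, ∀ x, g x = c * σ x := fun c => by
    obtain ⟨g, hg, e0, e1⟩ := h2 c c.ne_zero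
    obtain ⟨a, b, σ, k⟩ := hR hg
    rw [k, map_zero, mul_zero, zero_add] at e0
    rw [k, map_one, mul_one, e0, add_zero] at e1
    exact ⟨σ, g, hg, fun x => by rw [k, e0, add_zero, e1]⟩
  choose s hs using k1
  let K : Subgroup Fˣ :=
    { carrier := {c | ∃ g ∈ R, ∀ x, g x = c * x}
      one_mem' := ⟨1, one_mem _, by simp⟩
      mul_mem' := fun ⟨g, hg, e⟩ ⟨k, hk, e'⟩ => ⟨g * k, mul_mem hg hk, fun x => by
        simp [e, e', mul_assoc]⟩
      inv_mem' := fun ⟨g, hg, e⟩ => ⟨g⁻¹, inv_mem hg, fun x => g.injective (by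
        rw [Equiv.Perm.inv_def, Equiv.apply_symm_apply]; simp [e])⟩ }
  have hK : K = ⊤ := by
    haveI : Fact (Nat.card Fˣ).Prime := ⟨by rwa [Nat.card_eq_fintype_card, Fintype.card_units]⟩
    refine K.eq_bot_or_eq_top_of_prime_card.resolve_left fun e => ?_
    refine absurd (Nat.card_le_card_of_injective s fun a b hab => ?_)
      (by rw [Nat.card_eq_fintype_card (α := Fˣ), Fintype.card_units]; omega)
    obtain ⟨g, hg, e1⟩ := hs a
    obtain ⟨k, hk, e2⟩ := hs b
    have : a * b⁻¹ ∈ K := ⟨g * k⁻¹, mul_mem hg (inv_mem hk), fun x => by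
      obtain ⟨y, rfl⟩ := k.surjective x
      rw [Equiv.Perm.mul_apply, Equiv.Perm.inv_def, Equiv.symm_apply_apply]
      simp [e1, e2, hab, mul_assoc]⟩
    rwa [e, mem_bot, mul_inv_eq_one] at this
  have k2 : Cfsg.affineGroup F ≤ R := fun g ⟨a, b, e⟩ => by
    obtain ⟨k, hk, e1⟩ : a ∈ K := hK.ge (mem_top a)
    obtain ⟨t, h3, e2⟩ := ht b
    exact (Equiv.ext fun x => by simp [e, e1, e2] : t * k = g) ▸ mul_mem h3 hk
  let S : Subgroup (F ≃+* F) :=
    { carrier := {σ | σ.toEquiv ∈ R}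
      one_mem' := R.one_mem
      mul_mem' := fun ha hb => R.mul_mem ha hb
      inv_mem' := fun ha => R.inv_mem ha }
  have k3 : ∀ (g : Equiv.Perm F) (a : Fˣ) (b : F) (σ : F ≃+* F), (∀ x, g x = a * σ x + b) →
      ∃ k ∈ Cfsg.affineGroup F, g = k * σ.toEquiv := fun g a b σ e =>
    ⟨g * σ.toEquiv⁻¹, ⟨a, b, fun x => by
      obtain ⟨y, rfl⟩ := σ.surjective x
      rw [← e, Equiv.Perm.mul_apply]
      exact congrArg g (σ.symm_apply_apply y)⟩, by simp⟩
  haveI := Fact.mk hn
  refine S.eq_bot_or_eq_top_of_prime_card.imp (fun e => le_antisymm (fun g hg => ?_) k2)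
    fun e => le_antisymm hR fun g ⟨a, b, σ, hg⟩ => ?_
  · obtain ⟨a, b, σ, k⟩ := hR hg
    obtain ⟨u, hu, rfl⟩ := k3 g a b σ k
    have : σ ∈ S := (mul_mem_cancel_left (k2 hu)).1 hg
    rw [e, mem_bot] at this
    subst this
    exact mul_mem hu (one_mem _)
  · obtain ⟨u, hu, rfl⟩ := k3 g a b σ hg
    exact mul_mem (k2 hu) (e.ge (mem_top σ) : σ ∈ S)

end H15.CJ
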