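import Cfsg.Agent.H15.CJ1
import Cfsg.Agent.H26.JRx
import Cfsg.Agent.H26.JRd
import Cfsg.Agent.H26.JRe3
import Cfsg.Agent.H22.FldC
import Cfsg.Agent.S0204
import Cfsg.Agent.S0813
import Cfsg.Agent.S0265

/-!
Simple groups in which the subgroups of order `p` or `p²` are fused under automorphisms.
-/

set_option autoImplicit false
set_option linter.unusedSectionVars false

namespace H15.CJ

open Subgroup _root_.Cfsg H1 _root_.H15 H16 H16.GD H26.J
open H4 (L2D)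
open scoped MatrixGroups

universe u

/-- subgroups of the same order `p` or `p²` are fused under `T` -/
def AJ {M : Type*} [Group M] (T : Subgroup (MulAut M)) : Prop :=
  ∀ p : ℕ, p.Prime → ∀ A B : Subgroup M, Nat.card A = Nat.card B →
    (Nat.card A = p ∨ Nat.card A = p ^ 2) → ∃ β ∈ T, B = A.map β.toMonoidHom

/-- the inner automorphisms -/
abbrev Inn (M : Type*) [Group M] : Subgroup (MulAut M) := (MulAut.conj : M →* MulAut M).range

/-- the automorphisms induced on a normal subgroup -/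
abbrev Ind {G : Type*} [Group G] (M : Subgroup G) [M.Normal] : Subgroup (MulAut M) :=
  (MulAut.conjNormal : G →* MulAut M).range

variable {G : Type u} [Group G] [Finite G] {T : Subgroup (MulAut G)} {S : Subgroup G} {x y : G}

theorem AJ.one (h : AJ T) (hx : (orderOf x).Prime) (hy : orderOf x = orderOf y) :
    ∃ β ∈ T, β x ∈ zpowers y := by
  obtain ⟨β, hβ, e⟩ := h _ hx (zpowers x) (zpowers y) (by simp [hy]) (Or.inl (Nat.card_zpowers x))
  exact ⟨β, hβ, e ▸ mem_map_of_mem _ (mem_zpowers x)⟩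

theorem AJ.inv (h : AJ T) (hx : orderOf x = 2) (hy : orderOf y = 2) : ∃ β ∈ T, β x = y := by
  obtain ⟨β, hβ, e⟩ := h.one (hx ▸ Nat.prime_two) (hx.trans hy.symm)
  exact ⟨β, hβ, (mem_zp2 hy e).resolve_left fun k => ne_of_ord hx ((map_eq_one_iff _ β.injective).1 k)⟩

theorem AJ.sq (h : AJ T) {E : Subgroup G} (hE : IsKleinFour E) (hx : IsPGroup 2 (zpowers x)) :
    x * x = 1 := by
  by_contra k
  obtain ⟨n, hn⟩ := (IsPGroup.iff_card.1 hx)
  rw [Nat.card_zpowers] at hn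
  obtain ⟨m, rfl⟩ : ∃ m, n = m + 2 := by
    refine Nat.exists_eq_add_of_le' (not_lt.1 fun k1 => k ?_)
    rw [← pow_two, ← orderOf_dvd_iff_pow_eq_one, hn]
    exact (pow_dvd_pow 2 (by omega : n ≤ 1)).trans (pow_one 2).dvd
  have h4 : orderOf (x ^ 2 ^ m) = 4 := by
    rw [orderOf_pow_of_dvd (by positivity) (hn ▸ pow_dvd_pow 2 (by omega)), hn, pow_add,
      Nat.mul_div_cancel_left _ (by positivity)]
    rfl
  obtain ⟨β, -, e⟩ := h 2 Nat.prime_two E (zpowers (x ^ 2 ^ m)) (by simp [h4, hE.card_four])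
    (Or.inr hE.card_four)
  obtain ⟨a, ha, e1⟩ : x ^ 2 ^ m ∈ E.map β.toMonoidHom := e ▸ mem_zpowers _
  have := congrArg (fun z : E => β z) (IsKleinFour.mul_self (⟨a, ha⟩ : E))
  simp only [coe_mul, map_mul, coe_one, map_one] at this
  have := orderOf_dvd_of_pow_eq_one ((pow_two _).trans this)
  rw [show β a = x ^ 2 ^ m from e1, h4] at this
  omega

theorem AJ.comm (h : AJ T) {E : Subgroup G} (hE : IsKleinFour E) (hS : IsPGroup 2 S) :
    S ≤ C[S] ∧ ∀ x ∈ S, x * x = 1 := by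
  have k : ∀ x ∈ S, x * x = 1 := fun x hx => h.sq hE (hS.to_le (zpowers_le.2 hx))
  refine ⟨fun a ha b hb => ?_, k⟩
  have := k _ (mul_mem hb ha)
  rw [mul_eq_one_iff_eq_inv, mul_inv_rev, ← mul_eq_one_iff_eq_inv.1 (k a ha),
    ← mul_eq_one_iff_eq_inv.1 (k b hb)] at this
  exact this

theorem AJ.normal (h : AJ (Inn G)) (M : Subgroup G) [M.Normal] : AJ (Ind M) := by
  intro p hp A B h1 h2
  obtain ⟨_, ⟨g, rfl⟩, e⟩ := h p hp (A.map M.subtype) (B.map M.subtype)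
    (by rwa [card_map_of_injective M.subtype_injective, card_map_of_injective M.subtype_injective])
    (by rwa [card_map_of_injective M.subtype_injective])
  refine ⟨_, ⟨g, rfl⟩, map_injective M.subtype_injective ?_⟩
  rw [e, map_map, map_map]
  rfl

theorem AJ.mem (h : AJ (Inn G)) {M : Subgroup G} [hM : M.Normal] (hx : (orderOf x).Prime)
    (hd : orderOf x ∣ Nat.card M) : x ∈ M := by
  haveI := Fact.mk hx
  obtain ⟨y, hy⟩ := exists_prime_orderOf_dvd_card' _ hd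
  obtain ⟨_, ⟨g, rfl⟩, e⟩ := h.one hx (hy.symm.trans (orderOf_coe y).symm)
  exact hM.mem_comm_iff.1 (zpowers_le.2 y.2 e : g * x * g⁻¹ ∈ M) |> fun k => by simpa using k

section psl
variable {F : Type*} [Field F] [Fintype F] {p n : ℕ} [hp : Fact p.Prime]

theorem AJ.cov [Algebra (ZMod p) F] (h : AJ T) (e : G ≃* PSL(2, F)) :
    Cov p {σ : F ≃+* F | σ = 1 ∨ ¬ T ≤ Inn G} := cov_psl fun A B hA hB => by
  obtain ⟨β, hβ, k⟩ := h p hp.out (A.map e.symm.toMonoidHom) (B.map e.symm.toMonoidHom)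
    (by rw [card_map_of_injective e.symm.injective, card_map_of_injective e.symm.injective, hA, hB])
    (Or.inr (by rw [card_map_of_injective e.symm.injective, hA]))
  have k1 : ∀ y ∈ A, e (β (e.symm y)) ∈ B := fun y hy => by
    obtain ⟨z, hz, k2⟩ : β (e.symm y) ∈ B.map e.symm.toMonoidHom :=
      k ▸ mem_map_of_mem _ (mem_map_of_mem _ hy)
    rw [← k2]; simpa using hz
  by_cases hT : T ≤ Inn G
  · obtain ⟨g, rfl⟩ := hT hβ
    exact ⟨1, Or.inl rfl, H4.psl2pgl (e g), fun y hy => ⟨_, k1 y hy, by simp [H4.fld_one]⟩⟩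
  · obtain ⟨a, σ, k2⟩ := H4.exists_semi_psl (MulAut.congr e β)
    exact ⟨σ, Or.inr hT, a, fun y hy => ⟨_, k1 y hy, k2 y⟩⟩

theorem AJ.psl (h : AJ T) (e : G ≃* PSL(2, F)) (hF : Fintype.card F = p ^ n) :
    n ≤ 3 ∨ (p = 3 ∧ n = 4) ∨ (p = 2 ∧ n = 5 ∧ ¬ T ≤ Inn G) := by
  haveI : CharP F p := charP_of_card_eq_prime_pow hF
  letI := ZMod.algebra F p
  exact ((h.cov e).cases hF).imp_right (Or.imp_right fun ⟨k1, k2, σ, k3, k4⟩ =>
    ⟨k1, k2, k3.resolve_left k4⟩)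

theorem conj_inj (hZ : center G = ⊥) : Function.Injective (MulAut.conj : G →* MulAut G) :=
  (injective_iff_map_eq_one _).2 fun g hg => mem_bot.1 (hZ ▸ mem_center_iff.2 fun x =>
    (mul_inv_eq_iff_eq_mul.1 (DFunLike.congr_fun hg x)).symm)

theorem index_inn (hZ : center G = ⊥) (e : G ≃* PSL(2, F)) (hF : Fintype.card F = p ^ n)
    (h4 : 4 ≤ p ^ n) : (Inn G).index = Nat.gcd 2 (p ^ n - 1) * n := by
  have hn : 1 ≤ n := Nat.pos_of_ne_zero (by rintro rfl; simp at h4)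
  have h1 := Cfsg.Agent.S0813.result p n hn hF 2 le_rfl fun _ => h4
  have h2 := (Inn G).card_mul_index
  have h3 := H4.card_psl (F := F)
  rw [H4.sq_sub_one_eq] at h3
  rw [← Nat.card_congr (MonoidHom.ofInjective (conj_inj hZ)).toEquiv, Nat.card_congr (MulAut.congr e).toEquiv, h1,
    Cfsg.Agent.S0265.result, H4.card_sl2, ← h3, hF, Nat.card_congr e.toEquiv] at h2
  refine Nat.eq_of_mul_eq_mul_left (Nat.card_pos (α := PSL(2, F))) (h2.trans ?_)
  simp only [if_true]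
  ring

theorem exists_fld (e : G ≃* PSL(2, F)) (hF : Fintype.card F = p ^ n) (hn : n.Prime) :
    ∃ φ : MulAut G, orderOf φ = n ∧ φ ∉ Inn G := by
  haveI : CharP F p := charP_of_card_eq_prime_pow hF
  letI := ZMod.algebra F p
  haveI := Fact.mk hn
  have : Finite (F ≃+* F) := Finite.of_injective _ DFunLike.coe_injective
  obtain ⟨σ, hσ⟩ := exists_prime_orderOf_dvd_card' (G := F ≃+* F) n (card_aut hF).symm.dvd
  let φ := (MulAut.congr e).symm (H22.slFld (ι := Fin 2) σ)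
  have k : φ ∉ Inn G := by
    rintro ⟨g, hg⟩
    have k1 : ∀ t, H4.psl2pgl (uu F (.ofAdd (σ t))) = H4.psl2pgl (e g) *
        H4.fld 1 (H4.psl2pgl (uu F (.ofAdd t))) * (H4.psl2pgl (e g))⁻¹ := fun t => by
      have k2 : H22.slFld (ι := Fin 2) σ (uu F (.ofAdd t)) = uu F (.ofAdd (σ t)) :=
        H22.stdField_sl_iff.2 (H22.slFld_apply σ) (H4.upT t) (H4.upT (σ t)) (by
          ext i j; fin_cases i <;> fin_cases j <;> simp [H4.coe_upT])
      have k3 := congrArg e (DFunLike.congr_fun hg (e.symm (uu F (.ofAdd t))))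
      rw [H4.fld_one, ← k2, ← map_inv, ← map_mul, ← map_mul]
      simpa [φ] using congrArg H4.psl2pgl k3.symm
    have : σ = 1 := RingEquiv.ext fun t => by
      simpa using (uu_conj (k1 1) (k1 t)).2.symm
    rw [this, orderOf_one] at hσ
    exact hn.one_lt.ne hσ
  refine ⟨φ, orderOf_eq_prime ?_ fun k1 => k (k1 ▸ one_mem _), k⟩
  rw [← map_pow, ← map_pow, ← hσ, pow_orderOf_eq_one, map_one, map_one]

theorem psl_sl (hF : Fintype.card F = 2 ^ n) (hn : n ≠ 0) : Nonempty (PSL(2, F) ≃* SL(2, F)) := by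
  have h := H4.card_psl (F := F)
  rw [H4.sq_sub_one_eq, ← H4.card_sl2, Nat.coprime_two_left.2 (Nat.Even.sub_odd Fintype.card_pos
    (hF ▸ Nat.even_pow.2 ⟨even_two, hn⟩) odd_one), one_mul] at h
  exact ⟨(MulEquiv.ofBijective (QuotientGroup.mk' _) ((Nat.bijective_iff_surjective_and_card _).2
    ⟨QuotientGroup.mk'_surjective _, h.symm⟩)).symm⟩

end psl

theorem comm_of_card {A : Type*} [Group A] {p : ℕ} (hp : p.Prime)
    (h : Nat.card A = p ∨ Nat.card A = p ^ 2) : IsMulCommutative A := by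
  haveI := Fact.mk hp
  exact h.elim (fun k => (isCyclic_of_prime_card k).isMulCommutative)
    IsPGroup.isMulCommutative_of_card_eq_prime_sq

theorem AJ.not_ree {n ρ τ f : ℕ} (h : AJ T) (j : JR S 3 n ρ τ f) : False := by
  obtain ⟨t, ht, h1⟩ := j.exists_inv
  obtain ⟨s, P, Y, c⟩ := j.exists_c3 rfl ht h1
  obtain ⟨Q, B, q⟩ := j.exists_uq c
  have ot := j.ord ht h1
  have hB := q.le j c
  have h3 : ∀ {X : Subgroup G}, X ≤ Q → ∀ x ∈ X, x ≠ 1 → ∃ k, orderOf (x ^ k) = 3 := by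
    intro X hX x hx x1
    obtain ⟨k, hk⟩ := IsPGroup.iff_card.1 ((q.pg j c).isPGroup.to_le (zpowers_le.2 (hX hx)))
    rw [Nat.card_zpowers] at hk
    obtain ⟨m, rfl⟩ := Nat.exists_eq_add_one_of_ne_zero (n := k) (by
      rintro rfl; exact x1 (orderOf_eq_one_iff.1 hk))
    refine ⟨3 ^ m, ?_⟩
    rw [orderOf_pow_of_dvd (by positivity) (hk ▸ pow_dvd_pow 3 (by omega)), hk, pow_succ,
      Nat.mul_div_cancel_left _ (by positivity)]
  obtain ⟨y, hy, k1⟩ : ∃ y ∈ Q, y ∉ C1[t] := by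
    by_contra! k
    have k2 := q.cube_le j c
    have k3 := q.q_ge j c
    rw [← inf_eq_left.2 (show Q ≤ C1[t] from k), q.inf, (j.c3_card rfl c).1] at k2
    nlinarith [Nat.pow_le_pow_left k3 2, (by ring : (3 ^ n) ^ 3 = 3 ^ n * (3 ^ n) ^ 2)]
  have hx : y * (t * y⁻¹ * t⁻¹) ∈ Q :=
    mul_mem hy ((mem_normalizer_iff.1 (q.le_norm j c (q.t_mem j c)) _).1 (inv_mem hy))
  obtain ⟨k, hk⟩ := h3 le_rfl _ hx fun e => k1 (mem_centralizer_singleton_iff.2 (by
    calc y * t = y * t * y⁻¹ * t⁻¹ * (t * y) := by group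
      _ = t * y := by rw [show y * t * y⁻¹ * t⁻¹ = 1 by rw [← e]; group, one_mul]))
  have hi : t * (y * (t * y⁻¹ * t⁻¹)) ^ k * t⁻¹ = ((y * (t * y⁻¹ * t⁻¹)) ^ k)⁻¹ := by
    rw [← conj_pow, ← inv_pow]
    congr 1
    calc _ = t * y * (t * t) * t⁻¹ * y⁻¹ * (t * t)⁻¹ := by group
      _ = _ := by rw [sq_of_ord ot]; group
  generalize_proofs at hi
  have hx' := pow_mem hx k
  generalize (y * (t * y⁻¹ * t⁻¹)) ^ k = x at hk hi hx'
  have x1 : x ≠ 1 := fun e => by simp [e] at hk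
  obtain ⟨z, hz, z1⟩ := exists_ne_one (q.P_ne j c)
  obtain ⟨m, hm⟩ := h3 (q.P_le j c) z hz z1
  obtain ⟨β, -, e⟩ := h.one (hk ▸ Nat.prime_three) (hk.trans hm.symm)
  have k2 : β x ∈ C1[t] := (q.inf.ge (zpowers_le.2 (pow_mem hz m) e)).2
  have k3 : β.symm t ∈ C1[x] := mem_centralizer_singleton_iff.2 (β.injective (by
    simpa using (mem_centralizer_singleton_iff.1 k2).symm))
  have k4 : orderOf (β.symm t) = 2 := by rw [β.symm.orderOf_eq, ot]
  generalize β.symm t = u at k3 k4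
  obtain ⟨o, ho, a, ha, e1⟩ := (mem_sup_of_le_normalizer_left (zpowers_le.2
    (le_norm_piCoreOf_self _ _ (q.t_mem j c)))).1 ((q.core_sup' j c).ge (q.cent_le j c hx' x1 k3))
  have k5 := (core_odd B).of_dvd_nat (orderOf_dvd_natCard _ ho)
  rcases mem_zp2 ot ha with rfl | rfl
  · rw [mul_one] at e1
    rw [e1, k4] at k5
    exact absurd k5 (by decide)
  have k6 : o * x * o⁻¹ = x⁻¹ := by
    rw [eq_mul_inv_iff_mul_eq.2 e1, inv_of_ord ot, mul_inv_rev, ← mul_assoc, mul_assoc u,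
      mul_assoc u, hi, ← conj_inv, conj_eq k3]
  have k7 : o * o ∈ C1[x] := mem_of_conj_eq (by
    calc o * o * x * (o * o)⁻¹ = o * (o * x * o⁻¹) * o⁻¹ := by group
      _ = x := by rw [k6, ← conj_inv, k6, inv_inv])
  refine x1 (eq_one_of_inv (by rw [hk]; decide) (cent1_comm.1 ?_) k6)
  obtain ⟨r, hr⟩ := k5
  have : o = ((o * o) ^ r)⁻¹ := by
    rw [eq_inv_iff_mul_eq_one, ← pow_two, ← pow_mul, ← pow_succ', ← hr, pow_orderOf_eq_one]
  exact this ▸ inv_mem (pow_mem k7 r)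

theorem AJ.simple (h : AJ T) (hs : IsSimpleGroup G) (hn : ¬ IsMulCommutative G) :
    (∃ (F : Type) (_ : Field F) (_ : Fintype F), (Fintype.card F = 2 ^ 3 ∨
      (Fintype.card F = 2 ^ 5 ∧ ¬ T ≤ Inn G)) ∧ Nonempty (G ≃* PSL(2, F))) ∨
    (∃ (F : Type) (_ : Field F) (_ : Fintype F) (p n : ℕ), p.Prime ∧ Fintype.card F = p ^ n ∧
      (n = 1 ∨ n = 3) ∧ (p % 8 = 3 ∨ p % 8 = 5) ∧ 5 ≤ p ^ n ∧ Nonempty (G ≃* PSL(2, F))) ∨
    ∃ (S : Subgroup G) (p n ρ τ f : ℕ), JR S p n ρ τ f ∧ p ≠ 3 := by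
  obtain ⟨S, hS⟩ := H10.exists_isSylowIn 2 (⊤ : Subgroup G)
  obtain ⟨E, hE⟩ := Cfsg.Agent.S0204.result (G := G) fun k => hn k.isMulCommutative
  rcases walter hs hn hS (h.comm hE hS.isPGroup).1 with
    ⟨-, F, _, _, n, h1, h2, ⟨e⟩⟩ | ⟨F, _, _, h1, h2, ⟨e⟩⟩ | ⟨p, n, ρ, τ, f, j⟩
  · refine Or.inl ⟨F, _, inferInstance, ?_, ⟨e⟩⟩
    rcases h.psl e h2 with k | ⟨k, -⟩ | ⟨-, rfl, k⟩
    exacts [Or.inl (le_antisymm k h1 ▸ h2), absurd k (by decide), Or.inr ⟨h2, k⟩]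
  · obtain ⟨p, _, ⟨n, h0⟩, hp, hF⟩ := FiniteField.card' F
    haveI := Fact.mk hp
    suffices k : (n = 1 ∨ n = 3) ∧ (p % 8 = 3 ∨ p % 8 = 5) from Or.inr (Or.inl
      ⟨F, _, _, p, n, hp, hF, k.1, k.2, by rw [← show Fintype.card F = p ^ n from hF]; omega, ⟨e⟩⟩)
    rw [show Fintype.card F = p ^ n from hF, Nat.pow_mod] at h1
    have := Nat.mod_lt p (by norm_num : 0 < 8)
    rcases h.psl e hF with k | ⟨rfl, rfl⟩ | ⟨rfl, rfl, -⟩
    · change n ≤ 3 at k
      interval_cases n <;> interval_cases p % 8 <;> simp at h1 ⊢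
    all_goals simp at h1
  · exact Or.inr (Or.inr ⟨S, p, n, ρ, τ, f, j, fun e => h.not_ree (e ▸ j)⟩)

end H15.CJ
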