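import Cfsg.Agent.H15.CJ2
import Cfsg.Agent.H25.MinNormal
import Cfsg.Agent.H2.Z2

/-!
Odd extensions of the simple groups with abelian Sylow `2`-subgroups.
-/

set_option autoImplicit false
set_option linter.unusedSectionVars false

namespace H15.CJ

open Subgroup _root_.Cfsg H1 _root_.H15 H16 H16.GD H26.J
open H4 (L2D)
open scoped MatrixGroups commutatorElement

universe u

variable {G : Type u} [Group G] [Finite G] {M S L C : Subgroup G} {x y t : G}

section psl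
variable {F : Type*} [Field F] [Fintype F] {p n : ℕ} [hp : Fact p.Prime]

theorem hom_idx {X : Type*} [Group X] (φ : X →* MulAut G) (h : Inn G ≤ φ.range) (hZ : center G = ⊥)
    (e : G ≃* PSL(2, F)) (hF : Fintype.card F = p ^ n) (h4 : 4 ≤ p ^ n)
    (ho : Odd ((Inn G).comap φ).index) : ((Inn G).comap φ).index ∣ n := by
  rw [index_comap] at ho ⊢
  have := relIndex_dvd_index_of_le h
  rw [index_inn hZ e hF h4] at this
  exact (Nat.coprime_two_right.2 ho).dvd_of_dvd_mul_left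
    (this.trans (Nat.mul_dvd_mul_right (Nat.gcd_dvd_left _ _) n))

theorem ext_one (hL : L ≤ C) (hn : C ≤ N[L]) (hZ : center L = ⊥) (e : L ≃* PSL(2, F))
    (hF : Fintype.card F = p) (h4 : 4 ≤ p) {D : Subgroup G} (hD : D ≤ L ⊔ C ⊓ C[L])
    (ho : Odd (D.relIndex C)) (hx : x ∈ C) : ∃ l ∈ L, l⁻¹ * x ∈ C[L] := by
  let φ : C →* MulAut L := L.normalizerMonoidHom.comp (inclusion hn)
  have k : ∀ x : C, x ∈ (Inn L).comap φ ↔ ∃ l ∈ L, l⁻¹ * x ∈ C[L] := fun x => by
    refine ⟨fun ⟨l, hl⟩ => ⟨l, l.2, fun y hy => ?_⟩, fun ⟨l, hl, k⟩ => ⟨⟨l, hl⟩, ?_⟩⟩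
    · have : (l : G) * y * (l : G)⁻¹ = x * y * (x : G)⁻¹ :=
        (congrArg Subtype.val (DFunLike.congr_fun hl ⟨y, hy⟩) :)
      calc y * ((l : G)⁻¹ * x) = (l : G)⁻¹ * (l * y * (l : G)⁻¹) * x := by group
        _ = _ := by rw [this]; group
    · ext y
      change l * y * l⁻¹ = x * y * (x : G)⁻¹
      calc l * y * l⁻¹ = l * (y * (l⁻¹ * x)) * (x : G)⁻¹ := by group
        _ = _ := by rw [k y y.2]; group
  have h1 : D.subgroupOf C ≤ (Inn L).comap φ := fun x hx => by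
    obtain ⟨l, hl, c, hc, e⟩ := (mem_sup_of_le_normalizer_left (inf_le_left.trans hn)).1 (hD hx)
    exact (k x).2 ⟨l, hl, by rw [← show l * c = (x : G) from e, inv_mul_cancel_left]; exact hc.2⟩
  have := hom_idx φ (by rintro _ ⟨l, rfl⟩; exact ⟨⟨l, hL l.2⟩, MulEquiv.ext fun _ => rfl⟩) hZ e (hF.trans (pow_one p).symm)
    (by rwa [pow_one]) (ho.of_dvd_nat (index_dvd_of_le h1))
  exact (k ⟨x, hx⟩).1 ((index_eq_one.1 (Nat.dvd_one.1 this)).ge (mem_top _))

variable [hM : M.Normal] (hC : C[M] = ⊥)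
include hC

theorem ind_inj : Function.Injective (MulAut.conjNormal : G →* MulAut M) :=
  (injective_iff_map_eq_one _).2 fun g hg => mem_bot.1 (hC ▸ fun y hy =>
    (mul_inv_eq_iff_eq_mul.1 (congrArg Subtype.val (DFunLike.congr_fun hg ⟨y, hy⟩) :)).symm)

theorem comap_inn : (Inn M).comap (MulAut.conjNormal : G →* MulAut M) = M := by
  ext g
  refine ⟨fun ⟨l, hl⟩ => ?_, fun hg => ⟨⟨g, hg⟩, MulAut.conjNormal_val.symm⟩⟩
  rw [← ind_inj hC (MulAut.conjNormal_val.trans hl)]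
  exact l.2

theorem center_bot : center M = ⊥ := eq_bot_iff.2 fun x hx => Subtype.ext (mem_bot.1 (hC ▸
  fun y hy => congrArg Subtype.val (mem_center_iff.1 hx ⟨y, hy⟩)))

omit hC in
theorem inn_le : Inn M ≤ Ind M := by rintro _ ⟨l, rfl⟩; exact ⟨l, MulAut.conjNormal_val⟩

theorem index_dvd (e : M ≃* PSL(2, F)) (hF : Fintype.card F = p ^ n) (h4 : 4 ≤ p ^ n)
    (ho : Odd M.index) : M.index ∣ n := by
  have := hom_idx (MulAut.conjNormal : G →* MulAut M) inn_le (center_bot hC) e hF h4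
  rw [comap_inn hC] at this
  exact this ho

theorem top_of_three (h : AJ (Inn G)) (e : M ≃* PSL(2, F)) (hF : Fintype.card F = p ^ n)
    (hn : n = 1 ∨ n = 3) (h4 : 4 ≤ p ^ n) (ho : Odd M.index) : M = ⊤ := by
  have h1 := index_dvd hC e hF h4 ho
  refine index_eq_one.1 ?_
  obtain rfl | rfl := hn
  · exact Nat.dvd_one.1 h1
  refine ((Nat.dvd_prime Nat.prime_three).1 h1).resolve_right fun h3 => ?_
  obtain ⟨φ, k1, k2⟩ := exists_fld e hF Nat.prime_three
  have k3 := relIndex_mul_index (inn_le (M := M))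
  rw [← index_comap, comap_inn hC, h3, index_inn (center_bot hC) e hF h4, mul_comm] at k3
  have k4 : (Ind M).index ∣ 2 := Nat.eq_of_mul_eq_mul_right (by norm_num) k3 ▸ Nat.gcd_dvd_left _ _
  have k5 : (Ind M).Normal := by
    rcases (Nat.dvd_prime Nat.prime_two).1 k4 with k | k
    exacts [index_eq_one.1 k ▸ inferInstance, normal_of_index_eq_two k]
  obtain ⟨c, hc⟩ := k4
  obtain ⟨g, hg⟩ : φ ∈ Ind M := by
    have := pow_mem (pow_mem ((Ind M).pow_index_mem φ) c) 2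
    rwa [← pow_mul, ← pow_mul, ← mul_assoc, ← hc, show 2 * 2 = 3 + 1 from rfl, pow_succ, ← k1,
      pow_orderOf_eq_one, one_mul] at this
  have k6 : orderOf g = 3 := by rw [← k1, ← hg, orderOf_injective _ (ind_inj hC)]
  have := h.mem (M := M) (k6 ▸ Nat.prime_three) (by
    rw [k6, Nat.card_congr e.toEquiv]; exact three_dvd_psl)
  exact k2 (hg ▸ (comap_inn hC).ge this)

theorem aut_five (e : M ≃* PSL(2, F)) (hF : Fintype.card F = 2 ^ 5) (ho : Odd M.index)
    (h : ¬ Ind M ≤ Inn M) : Nonempty (G ≃* MulAut PSL(2, GaloisField 2 5)) := by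
  have k3 := relIndex_mul_index (inn_le (M := M))
  rw [index_inn (center_bot hC) e hF (by norm_num)] at k3
  have : (Ind M).index = 1 := ((Nat.dvd_prime Nat.prime_five).1 (Dvd.intro_left _ k3)).resolve_right
    fun k => h (by rw [k] at k3; norm_num at k3; exact k3)
  have := Fintype.ofFinite (GaloisField 2 5)
  obtain ⟨f⟩ := H2.z_psl_congr (F := F) (K := GaloisField 2 5) (by
    rw [hF, ← Nat.card_eq_fintype_card, GaloisField.card 2 5 (by norm_num)]) 2
  exact ⟨(MulEquiv.ofBijective _ ⟨ind_inj hC, MonoidHom.range_eq_top.1 (index_eq_one.1 ‹_›)⟩).trans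
    (MulAut.congr (e.trans f))⟩

end psl

theorem jr_coatom {p n ρ τ f : ℕ} (j : JR S p n ρ τ f) (ht : orderOf t = 2) : IsCoatom C1[t] := by
  refine H5.Gd.TR.coatom j.simple j.not_comm ⟨S, H10.isSylowIn_of_not_dvd le_top j.sy.isPGroup
    (j.sy.not_dvd_idx Nat.prime_two rfl), ⟨comm_of_le_cent j.comm, fun a ha => by
      rw [pow_two, j.rf.sq a ha]⟩, j.card_S, fun a ha a1 b hb b1 => j.conj_norm ha a1 hb b1,
    fun t ht => ⟨Et t, Lt t, by rw [sup_comm, j.cent_eq ht], j.not_mem_Et ht, j.Lt_le ht,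
      Et_le_norm t, j.Et_cent ht, fun k => ?_, ?_⟩⟩ ht
  · have l := j.lf t ht
    rw [l.card, show p ^ n * (4 * ρ) * τ = 4 * (p ^ n * ρ * τ) by ring] at k
    exact Nat.not_even_iff_odd.2 ((l.odd_q.mul l.odd_rho).mul l.odd_tau) (even_iff_two_dvd.2
      (Nat.dvd_of_mul_dvd_mul_left (by norm_num : 0 < 4) k))
  · have l := j.lf t ht
    obtain ⟨F, _, _, h1, e⟩ := l.psl
    exact ⟨F, _, _, h1 ▸ l.odd_q, h1 ▸ l.five.trans_lt' (by norm_num), e⟩

theorem mem_of_sq {K : Subgroup G} (ho : Odd (orderOf x)) (h : x * x ∈ K) : x ∈ K := by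
  obtain ⟨r, hr⟩ := ho
  have : x = ((x * x) ^ r)⁻¹ := by
    rw [eq_inv_iff_mul_eq_one, ← pow_two, ← pow_mul, ← pow_succ', ← hr, pow_orderOf_eq_one]
  exact this ▸ inv_mem (pow_mem h r)

theorem top_of_j1 [hM : M.Normal] (hC : C[M] = ⊥) {S : Subgroup M} {τ : ℕ} (j : JR S 5 1 1 τ 1)
    (ho : Odd M.index) : M = ⊤ := by
  haveI : Fact (Nat.Prime 5) := ⟨by norm_num⟩
  have h0 : ∀ u : M, orderOf u = 2 → C1[u] = zpowers u ⊔ Lt u := fun u hu => by
    rw [j.cent_eq hu, le_antisymm (relIndex_eq_one.1 (j.relIndex hu)) (j.Lt_le hu)]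
  have h1 : ∀ u : M, (C1[u]).map M.subtype = M ⊓ C1[(u : G)] := fun u => by
    ext x
    simp only [mem_map, mem_inf, mem_centralizer_singleton_iff]
    exact ⟨fun ⟨y, k, e⟩ => e ▸ ⟨y.2, congrArg Subtype.val k⟩, fun ⟨a, b⟩ => ⟨⟨x, a⟩, Subtype.ext b, rfl⟩⟩
  have h2 : ∀ u : M, orderOf u = 2 → ∀ x ∈ C1[(u : G)], ∃ l ∈ Lt u,
      (l : G)⁻¹ * x ∈ C[(Lt u).map M.subtype] := fun u hu x hx => by
    obtain ⟨F, _, _, k1, ⟨e⟩⟩ := (j.lf u hu).psl
    let e' := (Lt u).equivMapOfInjective _ M.subtype_injective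
    have k2 : (Lt u).map M.subtype ≤ C1[(u : G)] :=
      ((map_mono (Lt_le_cent u)).trans (h1 u).le).trans inf_le_right
    obtain ⟨_, ⟨l, hl, rfl⟩, k⟩ := ext_one (p := 5) k2 (by
        rw [Lt, map_commutator, h1]
        have : C1[(u : G)] ≤ N[M ⊓ C1[(u : G)]] := le_norm_inf (le_top.trans (normalizer_eq_top M).ge) (le_norm_self _)
        exact le_norm_comm this this)
      (eq_bot_iff.2 fun z hz => by
        obtain ⟨_, z, hz', rfl⟩ := z
        have k3 : z ∈ zpowers u := (j.cent_Lt hu).le ⟨Lt_le_cent u hz', fun w hw => Subtype.ext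
          (congrArg Subtype.val (mem_center_iff.1 hz ⟨w, mem_map_of_mem _ hw⟩) :)⟩
        rcases mem_zp2 hu k3 with rfl | rfl
        exacts [mem_bot.2 rfl, absurd hz' (j.not_mem_Lt hu)])
      (e'.symm.trans e) (k1.trans (pow_one 5)) (by norm_num) (D := M ⊓ C1[(u : G)]) (by
        rw [← h1, h0 u hu, Subgroup.map_sup, MonoidHom.map_zpowers]
        refine sup_le (le_sup_of_le_right (zpowers_le.2 ⟨mem_centralizer_singleton_iff.2 rfl,
          fun w hw => mem_centralizer_singleton_iff.1 (k2 hw)⟩)) le_sup_left)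
      (by rw [inf_relIndex_right]; exact ho.of_dvd_nat (relIndex_dvd_index_of_normal _ _)) hx
    exact ⟨l, hl, k⟩
  have h3 : ∀ u : M, orderOf u = 2 → ∀ x ∈ C1[(u : G)], x ∈ C[(Lt u).map M.subtype] →
      C1[u] ≤ (C1[x]).subgroupOf M := fun u hu x hx k => by
    rw [h0 u hu]
    exact sup_le (zpowers_le.2 (cent1_comm.1 hx)) fun l hl =>
      mem_centralizer_singleton_iff.2 (k l (mem_map_of_mem _ hl))
  by_contra hne
  obtain ⟨g, hg⟩ : ∃ g, g ∉ M := by simpa [eq_top_iff'] using hne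
  obtain ⟨t, ht, t1⟩ := j.exists_inv
  have ot := j.ord ht t1
  obtain ⟨m, hm⟩ := j.conj ot (s := MulAut.conjNormal g t) (by rw [MulEquiv.orderOf_eq, ot])
  have c1 : (m : G)⁻¹ * g ∈ C1[(t : G)] := mem_of_conj_eq (by
    have : (m : G) * t * (m : G)⁻¹ = g * t * g⁻¹ := congrArg Subtype.val hm
    calc _ = (m : G)⁻¹ * (g * t * g⁻¹) * m := by group
      _ = _ := by rw [← this]; group)
  obtain ⟨l, hl, k1⟩ := h2 t ot _ c1
  have k2 : (l : G)⁻¹ * ((m : G)⁻¹ * g) ∈ C1[(t : G)] :=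
    mul_mem (inv_mem ((h1 t).le (mem_map_of_mem _ (Lt_le_cent t hl))).2) c1
  have k3 : (l : G)⁻¹ * ((m : G)⁻¹ * g) ∉ M := by
    rwa [mul_mem_cancel_left (inv_mem l.2), mul_mem_cancel_left (inv_mem m.2)]
  generalize (l : G)⁻¹ * ((m : G)⁻¹ * g) = k at k1 k2 k3
  obtain ⟨a, b, hb, e⟩ := Nat.exists_eq_two_pow_mul_odd (orderOf_pos k).ne'
  have x0 : Odd (orderOf (k ^ 2 ^ a)) :=
    hb.of_dvd_nat (orderOf_dvd_of_pow_eq_one (by rw [← pow_mul, ← e, pow_orderOf_eq_one]))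
  have x1 : k ^ 2 ^ a ≠ 1 := fun e1 => k3 (by
    rw [← QuotientGroup.eq_one_iff, ← orderOf_eq_one_iff]
    refine Nat.eq_one_of_dvd_coprimes (Nat.Coprime.pow_left a (Nat.coprime_two_left.2 ho)) ?_ ?_
    exacts [orderOf_dvd_of_pow_eq_one (by rw [← QuotientGroup.mk_pow, e1]; rfl), orderOf_dvd_natCard _])
  have x2 := h3 t ot _ (pow_mem k2 (2 ^ a)) (pow_mem k1 _)
  generalize k ^ 2 ^ a = x at x0 x1 x2
  obtain ⟨u, ⟨u1, u2⟩, u3⟩ := exists_ne_one (H := S ⊓ Lt t) fun e => by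
    have := (j.df ht t1).card; rw [e, card_bot] at this; omega
  have ou := j.ord u1 u3
  have xS : ∀ v ∈ S, (v : G) ∈ C1[x] := fun v hv => x2 (mem_centralizer_singleton_iff.2 (j.comm hv t ht).symm)
  have xu := cent1_comm.1 (xS u u1)
  obtain ⟨l, hl, k4⟩ := h2 u ou x xu
  have k5 : l ∈ C[S] := by
    rw [← j.sup_df u1 u3, cent_sup]
    refine ⟨(cent_zpowers u).ge (Lt_le_cent u hl), fun v hv => Subtype.ext ?_⟩
    have e1 := k4 v (mem_map_of_mem _ hv.2)
    have e2 := mem_centralizer_singleton_iff.1 (xS v hv.1)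
    calc (v : G) * l = l * ((l : G)⁻¹ * x * v * x⁻¹ * l) := by rw [mul_assoc _ x, ← e2]; group
      _ = l * v := by rw [← e1]; group
  rw [j.cent_S, card_eq_one.1 j.card_ph, sup_bot_eq] at k5
  have k6 : x * x = (l : G)⁻¹ * x * ((l : G)⁻¹ * x) := by
    have e1 := k4 l (mem_map_of_mem _ hl)
    have e2 : (l : G) * l = 1 := congrArg Subtype.val (j.rf.sq l k5)
    calc x * x = l * ((l : G)⁻¹ * x) * l * ((l : G)⁻¹ * x) := by group
      _ = (l * l) * ((l : G)⁻¹ * x) * ((l : G)⁻¹ * x) := by rw [mul_assoc (l : G), ← e1]; group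
      _ = _ := by rw [e2, one_mul]
  have x3 := h3 u ou x xu (mem_of_sq x0 (k6 ▸ mul_mem k4 k4))
  rcases (jr_coatom j ot).le_iff.1 x2 with k | k
  · exact x1 (mem_bot.1 (hC ▸ fun y hy => mem_centralizer_singleton_iff.1 (k.ge (mem_top ⟨y, hy⟩))))
  have : t ∈ zpowers u := (j.cent_Lt ou).le ⟨mem_centralizer_singleton_iff.2 (j.comm ht u u1).symm,
    fun w hw => mem_centralizer_singleton_iff.1 (k.le (x3 (Lt_le_cent u hw)))⟩
  rcases mem_zp2 ou this with rfl | rfl
  exacts [t1 rfl, j.not_mem_Lt ot u2]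

/-- a minimal normal subgroup in which the involutions are fused is simple or abelian -/
theorem min_normal (h : AJ (Inn G)) [M.Normal] (h2 : Even (Nat.card M))
    (hm : ∀ K : Subgroup G, K.Normal → K ≤ M → K = ⊥ ∨ K = M) :
    IsMulCommutative M ∨ IsSimpleGroup M := by
  classical
  obtain ⟨T, _, m, e, hs, h0, -⟩ := H25.exists_pi_simple_decomp_minimal_normal M (by
    rintro rfl; simp at h2) hm
  by_cases hc : IsMulCommutative T
  · exact Or.inl ⟨⟨fun a b => e.injective (by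
      rw [map_mul, map_mul]; exact funext fun i => hc.is_comm.comm _ _)⟩⟩
  obtain rfl | h1 := (show 1 = m ∨ 1 < m by omega)
  · exact Or.inr (e.trans (MulEquiv.piUnique _)).isSimpleGroup
  exfalso
  let i : Fin m := ⟨0, h0⟩
  let j : Fin m := ⟨1, h1⟩
  have hij : j ≠ i := by simp [i, j]
  have : Finite T := Finite.of_injective _
    (e.symm.injective.comp (Pi.mulSingle_injective (M := fun _ => T) i))
  obtain ⟨t, ht⟩ := exists_prime_orderOf_dvd_card' 2 (H6.simple_even hc).two_dvd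
  have t1 := ne_of_ord ht
  have t2 := sq_of_ord ht
  obtain ⟨β, -, hβ⟩ := (h.normal M).inv (x := e.symm (Pi.mulSingle i t)) (y := e.symm fun _ => t)
    (by rw [MulEquiv.orderOf_eq]; exact ord_of_sq (by rw [← Pi.mulSingle_mul, t2, Pi.mulSingle_one])
          (by simpa using t1))
    (by rw [MulEquiv.orderOf_eq]; exact ord_of_sq (funext fun _ => t2) fun k => t1 (congrFun k i))
  let γ := MulAut.congr e β
  have hγ : γ (Pi.mulSingle i t) = fun _ => t := by simp [γ, hβ]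
  obtain ⟨l, hl⟩ : ∃ l, γ (Pi.mulSingle j t) l ≠ 1 := by
    by_contra! k
    exact t1 (by simpa using (map_eq_one_iff _ γ.injective).1 (funext k))
  have k1 : normalClosure {γ (Pi.mulSingle j t) l} ≤ C1[t] := by
    refine closure_le _ |>.2 fun y hy => ?_
    obtain ⟨_, rfl, k⟩ := Group.mem_conjugatesOfSet_iff.1 hy
    obtain ⟨c, rfl⟩ := isConj_iff.1 k
    obtain ⟨d, hd⟩ := γ.surjective fun _ => c
    have : Commute (d * Pi.mulSingle j t * d⁻¹) (Pi.mulSingle i t) := funext fun r => by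
      by_cases hr : r = i
      · subst hr; simp [Pi.mulSingle_eq_of_ne hij.symm]
      · simp [Pi.mulSingle_eq_of_ne hr]
    have := congrFun (this.map γ).eq l
    simp only [map_mul, map_inv, hd, hγ] at this
    exact mem_centralizer_singleton_iff.2 this
  rcases (normalClosure_normal (s := {γ (Pi.mulSingle j t) l})).eq_bot_or_eq_top with k | k
  · exact hl (mem_bot.1 (k ▸ subset_normalClosure rfl))
  rcases (inferInstance : (center T).Normal).eq_bot_or_eq_top with k2 | k2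
  · exact t1 (mem_bot.1 (k2 ▸ mem_center_iff.2 fun g =>
      mem_centralizer_singleton_iff.1 (k1 (k.ge (mem_top g)))))
  · exact hc ⟨⟨fun a b => mem_center_iff.1 (k2.ge (mem_top b)) a⟩⟩

end H15.CJ
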