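import Cfsg.Agent.H15.CJ3
import Cfsg.Agent.H25.Hup4
import Cfsg.Agent.H25.Aff
import Cfsg.Agent.Lead.FT
import Cfsg.Agent.S0228
import Cfsg.Agent.S0251

/-!
Groups with a normal elementary abelian Sylow `2`-subgroup whose four-subgroups are fused.
-/

set_option autoImplicit false
set_option linter.unusedSectionVars false

namespace H15.CJ

open Subgroup _root_.Cfsg H1 _root_.H15 H16 H16.GD H26.J MulAction
open scoped MatrixGroups

universe u

variable {G : Type u} [Group G] [Finite G] {S : Subgroup G}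

theorem AJ.congr {H : Type*} [Group H] (h : AJ (Inn G)) (e : G ≃* H) : AJ (Inn H) := by
  intro p hp A B h1 h2
  obtain ⟨_, ⟨g, rfl⟩, k⟩ := h p hp (A.map e.symm.toMonoidHom) (B.map e.symm.toMonoidHom)
    (by rwa [card_map_of_injective e.symm.injective, card_map_of_injective e.symm.injective])
    (by rwa [card_map_of_injective e.symm.injective])
  refine ⟨_, ⟨e g, rfl⟩, map_injective (f := e.symm.toMonoidHom) e.symm.injective ?_⟩
  rw [k, map_map, map_map]
  congr 1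
  ext x
  simp

section aff
variable {F : Type} [Field F] [Fintype F] {R : Subgroup (Equiv.Perm F)}

theorem cov_aff {p : ℕ} [hp : Fact p.Prime] [Algebra (ZMod p) F] (hR : R ≤ semiaffineGroup F)
    (ht : ∀ b, ∃ g ∈ R, ∀ x, g x = x + b) (h : AJ (Inn R)) :
    Cov p {σ : F ≃+* F | σ = 1 ∨ ¬ R ≤ affineGroup F} := fun w w' hw hw' => by
  let f : Multiplicative F →* R :=
    { toFun := fun b => ⟨Equiv.addRight b.toAdd,
        let ⟨g, hg, e⟩ := ht b.toAdd; (Equiv.ext e : g = Equiv.addRight _) ▸ hg⟩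
      map_one' := by ext; simp
      map_mul' := fun a b => by ext; simp [add_comm, add_left_comm] }
  have hf : Function.Injective f := fun a b e => by
    simpa [f] using congrArg (fun g : R => g.1 0) e
  obtain ⟨_, ⟨g, rfl⟩, k⟩ := h p hp.out _ _ ((card_pl hf hw).trans (card_pl hf hw').symm)
    (Or.inr (card_pl hf hw))
  obtain ⟨a, b, σ, hσ, e⟩ : ∃ (a : Fˣ) (b : F) (σ : F ≃+* F), (σ = 1 ∨ ¬ R ≤ affineGroup F) ∧
      ∀ x, g.1 x = a * σ x + b := by
    by_cases k : R ≤ affineGroup F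
    · obtain ⟨a, b, e⟩ := k g.2
      exact ⟨a, b, 1, Or.inl rfl, e⟩
    · obtain ⟨a, b, σ, e⟩ := hR g.2
      exact ⟨a, b, σ, Or.inr k, e⟩
  have k1 : ∀ x, ∃ y, (pl p w' y).toAdd = a * σ (pl p w x).toAdd := fun x => by
    obtain ⟨y, hy⟩ : g * f (pl p w x) * g⁻¹ ∈ (f.comp (pl p w')).range :=
      k ▸ mem_map_of_mem _ ⟨x, rfl⟩
    have := congrArg (fun z : R => z.1 (g.1 0)) hy
    simp only [f, MonoidHom.comp_apply, MonoidHom.coe_mk, OneHom.coe_mk, coe_mul, coe_inv,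
      Equiv.Perm.mul_apply, Equiv.Perm.inv_def, Equiv.symm_apply_apply, Equiv.coe_addRight] at this
    rw [e, e, map_zero, zero_add] at this
    exact ⟨y, by linear_combination this⟩
  obtain ⟨x, hx⟩ := k1 (.ofAdd (1, 0))
  obtain ⟨y, hy⟩ := k1 (.ofAdd (0, 1))
  simp only [pl_apply, toAdd_ofAdd, map_one, map_zero, zero_mul, add_zero, mul_one, one_mul,
    zero_add] at hx hy
  exact ⟨σ, hσ, _, _, _, _, hx ▸ a.ne_zero, hx ▸ hy.symm⟩

theorem card_aff : Nat.card (affineGroup F) = (Fintype.card F - 1) * Fintype.card F := by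
  classical
  rw [← Fintype.card_units, ← Fintype.card_prod, ← Nat.card_eq_fintype_card]
  refine (Nat.card_congr (Equiv.ofBijective (fun x : Fˣ × F => (⟨x.1.mulLeft.trans
    (Equiv.addRight x.2), x.1, x.2, fun _ => rfl⟩ : affineGroup F)) ⟨fun x y e => ?_,
      fun ⟨g, a, b, e⟩ => ⟨(a, b), Subtype.ext (Equiv.ext fun x => (e x).symm)⟩⟩)).symm
  have e0 : x.2 = y.2 := by simpa using congrArg (fun g : affineGroup F => g.1 0) e
  exact Prod.ext (Units.ext (by simpa [e0] using congrArg (fun g : affineGroup F => g.1 1) e)) e0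

theorem aff_four (hF : Fintype.card F = 4) : Nonempty (affineGroup F ≃* PSL(2, ZMod 3)) := by
  obtain ⟨e⟩ := Cfsg.Agent.S0228.result (G := affineGroup F) (by rw [card_aff, hF]) (by
    rintro ⟨g, a, b, e⟩ hz hc
    obtain ⟨c, c0, c1⟩ : ∃ c : F, c ≠ 0 ∧ c ≠ 1 := by
      classical
      by_contra! k
      have := Finset.card_le_card (show Finset.univ ⊆ ({0, 1} : Finset F) from fun x _ => by
        by_cases h : x = 0 <;> simp [h, k x])
      have := Finset.card_le_two (a := (0 : F)) (b := 1)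
      rw [← Finset.card_univ] at hF
      omega
    have h1 := congrArg (fun z : affineGroup F => z.1 0) (mem_center_iff.1 hc
      ⟨(Units.mk0 c c0).mulLeft, Units.mk0 c c0, 0, by simp⟩)
    have h2 := congrArg (fun z : affineGroup F => z.1 0) (mem_center_iff.1 hc
      ⟨Equiv.addRight 1, 1, 1, by simp⟩)
    simp [e] at h1 h2
    have h3 : b = 0 := by
      by_contra k
      exact c1 (mul_right_cancel₀ k (h1.trans (one_mul b).symm))
    refine ne_of_ord hz (Subtype.ext (Equiv.ext fun x => ?_))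
    have : (a : F) = 1 := by linear_combination -h2
    simp [e, h3, this])
  obtain ⟨f⟩ := Cfsg.Agent.S0251.result (F := ZMod 3) rfl
  exact ⟨e.trans f.symm⟩

end aff

theorem exists_aff (h : AJ (Inn G)) (hO : pPrimeCore 2 G = ⊥) [S.Normal] (hS : H10.IsSylowIn 2 S ⊤)
    (hc : S ≤ C[S]) (h2 : ∀ x ∈ S, x * x = 1) (h1 : S ≠ ⊥) :
    ∃ (n : ℕ) (R : Subgroup (Equiv.Perm (GaloisField 2 n))), n ≠ 0 ∧ Nat.card S = 2 ^ n ∧
      Nonempty (G ≃* R) ∧ R ≤ semiaffineGroup _ ∧ (∀ b, ∃ g ∈ R, ∀ x, g x = x + b) ∧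
      (∀ c ≠ 0, ∃ g ∈ R, g 0 = 0 ∧ g 1 = c) ∧ ∀ g ∈ R, g * g = 1 → g 0 = 0 → g = 1 := by
  have ho : Odd S.index := by
    rw [← Nat.not_even_iff_odd, even_iff_two_dvd, ← relIndex_top_right]; exact hS.not_dvd_relIndex
  obtain ⟨k, hk⟩ := IsPGroup.iff_card.1 hS.isPGroup
  obtain ⟨H, hH⟩ := exists_right_complement'_of_coprime (N := S)
    (hk ▸ (Nat.coprime_two_left.2 ho).pow_left k)
  haveI : FaithfulSMul G (G ⧸ H) := ⟨fun {a b} hab => (MonoidHom.ker_eq_bot_iff (toPermHom G (G ⧸ H))).1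
    (by
      rw [← normalCore_eq_ker]
      refine le_bot_iff.1 (hO ▸ le_pPrimeCore (Nat.coprime_two_right.2 (ho.of_dvd_nat ?_)))
      rw [hH.symm.index_eq_card]
      exact card_dvd_of_le H.normalCore_le) (Equiv.ext hab)⟩
  obtain ⟨V, _, _, β, ρ, h8, h7, h6, h9, h12⟩ := H25.exists_affine (α := G ⧸ H) S (comm_of_le_cent hc)
    (p := 2) (fun x hx => by rw [pow_two, h2 x hx]) (fun c d => by
      obtain ⟨c, rfl⟩ := QuotientGroup.mk_surjective c
      obtain ⟨d, rfl⟩ := QuotientGroup.mk_surjective d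
      obtain ⟨⟨⟨a, ha⟩, b, hb⟩, rfl⟩ := hH.2 c
      obtain ⟨⟨⟨a', ha'⟩, b', hb'⟩, rfl⟩ := hH.2 d
      exact ⟨a' * a⁻¹, mul_mem ha' (inv_mem ha), QuotientGroup.eq.2 (by
        simpa [mul_assoc] using mul_mem (inv_mem hb) hb')⟩) ((1 : G) : G ⧸ H)
  have := Finite.of_equiv _ β.symm
  have : Group.IsSolvable ρ.range := FT.odd_solvable _ (by rwa [← index_ker, h9])
  have k1 : ∀ v ≠ 0, ∀ n ∈ S, (∀ w, n • β w = β (w + v)) → orderOf n = 2 := fun v hv n hn e =>
    ord_of_sq (h2 n hn) (by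
      rintro rfl
      exact hv (by simpa using (β.injective ((one_smul _ _).symm.trans (e 0))).symm))
  have ht : ∀ v ≠ 0, ∀ w ≠ 0, ∃ g, ρ g v = w := fun v hv w hw => by
    obtain ⟨n, hn, e⟩ := h6 v
    obtain ⟨m, hm, e'⟩ := h6 w
    obtain ⟨_, ⟨g, rfl⟩, k⟩ := h.inv (k1 v hv n hn e) (k1 w hw m hm e')
    have : g • β (0 + v) = m • g • β 0 := by
      rw [← e, ← mul_smul, ← mul_smul, ← k, MulAut.conj_apply, inv_mul_cancel_right]
    rw [h7, h7, e'] at this
    exact ⟨g, by simpa [add_comm] using β.injective this⟩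
  haveI : Nontrivial V := Finite.one_lt_card_iff_nontrivial.1 (h12 ▸ (one_lt_card_iff_ne_bot S).2 h1)
  rcases H25.huppert (H25.linRep_inj ρ.range) (fun v w hv hw => let ⟨g, e⟩ := ht v hv w hw
    ⟨⟨_, g, rfl⟩, e⟩) with ⟨n, h0, h11, e, he⟩ | ⟨K, _, _, _, _, A, M, r, k, -⟩
  swap
  · obtain ⟨-, -, -, ⟨-, k1⟩ | ⟨-, -, k1⟩⟩ := k.card_cases fun v w hv hw =>
      let ⟨g, e⟩ := ht v hv w hw; ⟨⟨_, g, rfl⟩, e⟩
    · rw [h12, hk] at k1
      exact absurd (Nat.prime_three.dvd_of_dvd_pow (k1.symm ▸ (by norm_num : 3 ∣ 81))) (by decide)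
    · simp at k1
  let φ : G →* Equiv.Perm (GaloisField 2 n) :=
    (β.symm.trans e.toEquiv).permCongrHom.toMonoidHom.comp (toPermHom G (G ⧸ H))
  have hφ : ∀ g v, φ g (e v) = e (ρ g v) + e (β.symm (g • ((1 : G) : G ⧸ H))) := fun g v => by
    change e (β.symm (g • β (e.symm (e v)))) = _
    rw [e.symm_apply_apply, h7, β.symm_apply_apply, map_add]
  have hi : Function.Injective φ := (Equiv.permCongrHom _).injective.comp toPerm_injective
  have htr : ∀ b, ∃ m ∈ S, ∀ x, φ m x = x + b := fun b => by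
    obtain ⟨m, hm, k⟩ := h6 (e.symm b)
    refine ⟨m, hm, fun x => ?_⟩
    change e (β.symm (m • β (e.symm x))) = _
    rw [k, β.symm_apply_apply, map_add, e.apply_symm_apply, e.apply_symm_apply]
  refine ⟨n, φ.range, h0, h12 ▸ h11, ⟨MonoidHom.ofInjective hi⟩, ?_,
    fun b => let ⟨m, _, k⟩ := htr b; ⟨_, ⟨m, rfl⟩, k⟩, fun c hc => ?_, ?_⟩
  · rintro _ ⟨g, rfl⟩
    obtain ⟨c, τ, hc⟩ := he ⟨_, g, rfl⟩
    have c0 : c ≠ 0 := by
      rintro rfl
      have := (ρ g).map_eq_zero_iff.1 (e.map_eq_zero_iff.1 ((hc (e.symm 1)).trans (zero_mul _)))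
      simp at this
    refine ⟨Units.mk0 c c0, e (β.symm (g • ((1 : G) : G ⧸ H))), τ, fun x => ?_⟩
    obtain ⟨v, rfl⟩ := e.surjective x
    rw [hφ]
    exact congrArg (· + _) (hc v)
  · obtain ⟨g, hg⟩ := ht (e.symm 1) (by simp) (e.symm c) (by simpa using hc)
    obtain ⟨m, -, hm⟩ := htr (-e (β.symm (g • ((1 : G) : G ⧸ H))))
    refine ⟨φ (m * g), ⟨_, rfl⟩, ?_, ?_⟩
    · rw [map_mul, Equiv.Perm.mul_apply, hm, ← map_zero e, hφ]; simp
    · rw [map_mul, Equiv.Perm.mul_apply, hm, ← e.apply_symm_apply 1, hφ, hg]; simp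
  · rintro _ ⟨g, rfl⟩ k k0
    rw [← map_mul, map_eq_one_iff _ hi] at k
    have : g ∈ S := by
      by_cases g1 : g = 1
      · exact g1 ▸ one_mem _
      exact h.mem ((ord_of_sq k g1).symm ▸ Nat.prime_two) (by
        rw [ord_of_sq k g1, ← h12, h11]; exact dvd_pow_self 2 h0)
    have k2 : ρ g = 1 := h9.ge this
    rw [← map_zero e, hφ, k2] at k0
    ext x
    obtain ⟨v, rfl⟩ := e.surjective x
    rw [hφ, k2]
    simpa using k0

theorem normal_cases (h : AJ (Inn G)) (hO : pPrimeCore 2 G = ⊥) [S.Normal]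
    (hS : H10.IsSylowIn 2 S ⊤) (hc : S ≤ C[S]) (h2 : ∀ x ∈ S, x * x = 1) (h4 : 4 ∣ Nat.card S) :
    Nonempty (G ≃* PSL(2, ZMod 3)) ∨ (8 ∣ Nat.card G ∧
      (Nonempty (G ≃* affineGroup (GaloisField 2 3)) ∨
      Nonempty (G ≃* semiaffineGroup (GaloisField 2 3)) ∨
      Nonempty (G ≃* semiaffineGroup (GaloisField 2 5)))) := by
  obtain ⟨n, R, h0, h1, ⟨e⟩, hR, ht, h3, h5⟩ := exists_aff h hO hS hc h2 (by
    rintro rfl; simp at h4)
  have := Fintype.ofFinite (GaloisField 2 n)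
  have hF : Fintype.card (GaloisField 2 n) = 2 ^ n := by
    rw [← Nat.card_eq_fintype_card, GaloisField.card 2 n h0]
  have h8 : 3 ≤ n → 8 ∣ Nat.card G := fun k =>
    (h1 ▸ pow_dvd_pow 2 k : 2 ^ 3 ∣ Nat.card S).trans (card_subgroup_dvd_card S)
  have ha := card_aut hF
  have k := aff_cases hR ht h3
  rw [hF, ha] at k
  have hn : 2 ≤ n := (Nat.pow_dvd_pow_iff_le_right one_lt_two).1 (h1 ▸ h4 :)
  rcases (cov_aff hR ht (h.congr e)).cases hF with k1 | ⟨k1, -⟩ | ⟨-, rfl, σ, k1, k2⟩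
  · interval_cases n
    · rcases k (by norm_num) (by norm_num) (by norm_num) with rfl | rfl
      · obtain ⟨f⟩ := aff_four hF
        exact Or.inl ⟨e.trans f⟩
      have : Finite (GaloisField 2 2 ≃+* GaloisField 2 2) := Nat.finite_of_card_ne_zero (by omega)
      obtain ⟨σ, hσ⟩ := exists_prime_orderOf_dvd_card' 2 ha.symm.dvd
      refine absurd (RingEquiv.ext fun x => Equiv.congr_fun (h5 σ.toEquiv ⟨1, 0, σ, by simp⟩
        (Equiv.ext fun x => RingEquiv.congr_fun (sq_of_ord hσ) x) (map_zero σ)) x) (ne_of_ord hσ)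
    · refine Or.inr ⟨h8 le_rfl, ?_⟩
      rcases k (by norm_num) (by norm_num) (by norm_num) with rfl | rfl
      exacts [Or.inl ⟨e⟩, Or.inr (Or.inl ⟨e⟩)]
  · omega
  · exact Or.inr ⟨h8 (by norm_num), Or.inr (Or.inr ⟨(k (by norm_num) (by norm_num)
      (by norm_num)).resolve_left (fun k3 => k1.resolve_left k2 k3.le) ▸ e⟩)⟩

end H15.CJ
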