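import Cfsg.Agent.H15.CJ4
import Cfsg.Agent.H26.JRc
import Cfsg.Agent.H26.JR5
import Cfsg.Agent.H8.GWQ3
import Cfsg.Agent.H6.QW1
import Cfsg.Agent.H18.Four

/-!
Groups in which `p`-subgroups of the same order are conjugate.
-/

set_option autoImplicit false
set_option linter.unusedSectionVars false

namespace H15.CJ

open Subgroup _root_.Cfsg H1 _root_.H15 H16 H16.GD H26.J
open scoped MatrixGroups

universe u

variable {G : Type u} [Group G] [Finite G] {S E : Subgroup G}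

/-- `p`-subgroups of the same order are conjugate -/
def DJ (G : Type*) [Group G] : Prop :=
  ∀ p : ℕ, p.Prime → ∀ H K : Subgroup G, IsPGroup p H → IsPGroup p K → Nat.card H = Nat.card K →
    ∃ g : G, K = H.map (MulAut.conj g).toMonoidHom

theorem DJ.aj (h : DJ G) : AJ (Inn G) := fun p hp A B h1 h2 => by
  have k : ∀ X : Subgroup G, Nat.card X = p ∨ Nat.card X = p ^ 2 → IsPGroup p X := fun X k =>
    k.elim (fun k => .of_card (k.trans (pow_one p).symm)) .of_card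
  obtain ⟨g, e⟩ := h p hp A B (k A h2) (k B (h1 ▸ h2)) h1
  exact ⟨_, ⟨g, rfl⟩, e⟩

theorem card_comap_eq {Q : Type*} [Group Q] [Finite Q] {f : G →* Q} (hf : Function.Surjective f)
    {H K : Subgroup Q} (h : Nat.card H = Nat.card K) :
    Nat.card (H.comap f) = Nat.card (K.comap f) := by
  have h1 : H.index = K.index := Nat.eq_of_mul_eq_mul_left Nat.card_pos
    (H.card_mul_index.trans (h ▸ K.card_mul_index.symm))
  refine Nat.eq_of_mul_eq_mul_right (Nat.pos_of_ne_zero (index_ne_zero_of_finite (H := K))) ?_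
  rw [← index_comap_of_surjective K hf, card_mul_index, index_comap_of_surjective K hf, ← h1,
    ← index_comap_of_surjective H hf, card_mul_index]

theorem map_conj {Q : Type*} [Group Q] (f : G →* Q) (H : Subgroup G) (g : G) :
    (H.map (MulAut.conj g).toMonoidHom).map f = (H.map f).map (MulAut.conj (f g)).toMonoidHom := by
  rw [map_map, map_map]
  congr 1
  ext x
  simp

theorem DJ.map {Q : Type*} [Group Q] [Finite Q] (h : DJ G) {f : G →* Q}
    (hf : Function.Surjective f) : DJ Q := fun p hp H K hH hK e => by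
  haveI := Fact.mk hp
  obtain ⟨P, hP⟩ := H10.exists_isSylowIn p (H.comap f)
  obtain ⟨R, hR⟩ := H10.exists_isSylowIn p (K.comap f)
  obtain ⟨g, k⟩ := h p hp P R hP.isPGroup hR.isPGroup (by
    rw [hP.card_eq_pow, hR.card_eq_pow, card_comap_eq hf e])
  have h1 := hP.map f
  have h2 := hR.map f
  rw [map_comap_eq_self_of_surjective hf] at h1 h2
  exact ⟨f g, by rw [h1.eq_of_le hH h1.le le_rfl, h2.eq_of_le hK h2.le le_rfl, k, map_conj]⟩

/-- `L₂(p)` or `L₂(p³)`, `p ≡ ± 3 (mod 8)` -/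
def PS (G : Type*) [Group G] : Prop :=
  ∃ (F : Type) (_ : Field F) (_ : Fintype F) (p n : ℕ), p.Prime ∧ Fintype.card F = p ^ n ∧
    (n = 1 ∨ n = 3) ∧ (p % 8 = 3 ∨ p % 8 = 5) ∧ Nonempty (G ≃* PSL(2, F))

/-- the groups with Sylow `2`-subgroups of order `8` or `32` -/
def L8 (G : Type u) [Group G] : Prop :=
  Nonempty (G ≃* affineGroup (GaloisField 2 3)) ∨
  Nonempty (G ≃* semiaffineGroup (GaloisField 2 3)) ∨
  Nonempty (G ≃* semiaffineGroup (GaloisField 2 5)) ∨
  (∃ (M : Type u) (_ : Group M) (_ : Finite M) (S : Subgroup M), JR S 5 1 1 3 1 ∧ Nonempty (M ≃* G)) ∨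
  Nonempty (G ≃* PSL(2, GaloisField 2 3)) ∨ Nonempty (G ≃* MulAut PSL(2, GaloisField 2 5))

theorem klein_cases (h : AJ (Inn G)) (hO : pPrimeCore 2 G = ⊥) (hE : IsKleinFour E) :
    PS G ∨ (8 ∣ Nat.card G ∧ L8 G) := by
  have k0 : ∀ N : Subgroup G, N.Normal → Odd (Nat.card N) → N = ⊥ := fun N _ k =>
    le_bot_iff.1 (hO ▸ le_pPrimeCore (Nat.coprime_two_right.2 k))
  obtain ⟨S, hS, hES⟩ := H10.exists_isSylowIn_ge (p := 2) (P := E) (L := ⊤)
    (.of_card (n := 2) hE.card_four) le_top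
  obtain ⟨h1, h2⟩ := h.comm hE hS.isPGroup
  have h4 : 4 ∣ Nat.card S := hE.card_four ▸ card_dvd_of_le hES
  have k1 : ∀ N : Subgroup G, N.Normal → N ≠ ⊥ → S ≤ N := fun N hN k x hx => by
    by_cases x1 : x = 1
    · exact x1 ▸ one_mem _
    have := ord_of_sq (h2 x hx) x1
    exact h.mem (this ▸ Nat.prime_two) (this ▸ even_iff_two_dvd.1
      (Nat.not_odd_iff_even.1 fun k2 => k (k0 N hN k2)))
  obtain ⟨M, ⟨hM, M1⟩, hm⟩ := exists_minimal_of_wellFoundedLT (fun N : Subgroup G => N.Normal ∧ N ≠ ⊥)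
    ⟨⊤, inferInstance, fun e => by
      have := (h4.trans (card_dvd_of_le (le_top.trans e.le))); simp at this⟩
  have hSM := k1 M hM M1
  by_cases hc : IsMulCommutative M
  · haveI : S.Normal := ⟨fun s hs g => hS.le_of_le_NN (P := zpowers (g * s * g⁻¹))
      (IsPGroup.of_card_dvd_pow (n := 1) (by
        rw [Nat.card_zpowers, pow_one, orderOf_dvd_iff_pow_eq_one, conj_pow, pow_two, h2 s hs]; group))
      le_top (zpowers_le.2 (cent_le_norm S fun y hy => congrArg Subtype.val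
        (hc.is_comm.comm ⟨y, hSM hy⟩ ⟨_, hM.conj_mem s (hSM hs) g⟩))) (mem_zpowers _)⟩
    exact (normal_cases h hO hS h1 h2 h4).imp
      (fun e => ⟨ZMod 3, _, _, 3, 1, Nat.prime_three, rfl, Or.inl rfl, Or.inl rfl, e⟩)
      (And.imp_right (Or.imp_right (Or.imp_right Or.inl)))
  have hs := (min_normal h (even_iff_two_dvd.2 ((by norm_num : 2 ∣ 4).trans
    (h4.trans (card_dvd_of_le hSM)))) fun K hK k => or_iff_not_imp_left.2 fun k2 =>
      le_antisymm k (hm ⟨hK, k2⟩ k)).resolve_left hc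
  have hC : C[M] = ⊥ := by
    by_contra k
    obtain ⟨x, hx, x1⟩ := exists_ne_one (H := S) (by rintro rfl; simp at h4)
    rcases (inferInstance : (center M).Normal).eq_bot_or_eq_top with k2 | k2
    · exact x1 (congrArg Subtype.val (mem_bot.1 (k2 ▸ mem_center_iff.2 fun y =>
        Subtype.ext (k1 _ inferInstance k hx y y.2) : (⟨x, hSM hx⟩ : M) ∈ ⊥)))
    · exact hc ⟨⟨fun a b => mem_center_iff.1 (k2.ge (mem_top b)) a⟩⟩
  have ho : Odd M.index := Nat.not_even_iff_odd.1 fun k => hS.not_dvd_relIndex (by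
    rw [relIndex_top_right]; exact (even_iff_two_dvd.1 k).trans (index_dvd_of_le hSM))
  rcases (h.normal M).simple hs hc with ⟨F, _, _, k2, ⟨e⟩⟩ |
    ⟨F, _, _, p, n, hp, k2, k3, k4, k5, ⟨e⟩⟩ | ⟨T, p, n, ρ, τ, f, j, k⟩
  · have k3 := H4.card_psl (F := F)
    refine Or.inr ⟨Dvd.dvd.trans ?_ (card_subgroup_dvd_card M), Or.inr (Or.inr (Or.inr (Or.inr ?_)))⟩
    · rw [Nat.card_congr e.toEquiv]
      rcases k2 with k2 | ⟨k2, -⟩ <;> rw [k2] at k3 <;> norm_num at k3 <;> omega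
    rcases k2 with k2 | ⟨k2, k4⟩
    · obtain rfl := top_of_three hC h e k2 (Or.inr rfl) (by norm_num) ho
      have := Fintype.ofFinite (GaloisField 2 3)
      obtain ⟨f⟩ := H2.z_psl_congr (F := F) (K := GaloisField 2 3) (by
        rw [k2, ← Nat.card_eq_fintype_card, GaloisField.card 2 3 (by norm_num)]) 2
      exact Or.inl ⟨topEquiv.symm.trans (e.trans f)⟩
    · exact Or.inr (aut_five hC e k2 ho k4)
  · haveI := Fact.mk hp
    obtain rfl := top_of_three hC h e k2 k3 (by omega) ho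
    exact Or.inl ⟨F, _, _, p, n, hp, k2, k3, k4, ⟨topEquiv.symm.trans e⟩⟩
  · obtain rfl := j.three_or.resolve_left k
    obtain ⟨t, ht, t1⟩ := j.exists_inv
    obtain ⟨rfl, rfl, rfl⟩ := (j.lf t (j.ord ht t1)).rho_eq_one rfl
    obtain rfl := Nat.dvd_one.1 j.f_dvd
    obtain rfl := top_of_j1 hC j ho
    exact Or.inr ⟨(j.card_S ▸ card_subgroup_dvd_card T :).trans (card_subgroup_dvd_card _),
      Or.inr (Or.inr (Or.inr (Or.inl ⟨_, _, inferInstance, T, j, ⟨topEquiv⟩⟩)))⟩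

open QuaternionGroup in
theorem quat_cases (h : DJ G) (hO : pPrimeCore 2 G = ⊥) (hS : H10.IsSylowIn 2 S ⊤) {n : ℕ}
    (e : S ≃* QuaternionGroup (2 ^ (n + 1))) :
    ∃ (F : Type) (_ : Field F) (_ : Fintype F) (p n : ℕ), p.Prime ∧ Fintype.card F = p ^ n ∧
      (n = 1 ∨ n = 3) ∧ (p % 8 = 3 ∨ p % 8 = 5) ∧ Nonempty (G ≃* SL(2, F)) := by
  have hU := GW.Q8.ui_of_quat e
  have hc : Nat.card S = 4 * 2 ^ (n + 1) := by
    rw [Nat.card_congr e.toEquiv, Nat.card_eq_fintype_card, QuaternionGroup.card]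
  obtain ⟨z, hz, oz⟩ := H10.exists_orderOf_eq_of_ne_bot hS.isPGroup (by
    rintro rfl; rw [card_bot] at hc; omega)
  have hZ := H19.brauer_suzuki hS hz oz (fun s hs os => hU s hs z hz os oz) hO
  haveI : (zpowers z).Normal := H8.normal_of_le_center (zpowers_le.2 hZ)
  let f := QuotientGroup.mk' (zpowers z)
  have hf : Function.Surjective f := QuotientGroup.mk'_surjective _
  have hk : f.ker = zpowers z := QuotientGroup.ker_mk' _
  have hO' := GW.Q8.core_quot hO f hf (by rw [hk]; exact (pg_zp2 oz).isPGroup)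
    (by rw [hk]; infer_instance)
  have k1 : ∀ x : QuaternionGroup (2 ^ (n + 1)), orderOf x = 4 → orderOf (f (e.symm x)) = 2 := by
    intro x hx
    rw [← e.symm.orderOf_eq, ← orderOf_coe] at hx
    refine ord_of_sq ?_ fun k => ?_
    · rw [← map_mul, ← MonoidHom.mem_ker, hk, hU _ (mul_mem (e.symm x).2 (e.symm x).2) z hz ?_ oz]
      · exact mem_zpowers z
      · rw [← pow_two, orderOf_pow_of_dvd two_ne_zero (by rw [hx]; norm_num), hx]
    · have := orderOf_dvd_of_mem_zpowers (hk.le k)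
      rw [hx, oz] at this
      omega
  have k2 : orderOf (a 1 ^ 2 ^ n : QuaternionGroup (2 ^ (n + 1))) = 4 := by
    rw [orderOf_pow_of_dvd (by positivity) (by rw [orderOf_a_one, pow_succ]; exact ⟨4, by ring⟩),
      orderOf_a_one, show 2 * 2 ^ (n + 1) = 4 * 2 ^ n by ring, Nat.mul_div_cancel _ (by positivity)]
  have k3 := k1 (xa 0 * a 1 ^ 2 ^ n) (by rw [a_one_pow, xa_mul_a, orderOf_xa])
  have k4 := k1 _ (orderOf_xa 0)
  have k5 := k1 _ k2
  rw [map_mul, coe_mul, map_mul] at k3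
  have h4 : H4.Four (f (e.symm (xa 0))) (f (e.symm (a 1 ^ 2 ^ n))) := ⟨k4, k5, fun k => by
    rw [← k, sq_of_ord k4, orderOf_one] at k3; omega, by
    have := inv_of_ord k3
    rw [mul_inv_rev, inv_of_ord k4, inv_of_ord k5] at this
    exact this.symm⟩
  have hY := (h.map hf).aj
  have k6 : f (e.symm (a 1)) * f (e.symm (a 1)) = 1 :=
    (hY.comm h4.klein (hS.isPGroup.map f)).2 _ (mem_map_of_mem f (e.symm (a 1)).2)
  rw [← map_mul, ← MonoidHom.mem_ker, hk] at k6
  have k7 := orderOf_dvd_of_mem_zpowers k6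
  rw [oz, orderOf_dvd_iff_pow_eq_one, ← pow_two, ← pow_mul, ← orderOf_dvd_iff_pow_eq_one, orderOf_coe,
    e.symm.orderOf_eq, orderOf_a_one] at k7
  obtain rfl : n = 0 := by
    have := Nat.le_of_dvd (by norm_num) k7
    have := @Nat.lt_two_pow_self n
    omega
  have k8 : Nat.card G = Nat.card (G ⧸ zpowers z) * 2 := by
    rw [card_eq_card_quotient_mul_card_subgroup (zpowers z), Nat.card_zpowers, oz]
  rcases klein_cases hY hO' h4.klein with ⟨F, _, _, p, n, hp, k2, k3, k4, ⟨g⟩⟩ | ⟨k, -⟩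
  swap
  · refine absurd ?_ hS.not_dvd_relIndex
    have := S.card_mul_index
    rw [relIndex_top_right]
    rw [hc] at this
    omega
  refine ⟨F, inferInstance, inferInstance, p, n, hp, k2, k3, k4, ?_⟩
  by_cases h3 : 3 < Fintype.card F
  · have hk2 : Nat.card (g.toMonoidHom.comp f).ker = 2 := by
      rw [MulEquiv.toMonoidHom_eq_coe, MonoidHom.ker_mulEquiv_comp, hk, Nat.card_zpowers, oz]
    exact H8.sl2_of_cover (GW.Q8.perfect_of_cover (GW.Q8.perfect_psl h3) _ (g.surjective.comp hf) hk2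
      (GW.Q8.noFour_of_ui hS hU) (h4.map (f := g.toMonoidHom) g.injective)) (k2 ▸ (Nat.odd_iff.2 (by omega)).pow) h3 _
      (g.surjective.comp hf) hk2
  have hF : Fintype.card F = 3 := by
    have := Nat.le_self_pow (n := n) (by omega) p
    omega
  have k9 := H4.card_psl (F := F)
  rw [← Nat.card_congr g.toEquiv, hF] at k9
  norm_num at k9
  obtain ⟨g'⟩ := H2.z_sl_congr (F := ZMod 3) (K := F) hF.symm 2
  obtain ⟨g''⟩ := H6.sl23_of_card' (by omega) hS.toSylowTop le_rfl e fun M hM => by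
    haveI := normal_of_index_eq_two hM
    have hx : ∀ x : QuaternionGroup (2 ^ (0 + 1)), orderOf x = 4 → (e.symm x : G) ∈ M := by
      have hi := M.card_mul_index
      rw [hM] at hi
      obtain ⟨T, hT⟩ := H10.exists_isSylowIn 2 M
      have hT4 : Nat.card T = 2 ^ 2 := by
        rw [hT.card_eq_pow, show Nat.card M = 2 ^ 2 * 3 by omega, Nat.factorization_mul (by norm_num)
          (by norm_num), Nat.prime_two.factorization_pow, Nat.prime_three.factorization]
        simp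
      intro x hx
      obtain ⟨_, ⟨g, rfl⟩, k⟩ := h.aj 2 Nat.prime_two T (zpowers (e.symm x : G)) (by
        rw [hT4, Nat.card_zpowers, orderOf_coe, e.symm.orderOf_eq, hx]; rfl) (Or.inr hT4)
      obtain ⟨y, hy, k⟩ : (e.symm x : G) ∈ T.map (MulAut.conj g).toMonoidHom := k ▸ mem_zpowers _
      exact k ▸ this.conj_mem y (hT.le hy) g
    have : S ≤ M := fun s hs => by
      obtain ⟨x, hx'⟩ := e.symm.surjective ⟨s, hs⟩
      rw [show s = e.symm x from congrArg Subtype.val hx'.symm]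
      rcases x with i | i
      · have := mul_mem (inv_mem (hx _ (orderOf_xa 0))) (hx _ (orderOf_xa i))
        rwa [← coe_inv, ← coe_mul, ← map_inv, ← map_mul, inv_mul_eq_of_eq_mul
          (by rw [xa_mul_a, zero_add i] : (xa i : QuaternionGroup _) = xa 0 * a i)] at this
      · exact hx _ (orderOf_xa i)
    exact hS.not_dvd_relIndex (by rw [relIndex_top_right, ← hM]; exact index_dvd_of_le this)
  exact ⟨g''.trans g'⟩

theorem DJ.cases (h : DJ G) (hO : pPrimeCore 2 G = ⊥) : (IsCyclic G ∧ IsPGroup 2 G) ∨ L8 G ∨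
    ∃ (F : Type) (_ : Field F) (_ : Fintype F) (p n : ℕ), p.Prime ∧ Fintype.card F = p ^ n ∧
      (n = 1 ∨ n = 3) ∧ (p % 8 = 3 ∨ p % 8 = 5) ∧
      (Nonempty (G ≃* PSL(2, F)) ∨ Nonempty (G ≃* SL(2, F))) := by
  obtain ⟨S, hS⟩ := H10.exists_isSylowIn 2 (⊤ : Subgroup G)
  by_cases h4 : ∃ a b : G, H4.Four a b
  · obtain ⟨a, b, k⟩ := h4
    rcases klein_cases h.aj hO k.klein with ⟨F, _, _, p, n, hp, k2, k3, k4, e⟩ | ⟨-, k⟩
    exacts [Or.inr (Or.inr ⟨F, _, _, p, n, hp, k2, k3, k4, Or.inl e⟩), Or.inr (Or.inl k)]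
  rcases (GW.Q8.ui_of_noFour hS.isPGroup fun a _ b _ k => h4 ⟨a, b, k⟩).cases hS.isPGroup with
    k | ⟨n, ⟨e⟩⟩
  · obtain rfl : S = ⊤ := by
      rw [← H18.sup_oddCore_of_npc hS (H19.npc_of_isCyclic hS.toSylowTop k), oddCore, hO, sup_bot_eq]
    exact Or.inl ⟨isCyclic_of_surjective topEquiv topEquiv.surjective, hS.isPGroup.of_equiv topEquiv⟩
  · obtain ⟨F, _, _, p, n, hp, k2, k3, k4, e⟩ := quat_cases h hO hS e
    exact Or.inr (Or.inr ⟨F, _, _, p, n, hp, k2, k3, k4, Or.inr e⟩)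

/-- subgroups of the same order are conjugate -/
def FJ (G : Type*) [Group G] : Prop :=
  ∀ H K : Subgroup G, Nat.card H = Nat.card K → ∃ g : G, K = H.map (MulAut.conj g).toMonoidHom

theorem FJ.dj (h : FJ G) : DJ G := fun _ _ H K _ _ e => h H K e

theorem FJ.map {Q : Type*} [Group Q] [Finite Q] (h : FJ G) {f : G →* Q}
    (hf : Function.Surjective f) : FJ Q := fun H K e => by
  obtain ⟨g, k⟩ := h _ _ (card_comap_eq hf e)
  exact ⟨f g, by rw [← map_comap_eq_self_of_surjective hf K, k, map_conj,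
    map_comap_eq_self_of_surjective hf]⟩

theorem FJ.no_dih (h : FJ G) {x v w : G} (ho : Odd (orderOf x)) (hv : orderOf v = 2)
    (hw : orderOf w = 2) (h1 : x ∈ C1[v]) (h2 : w * x * w⁻¹ = x⁻¹) : x = 1 := by
  have k : ∀ u, orderOf u = 2 → u ∈ N[zpowers x] →
      Nat.card (zpowers u ⊔ zpowers x : Subgroup G) = 2 * orderOf x := fun u hu hn => by
    rw [card_sup_of_disjoint (zpowers_le.2 hn) (inf_eq_bot_of_coprime
      (cop_zp2 hu (by rwa [Nat.card_zpowers]))), Nat.card_zpowers, Nat.card_zpowers, hu]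
  obtain ⟨g, e⟩ := h _ _ ((k v hv (cent1_le_norm x (cent1_comm.1 h1))).trans
    (k w hw (mem_norm_of_inv h2)).symm)
  haveI := comm_sup (H := zpowers v) (K := zpowers x) inferInstance inferInstance
    (zpowers_le.2 ((cent_zpowers x).ge (cent1_comm.1 h1)))
  have : IsMulCommutative (zpowers w ⊔ zpowers x : Subgroup G) := e ▸ inferInstance
  exact eq_one_of_inv ho (mem_centralizer_singleton_iff.2 (congrArg Subtype.val (this.is_comm.comm
    ⟨x, mem_sup_right (mem_zpowers x)⟩ ⟨w, mem_sup_left (mem_zpowers w)⟩))) h2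

theorem FJ.psl (h : FJ G) {F : Type} [Field F] [Fintype F] (e : G ≃* PSL(2, F))
    (h8 : Fintype.card F % 8 = 3 ∨ Fintype.card F % 8 = 5) :
    Fintype.card F = 3 ∨ Fintype.card F = 5 := by
  by_cases h3 : 3 < Fintype.card F
  swap
  · omega
  obtain ⟨p, n, ρ, τ, l⟩ := exists_lf (L := (⊤ : Subgroup G)) ⟨F, _, _, h8, h3, ⟨topEquiv.trans e⟩⟩
  have hc := l.card
  obtain ⟨v, hv⟩ := exists_prime_orderOf_dvd_card' (G := G) 2 (by
    rw [← card_top, hc]; exact ⟨p ^ n * (2 * ρ) * τ, by ring⟩)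
  obtain ⟨V, d, k1, k2⟩ := l.exists_df (mem_top v) hv
  obtain ⟨w, k3, k4, k5⟩ := k_other d.klein k1 k2
  obtain rfl : ρ = 1 := (by
    rw [← l.card_tv v (mem_top v) hv, card_eq_one, eq_bot_iff]
    exact fun x hx => h.no_dih (tv_odd.of_dvd_nat (orderOf_dvd_natCard _ hx)) hv
      (ord_of_sq (H6.kleinFour_mul_self d.klein k3) k4) (tv_le_cent hx) (d.inv k1 k2 k3 k4 k5 hx))
  obtain ⟨rfl, rfl, rfl⟩ := l.rho_eq_one rfl
  have := H4.card_psl (F := F)
  rw [← Nat.card_congr e.toEquiv, ← card_top, hc, H4.sq_sub_one_eq] at this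
  have k6 := Nat.le_of_dvd two_pos (Nat.gcd_dvd_left 2 (Fintype.card F - 1))
  obtain ⟨q, hq⟩ := Nat.exists_eq_add_of_lt h3
  rw [hq, show 3 + q + 1 - 1 = q + 3 by omega] at this k6
  have : q ≤ 1 := by nlinarith [Nat.zero_le (q * q * q), Nat.zero_le (q * q)]
  omega

theorem FJ.not_j1 (h : FJ G) (j : JR S 5 1 1 3 1) : False := by
  obtain ⟨t, ht, t1⟩ := j.exists_inv
  have ot := j.ord ht t1
  have l := j.lf t ot
  obtain ⟨⟨y, hy⟩, oy⟩ := exists_prime_orderOf_dvd_card' (G := Lt t) 3 (by rw [l.card]; norm_num)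
  rw [← orderOf_coe] at oy
  have y1 : y ≠ 1 := fun e => by simp [e] at oy
  obtain ⟨-, k1, k2, k3⟩ := l.yt y hy y1 oy.dvd
  obtain ⟨w, hw, k4⟩ : ∃ w ∈ Lt t ⊓ N[zpowers y], w ∉ C1[y] := by
    by_contra! k
    have := card_le_of_le (show Lt t ⊓ N[zpowers y] ≤ Lt t ⊓ C1[y] from fun w hw => ⟨hw.1, k w hw⟩)
    omega
  obtain ⟨k5, k6⟩ := k3 w hw k4
  exact y1 (h.no_dih (oy ▸ by decide) ot (ord_of_sq k5 fun e => k4 (e ▸ one_mem _)) (Lt_le_cent t hy)
    (k6 y ⟨hy, mem_centralizer_singleton_iff.2 rfl⟩))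

end H15.CJ
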