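import Cfsg.Agent.H15.CJ4
import Cfsg.Agent.H17.PH

/-!
Solvable groups with a normal elementary abelian Sylow `p`-subgroup whose subgroups of equal order
are conjugate.
-/

set_option autoImplicit false
set_option linter.unusedSectionVars false

namespace H15.CJ

open Subgroup _root_.Cfsg H1 _root_.H15 H16 MulAction Module

universe u

/-- `p`-subgroups of equal order are conjugate -/
def AP (p : ℕ) (G : Type*) [Group G] : Prop :=
  ∀ A B : Subgroup G, IsPGroup p A → IsPGroup p B → Nat.card A = Nat.card B →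
    ∃ g : G, B = A.map (MulAut.conj g).toMonoidHom

variable {G : Type u} [Group G] [Finite G] {S : Subgroup G} {p : ℕ} [hp : Fact p.Prime]

theorem AP.congr {H : Type*} [Group H] (h : AP p G) (e : G ≃* H) : AP p H := by
  intro A B a b h1
  obtain ⟨g, k⟩ := h (A.map e.symm.toMonoidHom) (B.map e.symm.toMonoidHom) (a.map _) (b.map _)
    (by rwa [card_map_of_injective e.symm.injective, card_map_of_injective e.symm.injective])
  refine ⟨e g, map_injective (f := e.symm.toMonoidHom) e.symm.injective ?_⟩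
  rw [k, map_map, map_map]
  congr 1
  ext x
  simp

theorem AP.norm (h : AP p G) (P : Sylow p G) (hc : (P : Subgroup G) ≤ C[(P : Subgroup G)]) :
    AP p N[(P : Subgroup G)] := by
  intro A B a b h1
  have k : ∀ A : Subgroup N[(P : Subgroup G)], IsPGroup p A → A.map N[(P : Subgroup G)].subtype ≤ P :=
    fun A a => by
      have := (a.map N[(P : Subgroup G)].subtype).inf_normalizer_sylow P
      exact ((le_inf le_rfl (map_subtype_le A)).trans this.le).trans inf_le_right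
  obtain ⟨g, e⟩ := h _ _ (a.map N[(P : Subgroup G)].subtype) (b.map N[(P : Subgroup G)].subtype) (by
    rwa [card_map_of_injective (subtype_injective _), card_map_of_injective (subtype_injective _)])
  set B' := B.map N[(P : Subgroup G)].subtype
  have c1 : (P : Subgroup G) ≤ C[B'] := hc.trans (centralizer_le (k B b))
  have c2 : ((g • P : Sylow p G) : Subgroup G) ≤ C[B'] := by
    rintro _ ⟨x, hx, rfl⟩ y hy
    obtain ⟨z, hz, rfl⟩ := e ▸ hy
    have := hc hx z (k A a hz)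
    change g * z * g⁻¹ * (g * x * g⁻¹) = g * x * g⁻¹ * (g * z * g⁻¹)
    rw [conj_mul, conj_mul, this]
  obtain ⟨c, hh⟩ := exists_smul_eq C[B'] ((g • P).subtype c2) (P.subtype c1)
  simp_rw [Sylow.smul_subtype, Subgroup.smul_def, smul_smul] at hh
  refine ⟨⟨c * g, Sylow.smul_eq_iff_mem_normalizer.mp (Sylow.subtype_injective hh)⟩,
    (eq_of_le_of_card_ge ?_ ?_).symm⟩
  · rintro _ ⟨x, hx, rfl⟩
    have : g * x * g⁻¹ ∈ B' := e ▸ mem_map_of_mem _ (mem_map_of_mem _ hx)
    obtain ⟨y, hy, e1⟩ := this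
    have e2 := c.2 _ (mem_map_of_mem _ hy)
    refine Set.mem_of_eq_of_mem (Subtype.ext ?_) hy
    change c * g * x * (c * g)⁻¹ = y
    change (y : G) = _ at e1
    change (y : G) * c = c * y at e2
    rw [mul_inv_rev, ← mul_assoc, mul_assoc (c : G), mul_assoc (c : G), ← e1, ← e2,
      mul_inv_cancel_right]
  · rw [card_map_of_injective (MulAut.conj _).injective, h1]

theorem AP.quot (h : AP p G) (K : Subgroup G) [K.Normal] (hK : (Nat.card K).Coprime p) :
    AP p (G ⧸ K) := by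
  have k : ∀ A : Subgroup (G ⧸ K), IsPGroup p A → ∃ A' : Subgroup G, IsPGroup p A' ∧
      A'.map (QuotientGroup.mk' K) = A ∧ Nat.card A' = Nat.card A := fun A a => by
    obtain ⟨V, h1, rfl⟩ := H17.Ho.exists_lift_pi (π := {p}) _ (QuotientGroup.mk'_surjective K)
      (U := A) fun q hq hd => by
        obtain ⟨n, hn⟩ := a.exists_card_eq
        exact (Nat.prime_dvd_prime_iff_eq hq hp.out).1 (hq.dvd_of_dvd_pow (hn ▸ hd))
    have hV : IsPGroup p V := IsPGroup.of_card
      (Nat.eq_prime_pow_of_unique_prime_dvd Nat.card_pos.ne' fun hq hd => h1 _ hq hd)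
    refine ⟨V, hV, rfl, ?_⟩
    obtain ⟨n, hn⟩ := hV.exists_card_eq
    have : ((QuotientGroup.mk' K).comp V.subtype).ker = ⊥ := by
      rw [← MonoidHom.comap_ker, QuotientGroup.ker_mk', comap_subtype, subgroupOf_eq_bot]
      exact disjoint_of_coprime_natCard (hn ▸ hK.pow_right n)
    rw [Nat.card_congr (MonoidHom.ofInjective ((MonoidHom.ker_eq_bot_iff _).1 this)).toEquiv,
      MonoidHom.range_comp, range_subtype]
  intro A B a b e
  obtain ⟨A, a1, rfl, a2⟩ := k A a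
  obtain ⟨B, b1, rfl, b2⟩ := k B b
  obtain ⟨g, rfl⟩ := h A B a1 b1 (by rw [a2, b2, e])
  refine ⟨g, ?_⟩
  rw [map_map, map_map]
  rfl

section aff
variable {F : Type} [Field F] [Fintype F] {R : Subgroup (Equiv.Perm F)}

theorem cov_aff' [Algebra (ZMod p) F] (hR : R ≤ semiaffineGroup F)
    (ht : ∀ b, ∃ g ∈ R, ∀ x, g x = x + b) (h : AP p R) :
    Cov p {σ : F ≃+* F | σ = 1 ∨ ¬ R ≤ affineGroup F} := fun w w' hw hw' => by
  let f : Multiplicative F →* R :=
    { toFun := fun b => ⟨Equiv.addRight b.toAdd,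
        let ⟨g, hg, e⟩ := ht b.toAdd; (Equiv.ext e : g = Equiv.addRight _) ▸ hg⟩
      map_one' := by ext; simp
      map_mul' := fun a b => by ext; simp [add_comm, add_left_comm] }
  have hf : Function.Injective f := fun a b e => by
    simpa [f] using congrArg (fun g : R => g.1 0) e
  obtain ⟨g, k⟩ := h _ _ (.of_card (card_pl hf hw)) (.of_card (card_pl hf hw'))
    ((card_pl hf hw).trans (card_pl hf hw').symm)
  obtain ⟨a, b, σ, hσ, e⟩ : ∃ (a : Fˣ) (b : F) (σ : F ≃+* F), (σ = 1 ∨ ¬ R ≤ affineGroup F) ∧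
      ∀ x, g.1 x = a * σ x + b := by
    by_cases k : R ≤ affineGroup F
    · obtain ⟨a, b, e⟩ := k g.2
      exact ⟨a, b, 1, Or.inl rfl, e⟩
    · obtain ⟨a, b, σ, e⟩ := hR g.2
      exact ⟨a, b, σ, Or.inr k, e⟩
  have k1 : ∀ x, ∃ y, (pl p w' y).toAdd = a * σ (pl p w x).toAdd := fun x => by
    obtain ⟨y, hy⟩ : g * f (pl p w x) * g⁻¹ ∈ (f.comp (pl p w')).range :=
      k ▸ mem_map_of_mem _ ⟨x, rfl⟩
    have := congrArg (fun z : R => z.1 (g.1 0)) hy
    simp only [f, MonoidHom.comp_apply, MonoidHom.coe_mk, OneHom.coe_mk, coe_mul, coe_inv,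
      Equiv.Perm.mul_apply, Equiv.Perm.inv_def, Equiv.symm_apply_apply, Equiv.coe_addRight] at this
    rw [e, e, map_zero, zero_add] at this
    exact ⟨y, by linear_combination this⟩
  obtain ⟨x, hx⟩ := k1 (.ofAdd (1, 0))
  obtain ⟨y, hy⟩ := k1 (.ofAdd (0, 1))
  simp only [pl_apply, toAdd_ofAdd, map_one, map_zero, zero_mul, add_zero, mul_one, one_mul,
    zero_add] at hx hy
  exact ⟨σ, hσ, _, _, _, _, hx ▸ a.ne_zero, hx ▸ hy.symm⟩

theorem Cov.not_81 [Algebra (ZMod 3) F] {T : Set (F ≃+* F)} (h : Cov 3 T) :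
    Fintype.card F ≠ 81 := fun hF => by
  classical
  obtain ⟨g, hg⟩ := IsCyclic.exists_ofOrder_eq_natCard (α := Fˣ)
  rw [Nat.card_eq_fintype_card, Fintype.card_units, hF] at hg
  replace hg : orderOf g = 80 := hg
  haveI : CharP F 3 := charP_of_injective_algebraMap (algebraMap (ZMod 3) F).injective 3
  have h0 : ∀ a, algebraMap (ZMod 3) F a ^ 3 = algebraMap (ZMod 3) F a := fun a => by
    rw [← map_pow, ZMod.pow_card]
  have k : ∀ m n : ℕ, (g : F) ^ (m + n) = (g : F) ^ n → 80 ∣ m := fun m n e => by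
    rw [pow_add, mul_eq_right₀ (pow_ne_zero _ g.ne_zero), ← Units.val_pow_eq_pow_val,
      Units.val_eq_one] at e
    exact hg ▸ orderOf_dvd_of_pow_eq_one e
  have hw : (g : F) ^ 10 ∉ Set.range (algebraMap (ZMod 3) F) := by
    rintro ⟨a, ha⟩
    have := h0 a
    rw [ha, ← pow_mul] at this
    exact absurd (k 20 10 this) (by decide)
  let E : Subfield F := RingHom.eqLocusField (iterateFrobenius F 3 2) (RingHom.id F)
  have hE : ∀ x, x ∈ E ↔ x ^ 9 = x := fun x => Iff.rfl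
  have h1 : ∀ a, algebraMap (ZMod 3) F a ∈ E := fun a => (hE _).2 (by
    rw [show 9 = 3 * 3 from rfl, pow_mul, h0, h0])
  have h2 : ∀ x, x ∈ E := fun x => by
    obtain ⟨σ, -, a, b, e, rfl⟩ := h.surj hw x
    have : σ ((g : F) ^ 10) ∈ E := (hE _).2 (by
      rw [← map_pow, ← pow_mul, show 10 * 9 = 80 + 10 from rfl, pow_add,
        ← Units.val_pow_eq_pow_val g 80, show g ^ 80 = 1 from hg ▸ pow_orderOf_eq_one g,
        Units.val_one, one_mul])
    split_ifs
    exacts [add_mem (h1 _) (mul_mem (h1 _) this), add_mem (h1 _) (div_mem (h1 _) (add_mem this (h1 _)))]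
  exact absurd (k 8 1 (((hE _).1 (h2 g)).trans (pow_one _).symm)) (by decide)

end aff

theorem exists_inv32 {A N : Subgroup G} {a : G} (a1 : a ≠ 1) (a2 : ∀ x ∈ A, x = 1 ∨ x = a)
    (a3 : a * a = 1) (a4 : ∀ x ∈ N, a * x = x * a) (h2 : ∀ x ∈ N, x * x ∈ A) (cN : Nat.card N = 32) :
    ∃ t ∈ N, t ∉ A ∧ t * t = 1 := by
  by_contra! e
  have s : ∀ x ∈ N, x ∉ A → x * x = a := fun x hx k =>
    (a2 _ (h2 x hx)).resolve_left (e x hx k)
  have c : ∀ x ∈ N, ∀ y ∈ N, x ∉ A → y ∉ A → x * y ∉ A → y * x = a * x * y := by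
    intro x hx y hy b1 b2 b3
    have := s _ (mul_mem hx hy) b3
    calc y * x = x⁻¹ * (x * y * (x * y)) * y⁻¹ := by group
      _ = x⁻¹ * (a * a) * a * y⁻¹ := by rw [this, a3, mul_one]
      _ = x⁻¹ * ((x * x) * a) * (y * y) * y⁻¹ := by rw [s x hx b1, s y hy b2]
      _ = x * a * y := by group
      _ = a * x * y := by rw [a4 x hx]
  have big : ∀ T : Finset G, T.card < 16 → ∃ z ∈ N, ∀ x ∈ T, x * z ∉ A := fun T hT => by
    classical
    by_contra! k
    have := Fintype.ofFinite G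
    have k1 : Finset.univ.filter (· ∈ N) ⊆ T.biUnion fun x => {x⁻¹, x⁻¹ * a} := fun z hz => by
      obtain ⟨x, hx, e⟩ := k z (Finset.mem_filter.1 hz).2
      refine Finset.mem_biUnion.2 ⟨x, hx, ?_⟩
      rcases a2 _ e with e | e
      · simp [eq_inv_of_mul_eq_one_right e]
      · simp [← e]
    have k2 := (Finset.card_le_card k1).trans (Finset.card_biUnion_le_card_mul _ _ 2
      fun _ _ => Finset.card_le_two)
    rw [← Fintype.card_subtype, ← Nat.card_eq_fintype_card, cN] at k2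
    omega
  classical
  obtain ⟨x, hx, x1⟩ := big {1} (by simp)
  obtain ⟨y, hy, y1⟩ := big {1, x} (Finset.card_le_two.trans_lt (by norm_num))
  obtain ⟨z, hz, z1⟩ := big {1, x, y, x * y} (Finset.card_le_four.trans_lt (by norm_num))
  simp only [Finset.mem_insert, Finset.mem_singleton, forall_eq_or_imp, forall_eq, one_mul] at x1 y1 z1
  have e1 := c x hx y hy x1 y1.1 y1.2
  have e2 := c x hx z hz x1 z1.1 z1.2.1
  have e3 := c x hx _ (mul_mem hy hz) x1 z1.2.2.1 (mul_assoc x y z ▸ z1.2.2.2)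
  rw [mul_assoc y, e2, ← mul_assoc, ← mul_assoc, ← a4 y hy, mul_assoc a y, e1, ← mul_assoc,
    ← mul_assoc, a3, one_mul, ← mul_assoc, mul_left_inj, mul_left_inj, eq_comm, mul_eq_right] at e3
  exact a1 e3

theorem count81 {V X : Type*} [Finite X] (F : X → Set V) (hV : Nat.card V = 81) (hX : Nat.card X = 32)
    (h : ∀ u v : V, ∃ x, Nat.card (F x) = 9 ∧ u ∈ F x ∧ v ∈ F x) : False := by
  choose x x1 x2 x3 using h
  have e : ∀ y : X, Nat.card (F y) = 9 → Nonempty (F y ≃ Fin 9) := fun y hy =>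
    have : Finite (F y) := Nat.finite_of_card_ne_zero (by omega)
    ⟨Finite.equivFinOfCardEq hy⟩
  classical
  let φ : ∀ y : X, F y → Fin 9 := fun y => if k : Nat.card (F y) = 9 then (e y k).some else 0
  have := Nat.card_le_card_of_injective (fun w : V × V =>
    (x w.1 w.2, φ _ ⟨w.1, x2 w.1 w.2⟩, φ _ ⟨w.2, x3 w.1 w.2⟩)) (by
      rintro ⟨u, v⟩ ⟨u', v'⟩ k
      simp only [Prod.mk.injEq] at k
      obtain ⟨k1, k2, k3⟩ := k
      have i : ∀ y z : X, y = z → Nat.card (F y) = 9 → ∀ (a b : V) ha hb,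
          φ y ⟨a, ha⟩ = φ z ⟨b, hb⟩ → a = b := by
        rintro y _ rfl hy a b ha hb k
        simp only [φ, dif_pos hy] at k
        exact congrArg Subtype.val ((e y hy).some.injective k)
      exact Prod.ext (i _ _ k1 (x1 _ _) _ _ _ _ k2) (i _ _ k1 (x1 _ _) _ _ _ _ k3))
  simp [Nat.card_prod, hV, hX] at this

/-- the exceptional case of Huppert's theorem on `81` vectors is not transitive on planes -/
theorem not_exc {V : Type u} [AddCommGroup V] [Module (ZMod 3) V] [Finite V] [Nontrivial V]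
    {K : Type*} [Field K] [Module K V] [Algebra (ZMod 3) K] [IsScalarTower (ZMod 3) K V]
    {σ : G →* End (ZMod 3) V} {A N : Subgroup G} (h : H25.Hup K σ A N 2) (hA : Nat.card A ∣ 2)
    (hN : A.relIndex N = 16) (hV : Nat.card V = 81)
    (ht : ∀ U W : AddSubgroup V, Nat.card U = 9 → Nat.card W = 9 → ∃ g, ∀ v ∈ U, σ g v ∈ W) :
    False := by
  have hA : Nat.card A = 2 := Nat.dvd_antisymm hA h.dvd_card
  obtain ⟨⟨a, ha⟩, a1, a2⟩ := (Nat.card_eq_two_iff' (1 : A)).1 hA
  have a1 : a ≠ 1 := fun e => a1 (Subtype.ext e)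
  have a2 : ∀ x ∈ A, x = 1 ∨ x = a := fun x hx => or_iff_not_imp_left.2 fun e =>
    congrArg Subtype.val (a2 ⟨x, hx⟩ fun k => e (congrArg Subtype.val k))
  have a3 : a * a = 1 := (a2 _ (mul_mem ha ha)).resolve_right (by simpa using a1)
  have a4 : ∀ x ∈ N, a * x = x * a := fun x hx => h.cen hx a ha
  have cN : Nat.card N = 32 := by
    rw [← (A.subgroupOf N).card_mul_index, Nat.card_congr (subgroupOfEquivOfLe h.le).toEquiv, hA]
    exact congrArg (2 * ·) hN
  obtain ⟨t, t1, t2, t3⟩ := exists_inv32 a1 a2 a3 a4 (fun x hx => sq x ▸ h.pow x hx) cN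
  obtain ⟨y, hy, y1⟩ : ∃ y ∈ N, y * t * y⁻¹ * t⁻¹ = a := by
    by_contra! e
    refine t2 (h.cN fun y hy => ?_)
    have := (a2 _ (h.comm t t1 y hy)).resolve_right (e y hy)
    rwa [mul_inv_eq_one, mul_inv_eq_iff_eq_mul] at this
  have sa : ∀ v, σ a v = -v := by
    obtain ⟨κ, k1, k2⟩ := h.sc.exists_units h.inj
    have : κ ⟨a, ha⟩ ^ 2 = 1 := by rw [sq, ← map_mul, ← map_one κ]; exact congrArg κ (Subtype.ext a3)
    rw [Units.ext_iff, Units.val_pow_eq_pow_val, Units.val_one, sq_eq_one_iff] at this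
    rcases this with e | e
    · exact absurd (congrArg Subtype.val (k1 ((Units.val_eq_one.1 e).trans (map_one κ).symm))) a1
    · intro v; rw [k2 ⟨a, ha⟩, e]; simp
  let Fx : G → AddSubgroup V := fun g => (LinearMap.eqLocus (σ g) LinearMap.id).toAddSubgroup
  have mF : ∀ g v, v ∈ Fx g ↔ σ g v = v := fun g v => Iff.rfl
  have cj : ∀ g x, Nat.card (Fx (g * x * g⁻¹)) = Nat.card (Fx x) := fun g x =>
    Nat.card_congr ⟨fun v => ⟨σ g⁻¹ v, by
        have := congrArg (σ g⁻¹) ((mF _ _).1 v.2)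
        rwa [map_mul, map_mul, End.mul_apply, End.mul_apply, H25.rep_inv_apply] at this⟩,
      fun v => ⟨σ g v, by
        rw [mF, map_mul, map_mul, End.mul_apply, End.mul_apply, H25.rep_inv_apply, (mF _ _).1 v.2]⟩,
      fun v => Subtype.ext (H25.rep_apply_inv σ g v), fun v => Subtype.ext (H25.rep_inv_apply σ g v)⟩
  have h3 : ∀ v : V, v + v + v = 0 := fun v => by
    have : ((1 : ZMod 3) + 1 + 1) • v = (0 : ZMod 3) • v := rfl
    simpa [add_smul] using this
  have tt : ∀ v, σ t (σ t v) = v := fun v => by rw [← End.mul_apply, ← map_mul, t3, map_one]; rfl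
  have c9 : Nat.card (Fx t) = 9 := by
    have e : Nat.card (Fx (a * t)) = Nat.card (Fx t) := by rw [← y1, inv_mul_cancel_right, cj]
    have m : ∀ v, v ∈ Fx (a * t) ↔ σ t v = -v := fun v => by
      rw [mF, map_mul, End.mul_apply, sa, neg_eq_iff_eq_neg]
    have : Function.Bijective fun x : Fx t × Fx (a * t) => (x.1 : V) + x.2 := by
      refine ⟨fun ⟨u, w⟩ ⟨u', w'⟩ e => ?_, fun v => ⟨(⟨-(v + σ t v), neg_mem ((mF _ _).2 (by
        rw [map_add, tt, add_comm]))⟩, ⟨-(v - σ t v), neg_mem ((m _).2 (by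
        rw [map_sub, tt, neg_sub]))⟩), ?_⟩⟩
      · have e : (u : V) + w = u' + w' := e
        have e' := congrArg (σ t) e
        rw [map_add, map_add, (mF _ _).1 u.2, (mF _ _).1 u'.2, (m _).1 w.2, (m _).1 w'.2] at e'
        have k : (u : V) = u' := by
          linear_combination (norm := abel1) -e - e' + h3 u - h3 u'
        exact Prod.ext (Subtype.ext k) (Subtype.ext (add_left_cancel (k ▸ e)))
      · show -(v + σ t v) + -(v - σ t v) = v
        linear_combination (norm := abel1) -h3 v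
    have := Nat.card_eq_of_bijective _ this
    rw [Nat.card_prod, e, hV] at this
    nlinarith
  have pl : ∀ u v : V, ∃ x : N, Nat.card (Fx x) = 9 ∧ u ∈ Fx x ∧ v ∈ Fx x := fun u v => by
    have o : ∀ x : Multiplicative V, Nat.card (zpowers x) ∣ 3 := fun x => by
      rw [Nat.card_zpowers]
      exact orderOf_dvd_of_pow_eq_one (by
        rw [pow_succ, sq]; exact congrArg Multiplicative.ofAdd (h3 x.toAdd))
    obtain ⟨k, k1, k2⟩ := (Nat.dvd_prime_pow Nat.prime_three (m := 2)).1 ((H1.card_sup_dvd_normal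
      (zpowers (Multiplicative.ofAdd u)) (zpowers (Multiplicative.ofAdd v))).trans
      (mul_dvd_mul (o _) (o _)))
    obtain ⟨U, h1, h2⟩ := Sylow.exists_subgroup_card_pow_prime_le 3 (m := 2)
      (by rw [show Nat.card (Multiplicative V) = 81 from hV]; decide) _ k2 k1
    obtain ⟨g, hg⟩ := ht (toAddSubgroup' U) (Fx t) h1 c9
    have k : ∀ w, Multiplicative.ofAdd w ∈ U → w ∈ Fx (g⁻¹ * t * g⁻¹⁻¹) := fun w hw => by
      rw [mF, inv_inv, map_mul, map_mul, End.mul_apply, End.mul_apply, (mF _ _).1 (hg w hw),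
        H25.rep_inv_apply]
    exact ⟨⟨_, h.nN.conj_mem t t1 g⁻¹⟩, (cj _ _).trans c9, k u (h2 (mem_sup_left (mem_zpowers _))),
      k v (h2 (mem_sup_right (mem_zpowers _)))⟩
  exact count81 (fun x : N => (Fx x : Set V)) hV cN pl

theorem exists_aff' [Group.IsSolvable G] (h : AP p G) (hO : pPrimeCore p G = ⊥) [S.Normal]
    (hS : ¬ p ∣ S.index) (hc : IsMulCommutative S) (h2 : ∀ x ∈ S, x ^ p = 1) {n : ℕ}
    (hk : Nat.card S = p ^ n) (h3 : 3 ≤ n) :
    ∃ R : Subgroup (Equiv.Perm (GaloisField p n)),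
      Nonempty (G ≃* R) ∧ R ≤ semiaffineGroup _ ∧ (∀ b, ∃ g ∈ R, ∀ x, g x = x + b) ∧
      (p = 2 → ∀ c ≠ 0, ∃ g ∈ R, g 0 = 0 ∧ g 1 = c) := by
  have ho := (hp.out.coprime_iff_not_dvd.2 hS)
  obtain ⟨H, hH⟩ := exists_right_complement'_of_coprime (N := S) (hk ▸ ho.pow_left n)
  haveI : FaithfulSMul G (G ⧸ H) := ⟨fun {a b} hab => (MonoidHom.ker_eq_bot_iff (toPermHom G (G ⧸ H))).1
    (by
      rw [← normalCore_eq_ker]
      refine le_bot_iff.1 (hO ▸ le_pPrimeCore (ho.symm.coprime_dvd_left ?_))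
      rw [hH.symm.index_eq_card]
      exact card_dvd_of_le H.normalCore_le) (Equiv.ext hab)⟩
  obtain ⟨V, _, _, β, ρ, h8, h7, h6, h9, h12⟩ := H25.exists_affine (α := G ⧸ H) S hc
    h2 (fun c d => by
      obtain ⟨c, rfl⟩ := QuotientGroup.mk_surjective c
      obtain ⟨d, rfl⟩ := QuotientGroup.mk_surjective d
      obtain ⟨⟨⟨a, ha⟩, b, hb⟩, rfl⟩ := hH.2 c
      obtain ⟨⟨⟨a', ha'⟩, b', hb'⟩, rfl⟩ := hH.2 d
      exact ⟨a' * a⁻¹, mul_mem ha' (inv_mem ha), QuotientGroup.eq.2 (by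
        simpa [mul_assoc] using mul_mem (inv_mem hb) hb')⟩) ((1 : G) : G ⧸ H)
  have := Finite.of_equiv _ β.symm
  choose τ τ1 τ2 using h6
  have ex : ∀ a b : G, (∀ w, a • β w = b • β w) → a = b := fun a b e =>
    eq_of_smul_eq_smul fun c : G ⧸ H => by rw [← β.apply_symm_apply c, e]
  let f : Multiplicative V →* G := MonoidHom.mk' (fun v => τ v.toAdd) fun a b => ex _ _ fun w => by
    rw [mul_smul, τ2, τ2, τ2, toAdd_mul, add_assoc, add_comm b.toAdd]
  have hf : Function.Injective f := fun a b e => by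
    have e : τ a.toAdd = τ b.toAdd := e
    have := τ2 a.toAdd 0
    rw [e, τ2] at this
    simpa using (β.injective this).symm
  have cf : ∀ g v, g * τ v * g⁻¹ = τ (ρ g v) := fun g v => by
    rw [mul_inv_eq_iff_eq_mul]
    refine ex _ _ fun w => ?_
    rw [mul_smul, mul_smul, τ2, h7, h7, τ2, (ρ g).map_add, add_right_comm]
  have pV : IsPGroup p (Multiplicative V) := .of_card (h12.trans hk)
  have pt : ∀ U W : Subgroup (Multiplicative V), Nat.card U = Nat.card W →
      ∃ g, ∀ v, .ofAdd v ∈ U → .ofAdd (ρ g v) ∈ W := fun U W e => by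
    obtain ⟨g, k⟩ := h _ _ ((pV.to_subgroup U).map f) ((pV.to_subgroup W).map f)
      (by rwa [card_map_of_injective hf, card_map_of_injective hf])
    refine ⟨g, fun v hv => ?_⟩
    have : g * τ v * g⁻¹ ∈ W.map f := k ▸ mem_map_of_mem _ (mem_map_of_mem f hv)
    obtain ⟨w, hw, e⟩ := cf g v ▸ this
    rwa [← hf (a₂ := .ofAdd (ρ g v)) e]
  have l1 : ∀ v ≠ 0, ∀ w ≠ 0, ∃ g, ∃ c : (ZMod p)ˣ, c • ρ g v = w := fun v hv w hw => by
    have o : ∀ v : V, v ≠ 0 → Nat.card (zpowers (Multiplicative.ofAdd v)) = p := fun v hv => by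
      rw [Nat.card_zpowers]
      exact orderOf_eq_prime (hf (by rw [map_pow, map_one]; exact h2 _ (τ1 v))) hv
    obtain ⟨g, hg⟩ := pt _ _ ((o v hv).trans (o w hw).symm)
    obtain ⟨k, hk⟩ := hg v (mem_zpowers _)
    have hk : (k : ZMod p) • w = ρ g v := by
      rw [Int.cast_smul_eq_zsmul]; exact congrArg Multiplicative.toAdd hk
    have k0 : (k : ZMod p) ≠ 0 := fun e => hv ((ρ g).map_eq_zero_iff.1 (by rw [← hk, e, zero_smul]))
    exact ⟨g, (Units.mk0 _ k0)⁻¹, by rw [← hk, inv_smul_eq_iff]; rfl⟩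
  let ρ' : G × (ZMod p)ˣ →* V ≃ₗ[ZMod p] V := ρ.noncommCoprod
    (DistribMulAction.toModuleAut (ZMod p) V) fun g c => LinearEquiv.ext fun v => by
      simp [Units.smul_def]
  have r1 : ∀ g c v, ρ' (g, c) v = c • ρ g v := fun g c v =>
    (ρ g).map_smul (c : ZMod p) v
  have : Group.IsSolvable ρ'.range := Group.isSolvable_of_surjective ρ'.rangeRestrict_surjective
  have ht : H25.LTrans (H25.linRep ρ'.range) := fun v w hv hw => let ⟨g, c, e⟩ := l1 v hv w hw
    ⟨(⟨_, (g, c), rfl⟩ : ρ'.range), (r1 g c v).trans e⟩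
  have p3 : p ^ 3 ≤ p ^ n := Nat.pow_le_pow_right hp.out.pos h3
  haveI : Nontrivial V := Finite.one_lt_card_iff_nontrivial.1 (by
    rw [h12, hk]; exact Nat.one_lt_pow (by omega) hp.out.one_lt)
  rcases H25.huppert (H25.linRep_inj ρ'.range) ht with
    ⟨m, h0, h11, e, he⟩ | ⟨K, _, _, _, _, A, M, r, k, -⟩
  swap
  · obtain ⟨rfl, -, k0, ⟨k1, k2⟩ | ⟨-, k1, -⟩⟩ := k.card_cases ht
    · obtain rfl : p = 3 := (Nat.prime_dvd_prime_iff_eq hp.out Nat.prime_three).1
        (hp.out.dvd_of_dvd_pow (n := 4) (by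
          rw [show 3 ^ 4 = p ^ n from k2.symm.trans (h12.trans hk)]
          exact dvd_pow_self p (by omega)))
      refine (not_exc k k0 k1 k2 fun U W a b => ?_).elim
      obtain ⟨g, hg⟩ := pt U.toSubgroup W.toSubgroup (a.trans b.symm)
      exact ⟨⟨_, (g, 1), rfl⟩, fun v hv => by
        have := (r1 g 1 v).trans (one_smul _ _)
        exact this ▸ hg v hv⟩
    · have := Nat.pow_right_injective hp.out.two_le (k1.symm.trans (h12.trans hk))
      omega
  obtain rfl : n = m := Nat.pow_right_injective hp.out.two_le ((h12.trans hk).symm.trans h11)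
  let φ : G →* Equiv.Perm (GaloisField p n) :=
    (β.symm.trans e.toEquiv).permCongrHom.toMonoidHom.comp (toPermHom G (G ⧸ H))
  have hφ : ∀ g v, φ g (e v) = e (ρ g v) + e (β.symm (g • ((1 : G) : G ⧸ H))) := fun g v => by
    change e (β.symm (g • β (e.symm (e v)))) = _
    rw [e.symm_apply_apply, h7, β.symm_apply_apply, map_add]
  have hi : Function.Injective φ := (Equiv.permCongrHom _).injective.comp toPerm_injective
  have htr : ∀ b, ∃ m ∈ S, ∀ x, φ m x = x + b := fun b => by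
    refine ⟨_, τ1 (e.symm b), fun x => ?_⟩
    change e (β.symm (τ (e.symm b) • β (e.symm x))) = _
    rw [τ2, β.symm_apply_apply, map_add, e.apply_symm_apply, e.apply_symm_apply]
  refine ⟨φ.range, ⟨MonoidHom.ofInjective hi⟩, ?_,
    fun b => let ⟨m, _, k⟩ := htr b; ⟨_, ⟨m, rfl⟩, k⟩, fun p2 c hc => ?_⟩
  · rintro _ ⟨g, rfl⟩
    obtain ⟨c, τ, hc⟩ := he ⟨_, (g, 1), rfl⟩
    replace hc : ∀ v, e (ρ g v) = c * τ (e v) := fun v => by
      rw [← hc v]; exact congrArg e ((r1 g 1 v).trans (one_smul _ _)).symm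
    have c0 : c ≠ 0 := by
      rintro rfl
      have := (ρ g).map_eq_zero_iff.1 (e.map_eq_zero_iff.1 ((hc (e.symm 1)).trans (zero_mul _)))
      simp at this
    refine ⟨Units.mk0 c c0, e (β.symm (g • ((1 : G) : G ⧸ H))), τ, fun x => ?_⟩
    obtain ⟨v, rfl⟩ := e.surjective x
    rw [hφ]
    exact congrArg (· + _) (hc v)
  · subst p2
    obtain ⟨g, u, hg⟩ := l1 (e.symm 1) (by simp) (e.symm c) (by simpa using hc)
    rw [Subsingleton.elim u 1, one_smul] at hg
    obtain ⟨m, -, hm⟩ := htr (-e (β.symm (g • ((1 : G) : G ⧸ H))))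
    refine ⟨φ (m * g), ⟨_, rfl⟩, ?_, ?_⟩
    · rw [map_mul, Equiv.Perm.mul_apply, hm, ← map_zero e, hφ]; simp
    · rw [map_mul, Equiv.Perm.mul_apply, hm, ← e.apply_symm_apply 1, hφ, hg]; simp

theorem normal_cases' [Group.IsSolvable G] (h : AP p G) (hO : pPrimeCore p G = ⊥) [S.Normal]
    (hS : ¬ p ∣ S.index) (hc : IsMulCommutative S) (h2 : ∀ x ∈ S, x ^ p = 1) {n : ℕ}
    (hk : Nat.card S = p ^ n) (h3 : 3 ≤ n) :
    (n = 3 ∧ (∃ f : G →* semiaffineGroup (GaloisField p 3), Function.Injective f) ∧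
      (p = 2 → Nonempty (G ≃* semiaffineGroup (GaloisField 2 3)) ∨
        Nonempty (G ≃* affineGroup (GaloisField 2 3)))) ∨
    (n = 5 ∧ p = 2 ∧ Nonempty (G ≃* semiaffineGroup (GaloisField 2 5))) := by
  obtain ⟨R, ⟨e⟩, hR, ht, h4⟩ := exists_aff' h hO hS hc h2 hk h3
  have := Fintype.ofFinite (GaloisField p n)
  have hF : Fintype.card (GaloisField p n) = p ^ n := by
    rw [← Nat.card_eq_fintype_card, GaloisField.card p n (by omega)]
  have ha := card_aut hF
  have k := fun e => aff_cases hR ht (h4 e)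
  rw [hF, ha] at k
  have c := cov_aff' hR ht (h.congr e)
  rcases c.cases hF with k1 | ⟨rfl, rfl⟩ | ⟨rfl, rfl, σ, k1, k2⟩
  · obtain rfl : n = 3 := by omega
    refine Or.inl ⟨rfl, ⟨(inclusion hR).comp e.toMonoidHom,
      (inclusion_injective hR).comp e.injective⟩, ?_⟩
    rintro rfl
    rcases k rfl (by norm_num) (by norm_num) (by norm_num) with rfl | rfl
    exacts [Or.inr ⟨e⟩, Or.inl ⟨e⟩]
  · exact absurd hF c.not_81
  · exact Or.inr ⟨rfl, rfl, ⟨(k rfl (by norm_num) (by norm_num)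
      (by norm_num)).resolve_left (fun k3 => k1.resolve_left k2 k3.le) ▸ e⟩⟩

end H15.CJ
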