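import Mathlib
import Cfsg.Agent.S3224

/-! Sylow `2`-subgroups of groups of fixity two. -/

set_option autoImplicit false
set_option linter.unusedSectionVars false

namespace H15.Fx2

open Subgroup MulAction

variable {G : Type*} [Group G] [Finite G] {Ω : Type*} [Finite Ω] [MulAction G Ω]

theorem three (h : ∀ g : G, g ≠ 1 → Nat.card (fixedBy Ω g) ≤ 2) {t : G} (t1 : t ≠ 1) {a b c : Ω}
    (ha : t • a = a) (hb : t • b = b) (hc : t • c = c) (hab : a ≠ b) : c = a ∨ c = b := by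
  by_contra! e
  have k : ({a, b, c} : Set Ω) ⊆ fixedBy Ω t := by
    rintro _ (rfl | rfl | rfl) <;> assumption
  have k1 := Set.ncard_le_ncard k
  rw [Set.ncard_eq_three.2 ⟨a, b, c, hab, e.1.symm, e.2.symm, rfl⟩] at k1
  have := h t t1
  rw [Nat.card_coe_set_eq] at this
  omega

theorem rel (D : Subgroup G) (a : Ω) : (stabilizer G a).relIndex D = (orbit D a).ncard :=
  index_stabilizer D a

theorem four (h : ∀ g : G, g ≠ 1 → Nat.card (fixedBy Ω g) ≤ 2) {S : Subgroup G} (hS : IsPGroup 2 S)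
    {c : Ω} (h2 : Nat.card (S ⊓ stabilizer G c : Subgroup G) = 2) (h3 : 2 < Nat.card S) :
    (∃ n : ℕ, Nonempty (S ≃* DihedralGroup n)) ∨ Cfsg.IsQuasiDihedral S ∨ Nat.card S = 4 := by
  obtain ⟨⟨t, t1, t2⟩, ht⟩ := exists_prime_orderOf_dvd_card' (G := (S ⊓ stabilizer G c : Subgroup G)) 2
    (h2 ▸ dvd_rfl)
  rw [← orderOf_coe] at ht
  have ht : orderOf t = 2 := ht
  have t0 : t ≠ 1 := by rintro rfl; simp at ht
  have e : zpowers t = S ⊓ stabilizer G c :=
    eq_of_le_of_card_ge (zpowers_le.2 ⟨t1, t2⟩) (by rw [h2, Nat.card_zpowers, ht])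
  set D := S ⊓ centralizer {t} with hD
  have a1 : (stabilizer G c).relIndex D ≤ 2 := by
    rw [rel]
    refine (Set.ncard_le_ncard (t := fixedBy Ω t) ?_).trans (Nat.card_coe_set_eq _ ▸ h t t0)
    rintro _ ⟨⟨d, d1, d2⟩, rfl⟩
    show t • d • c = d • c
    rw [← mul_smul, d2 t rfl, mul_smul, show t • c = c from t2]
  have a2 : stabilizer G c ⊓ D = zpowers t := le_antisymm
    (e ▸ le_inf (inf_le_right.trans inf_le_left) inf_le_left)
    (zpowers_le.2 ⟨t2, t1, mem_centralizer_singleton_iff.2 rfl⟩)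
  have a3 : 2 * (stabilizer G c).relIndex D = Nat.card D := by
    rw [← ((stabilizer G c).subgroupOf D).card_mul_index, ← inf_subgroupOf_right, a2,
      Nat.card_congr (subgroupOfEquivOfLe (a2 ▸ inf_le_right)).toEquiv, Nat.card_zpowers, ht,
      ← a2, inf_subgroupOf_right]
    rfl
  have a4 : centralizer {(⟨t, t1⟩ : S)} = D.subgroupOf S := by
    ext x
    simp [mem_centralizer_singleton_iff, mem_subgroupOf, hD, Subtype.ext_iff]
  have a5 : Nat.card (D.subgroupOf S) = Nat.card D :=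
    Nat.card_congr (subgroupOfEquivOfLe (inf_le_left : D ≤ S)).toEquiv
  refine Cfsg.Agent.S3224.result hS ⟨t, t1⟩ (by rw [← orderOf_coe]; exact ht) ?_
  rw [a4, a5]
  have a6 : Nat.card D ≠ 2 := fun k => by
    have : Nontrivial S := Finite.one_lt_card_iff_nontrivial.1 (by omega)
    have z := (nontrivial_iff_ne_bot _).1 hS.center_nontrivial
    have z1 : center S ≤ D.subgroupOf S := a4 ▸ center_le_centralizer _
    have z2 := eq_of_le_of_card_ge z1 (by
      rw [a5, k]; exact (one_lt_card_iff_ne_bot _).2 z)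
    have z3 : (⟨t, t1⟩ : S) ∈ center S := by
      rw [z2, ← a4]; exact mem_centralizer_singleton_iff.2 rfl
    have z4 : D.subgroupOf S = ⊤ := a4 ▸ eq_top_iff.2 fun x _ =>
      mem_centralizer_singleton_iff.2 (mem_center_iff.1 z3 x)
    rw [z4, card_top] at a5
    omega
  have := Nat.card_pos (α := D)
  omega

theorem cyc {X : Type*} [Group X] [Finite X] (h : IsCyclic X) {x y : X} (hx : x * x = 1)
    (hy : y * y = 1) (x1 : x ≠ 1) (y1 : y ≠ 1) : x = y := by
  classical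
  have := Fintype.ofFinite X
  by_contra e
  have k := IsCyclic.card_pow_eq_one_le (α := X) two_pos
  have : ({1, x, y} : Finset X) ⊆ Finset.univ.filter (fun a : X => a ^ 2 = 1) := by
    intro a ha
    simp only [Finset.mem_insert, Finset.mem_singleton] at ha
    rcases ha with rfl | rfl | rfl <;> simp [sq, hx, hy]
  have k1 := Finset.card_le_card this
  rw [Finset.card_eq_three.2 ⟨1, x, y, x1.symm, y1.symm, e, rfl⟩] at k1
  omega

/-- a nontrivial point stabilizer of index greater than two in a `2`-group has order two -/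
theorem two (h : ∀ g : G, g ≠ 1 → Nat.card (fixedBy Ω g) ≤ 2) {S : Subgroup G} (hS : IsPGroup 2 S)
    {a : Ω} (h0 : S ⊓ stabilizer G a ≠ ⊥) (h1 : ¬ S ≤ stabilizer G a)
    (h2 : (S ⊓ stabilizer G a).relIndex S ≠ 2) : Nat.card (S ⊓ stabilizer G a : Subgroup G) = 2 := by
  have := hS.isNilpotent
  have nc : ∀ U : Subgroup G, U ≤ S → U ≠ S → ∃ w ∈ S, w ∈ normalizer (U : Set G) ∧ w ∉ U := by
    intro U a b
    obtain ⟨w, w1, w2⟩ := SetLike.exists_of_lt (Group.normalizerCondition_of_isNilpotent (U.subgroupOf S)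
      (lt_top_iff_ne_top.2 fun e => b (le_antisymm a (subgroupOf_eq_top.1 e))))
    rw [← subgroupOf_normalizer_eq a] at w1
    exact ⟨w, w.2, w1, w2⟩
  set T := S ⊓ stabilizer G a with hT
  obtain ⟨t, ht, t1⟩ := (bot_or_exists_ne_one T).resolve_left h0
  obtain ⟨s, s1, s2, s3⟩ := nc T inf_le_left fun e => h1 (e ▸ inf_le_right)
  have fx : ∀ u ∈ normalizer (T : Set G), ∀ x ∈ T, x • u • a = u • a := fun u hu x hx => by
    have : (u⁻¹ * x * u) • a = a := ((mem_normalizer_iff''.1 hu x).1 hx).2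
    rw [mul_smul, mul_smul, inv_smul_eq_iff] at this
    exact this
  have sa : a ≠ s • a := fun e => s3 ⟨s1, e.symm⟩
  set U := S ⊓ normalizer (T : Set G) with hU
  have TU : T ≤ U := le_inf inf_le_left le_normalizer
  have mem : ∀ w ∈ S, w • a = a ∨ w • a = s • a → w ∈ U := by
    rintro w hw (e | e)
    · exact TU ⟨hw, e⟩
    · have : s⁻¹ * w ∈ T := ⟨S.mul_mem (S.inv_mem s1) hw, by
        show _ = _
        rw [mul_smul, e, inv_smul_smul]⟩
      simpa using mul_mem (⟨s1, s2⟩ : s ∈ U) (TU this)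
  have u2 : T.relIndex U = 2 := by
    have : T.relIndex U = (stabilizer G a).relIndex U := by
      rw [← inf_relIndex_right (stabilizer G a), ← inf_relIndex_right T]
      congr 1
      exact le_antisymm (inf_le_inf_right _ inf_le_right)
        (le_inf (le_inf (inf_le_right.trans inf_le_left) inf_le_left) inf_le_right)
    rw [this, rel, Set.ncard_eq_two]
    refine ⟨a, s • a, sa, Set.Subset.antisymm ?_ ?_⟩
    · rintro _ ⟨u, rfl⟩
      exact three h t1 ht.2 (fx s s2 t ht) (fx u u.2.2 t ht) sa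
    · rintro _ (rfl | rfl)
      exacts [mem_orbit_self _, ⟨⟨s, s1, s2⟩, rfl⟩]
  obtain ⟨w, w1, w2, w3⟩ := nc U inf_le_left fun e => h2 (e ▸ u2)
  have k : ∀ x ∈ T, w * x * w⁻¹ ∈ T → x = 1 := fun x hx e => by
    by_contra x1
    have y1 : w * x * w⁻¹ ≠ 1 := fun e => x1 (conj_eq_one_iff.1 e)
    refine w3 (mem w w1 (three h y1 e.2 (fx s s2 _ e) ?_ sa))
    rw [mul_smul, inv_smul_smul, mul_smul, show x • a = a from hx.2]
  have i2 : (T.subgroupOf U).index = 2 := u2
  have wU : ∀ x ∈ T, w * x * w⁻¹ ∈ U := fun x hx => (mem_normalizer_iff.1 w2 x).1 (TU hx)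
  rw [Nat.card_eq_two_iff' (1 : T)]
  refine ⟨⟨t, ht⟩, fun e => t1 (congrArg Subtype.val e), fun x hx => Subtype.ext ?_⟩
  have := (mul_mem_iff_of_index_two i2 (a := ⟨_, wU _ (inv_mem ht)⟩) (b := ⟨_, wU _ x.2⟩)).2
    (iff_of_false (fun e => t1 (inv_eq_one.1 (k _ (inv_mem ht) e)))
      fun e => hx (Subtype.ext (k _ x.2 e)))
  have e := k _ (mul_mem (inv_mem ht) x.2) (by
    have e : w * (t⁻¹ * x) * w⁻¹ = w * t⁻¹ * w⁻¹ * (w * x * w⁻¹) := by group
    rw [e]; exact this)
  exact (inv_mul_eq_one.1 e).symm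

/-- the Frobenius subgroup of index two -/
theorem frob [FaithfulSMul G Ω] [IsPretransitive G Ω]
    (h : ∀ g : G, g ≠ 1 → Nat.card (fixedBy Ω g) ≤ 2) (S : Sylow 2 G) {a : Ω}
    (h0 : (S : Subgroup G) ⊓ stabilizer G a ≠ ⊥) (h2 : ((S : Subgroup G) ⊓ stabilizer G a).relIndex S = 2)
    (hr : ∀ c : Ω, c ∉ orbit (S : Subgroup G) a → (S : Subgroup G) ⊓ stabilizer G c = ⊥) :
    ∃ N : Subgroup G, N.index = 2 ∧ ∃ H : Subgroup N, Cfsg.IsFrobeniusComplement H := by
  set T := (S : Subgroup G) ⊓ stabilizer G a with hT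
  have i2 : (T.subgroupOf S).index = 2 := h2
  obtain ⟨t, ht, t1⟩ := (bot_or_exists_ne_one T).resolve_left h0
  have fx : ∀ x ∈ (S : Subgroup G), x ∈ T ↔ ∃ c : Ω, x • c = c := fun x hx => by
    refine ⟨fun e => ⟨a, e.2⟩, fun ⟨c, e⟩ => ?_⟩
    by_cases k : c ∈ orbit (S : Subgroup G) a
    · obtain ⟨u, rfl⟩ := k
      have : u⁻¹ * ⟨x, hx⟩ * u ∈ T.subgroupOf S := ⟨(S : Subgroup G).mul_mem
          ((S : Subgroup G).mul_mem ((S : Subgroup G).inv_mem u.2) hx) u.2, by
        show ((u : G)⁻¹ * x * u) • a = a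
        rw [mul_smul, mul_smul, inv_smul_eq_iff]; exact e⟩
      simpa [mem_subgroupOf, mul_assoc] using (normal_of_index_eq_two i2).conj_mem _ this u
    · have : x ∈ (S : Subgroup G) ⊓ stabilizer G c := ⟨hx, e⟩
      rw [hr c k, mem_bot] at this
      exact this ▸ T.one_mem
  have foc : focalSubgroupOf (S : Subgroup G) ≤ T.subgroupOf S := by
    refine comap_mono (closure_le _ |>.2 ?_)
    rintro _ ⟨a1, x, hx, u, rfl⟩
    rw [commutatorElement_def, mul_assoc, mul_assoc, ← mul_assoc u] at a1 ⊢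
    have y : u * x⁻¹ * u⁻¹ ∈ (S : Subgroup G) := by simpa using mul_mem (inv_mem hx) a1
    refine (mul_mem_iff_of_index_two i2 (a := ⟨x, hx⟩) (b := ⟨_, y⟩)).2 ?_
    refine (fx x hx).trans (Iff.trans ⟨fun ⟨c, e⟩ => ⟨u • c, ?_⟩, fun ⟨c, e⟩ => ⟨u⁻¹ • c, ?_⟩⟩
      (fx _ y).symm)
    · rw [mul_smul, inv_smul_smul, mul_smul, inv_smul_eq_iff.2 e.symm]
    · rw [mul_smul, mul_smul, smul_eq_iff_eq_inv_smul, inv_smul_eq_iff] at e
      exact e.symm
  set M := ((T.subgroupOf S).map (QuotientGroup.mk' (focalSubgroupOf (S : Subgroup G)))).comap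
    (transferFocal (S : Subgroup G)) with hM
  have m2 : M.index = 2 := by
    rw [hM, index_comap_of_surjective _ (transferFocal_surjective S),
      index_map_eq _ (QuotientGroup.mk'_surjective _) (by rwa [QuotientGroup.ker_mk']), i2]
  have TM : T ≤ M := fun x hx => by
    rw [hM, mem_comap, transferFocal_eq_pow _ ⟨x, hx.1⟩]
    exact pow_mem (mem_map_of_mem _ (show (⟨x, hx.1⟩ : (S : Subgroup G)) ∈ T.subgroupOf S from hx)) _
  have hN := normal_of_index_eq_two m2
  obtain ⟨s, s1, s2⟩ : ∃ s ∈ (S : Subgroup G), s ∉ M := by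
    by_contra! e
    exact S.not_dvd_index (by simpa [m2] using index_dvd_of_le (show (S : Subgroup G) ≤ M from e))
  have sa : a ≠ s • a := fun e => s2 (TM ⟨s1, e.symm⟩)
  have ts : t • s • a = s • a := by
    have := (normal_of_index_eq_two i2).conj_mem ⟨t, ht.1⟩ ht ⟨s, s1⟩⁻¹
    have e : (s⁻¹ * t * s⁻¹⁻¹) • a = a := this.2
    rwa [inv_inv, mul_smul, mul_smul, inv_smul_eq_iff] at e
  have ev : 2 ∣ Nat.card Ω := by
    by_contra e
    obtain ⟨c, hc⟩ := S.isPGroup'.nonempty_fixed_point_of_prime_not_dvd_card Ω e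
    have k : s • c = c := hc ⟨s, s1⟩
    rcases three h t1 ht.2 ts (hc ⟨t, ht.1⟩) sa with rfl | rfl
    exacts [sa k.symm, sa (smul_left_cancel s k).symm]
  have c1 := relIndex_mul_index (inf_le_left : T ≤ S)
  have c2 := relIndex_mul_index (inf_le_right : stabilizer G a ⊓ M ≤ M)
  have c3 := relIndex_mul_index (inf_le_left : stabilizer G a ⊓ M ≤ stabilizer G a)
  have c4 := index_dvd_of_le (le_inf inf_le_right TM : T ≤ stabilizer G a ⊓ M)
  rw [inf_relIndex_right, m2] at c2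
  rw [inf_relIndex_left, index_stabilizer_of_transitive] at c3
  rw [← c1, ← c2, h2, mul_comm 2, Nat.mul_dvd_mul_iff_right two_pos] at c4
  have od : ¬ 2 ∣ (stabilizer G a).relIndex M := fun e => S.not_dvd_index (e.trans c4)
  have aM : stabilizer G a ≤ M := by
    rcases (Nat.dvd_prime Nat.prime_two).1 (m2 ▸ relIndex_dvd_index_of_normal M (stabilizer G a))
      with e | e
    · exact relIndex_eq_one.1 e
    · rw [e] at c3; omega
  rw [relIndex_eq_one.2 aM] at c3
  refine ⟨M, m2, (stabilizer G a).subgroupOf M, fun e => t1 ?_, fun e => t1 ?_, fun g hg => ?_⟩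
  · have : (⟨t, TM ht⟩ : M) ∈ (stabilizer G a).subgroupOf M := ht.2
    rw [e, mem_bot] at this
    exact congrArg Subtype.val this
  · refine eq_of_smul_eq_smul (α := Ω) fun c => ?_
    obtain ⟨u, rfl⟩ := exists_smul_eq G a c
    have k : (u⁻¹ * t * u⁻¹⁻¹) • a = a := subgroupOf_eq_top.1 e (hN.conj_mem t (TM ht) u⁻¹)
    rw [inv_inv, mul_smul, mul_smul, inv_smul_eq_iff] at k
    rw [k, one_smul]
  by_contra e
  obtain ⟨r, r1, r2⟩ := Nat.exists_prime_and_dvd fun k => e (card_eq_one.1 k)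
  have := Fact.mk r1
  obtain ⟨⟨x, x1, x2⟩, hx⟩ := exists_prime_orderOf_dvd_card' r r2
  rw [← orderOf_coe, ← orderOf_coe] at hx
  have hx : orderOf (x : G) = r := hx
  have x0 : (x : G) ≠ 1 := fun e => r1.one_lt.ne (by rw [← hx, e, orderOf_one])
  have xa : (x : G) • a = a := x1
  have ga : a ≠ (g : G) • a := fun e => hg e.symm
  have xg : (x : G) • (g : G) • a = (g : G) • a := by
    have : ((g : G)⁻¹ * x * g) • a = a := by
      simpa [mem_subgroupOf] using mem_pointwise_smul_iff_inv_smul_mem.1 x2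
    rwa [mul_smul, mul_smul, inv_smul_eq_iff] at this
  have pg : ∀ {X : Type _} [Group X] (y : X), orderOf y = r → IsPGroup r (zpowers y) := fun y e =>
    IsPGroup.of_card (n := 1) (by rw [Nat.card_zpowers, e, pow_one])
  have d1 : r ∣ (stabilizer G a).relIndex M := by
    by_contra k
    rw [rel, ← Nat.card_coe_set_eq] at k
    set y : M := ⟨s⁻¹ * x * s⁻¹⁻¹, hN.conj_mem _ x.2 _⟩
    obtain ⟨⟨_, u, rfl⟩, hc⟩ := (pg y (by
      rw [← orderOf_coe, ← hx]
      exact (orderOf_injective (MulAut.conj s⁻¹).toMonoidHom (MulAut.conj s⁻¹).injective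
        _))).nonempty_fixed_point_of_prime_not_dvd_card (orbit M a) k
    have k1 : (s⁻¹ * x * s⁻¹⁻¹) • (u : G) • a = (u : G) • a :=
      congrArg Subtype.val (hc ⟨y, mem_zpowers y⟩)
    rw [inv_inv, mul_smul, mul_smul, inv_smul_eq_iff] at k1
    have k2 : ∀ v ∈ M, s • (u : G) • a ≠ v • a := fun v hv e => s2 (by
      have : v⁻¹ * s * u ∈ M := aM (by
        show _ = _
        rw [mul_smul, mul_smul, e, inv_smul_smul])
      simpa [mul_assoc] using mul_mem (mul_mem hv this) (inv_mem u.2))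
    rcases three h x0 xa xg k1 ga with e | e
    exacts [k2 1 M.one_mem (by simpa using e), k2 g g.2 e]
  have d2 := (pg (x : G) hx).card_modEq_card_fixedPoints Ω
  have d3 : Nat.card (fixedPoints (zpowers (x : G)) Ω) = 2 := by
    rw [Nat.card_coe_set_eq, Set.ncard_eq_two]
    refine ⟨a, (g : G) • a, ga, Set.Subset.antisymm (fun c hc =>
      three h x0 xa xg (hc ⟨_, mem_zpowers _⟩) ga) ?_⟩
    rintro _ (rfl | rfl) ⟨y, hy⟩
    exacts [(zpowers_le (H := stabilizer G _)).2 xa hy, (zpowers_le (H := stabilizer G _)).2 xg hy]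
  rw [d3] at d2
  rw [one_mul] at c3
  have d4 : r ∣ 2 := (Nat.modEq_zero_iff_dvd.1 (d2.symm.trans (Nat.modEq_zero_iff_dvd.2
    (by rw [c3, ← c2]; exact d1.mul_right _))))
  exact od ((Nat.prime_dvd_prime_iff_eq r1 Nat.prime_two).1 d4 ▸ d1)

end H15.Fx2
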