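import Cfsg.Agent.H26.JRx
import Cfsg.Agent.H25.MinNormal
import Cfsg.Agent.H6.Fus3
import Cfsg.Agent.H2.Sm3
import Cfsg.Agent.Lead.FT
import Cfsg.Agent.S0003
import Cfsg.Agent.S0804

/-!
Hall numbers: groups whose order is not divisible by `16`.
-/

set_option autoImplicit false
set_option linter.unusedSectionVars false

namespace H15.Hn

open Subgroup _root_.Cfsg H16 H26.J
open scoped MatrixGroups

universe u

variable {G : Type u} [Group G] [Finite G] {m : ℕ}

theorem hall_of_solv (X : Subgroup G) (hs : Group.IsSolvable X) (h1 : m ∣ Nat.card X)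
    (hc : m.Coprime (Nat.card G / m)) : ∃ H : Subgroup G, Nat.card H = m := by
  obtain ⟨n, hn⟩ := h1
  obtain ⟨k, hk⟩ := card_subgroup_dvd_card X
  have m0 : 0 < m := Nat.pos_of_ne_zero (by rintro rfl; exact Nat.card_pos.ne' (by simpa using hn))
  rw [hk, hn, mul_assoc, Nat.mul_div_cancel_left _ m0] at hc
  obtain ⟨H, hH⟩ := Agent.S0003.result m n hn hc.coprime_mul_right_right
  exact ⟨H.map X.subtype, by rw [card_map_of_injective X.subtype_injective, hH]⟩

theorem solv_ext (N : Subgroup G) [N.Normal] (h1 : Group.IsSolvable N)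
    (h2 : Group.IsSolvable (G ⧸ N)) : Group.IsSolvable G :=
  Group.isSolvable_of_ker_le_range N.subtype (QuotientGroup.mk' N) (by simp)

theorem solv_of_npc (h : HasNormalPComplement 2 G) : Group.IsSolvable G := by
  obtain ⟨N, hN, h1, h2⟩ := H3.hasNormalPComplement_iff_exists.1 h
  have := h2.isNilpotent
  exact solv_ext N (FT.odd_solvable N (Nat.coprime_two_right.1 h1)) inferInstance

/-- `N(U)` acts irreducibly on `U` -/
def Irr (U : Subgroup G) : Prop := ∀ V ≤ U, N[U] ≤ N[V] → V = ⊥ ∨ V = U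

theorem two_cases {U : Subgroup G} (hU : IsPGroup 2 U) (h16 : ¬ 16 ∣ Nat.card G) :
    Nat.card U = 1 ∨ Nat.card U = 2 ∨ Nat.card U = 4 ∨ Nat.card U = 8 := by
  obtain ⟨a, ha⟩ := IsPGroup.iff_card.1 hU
  have : a < 4 := by
    by_contra k
    exact h16 ((pow_dvd_pow 2 (show 4 ≤ a by omega)).trans (ha ▸ card_subgroup_dvd_card U))
  rw [ha]
  interval_cases a <;> simp

theorem frob (S : Sylow 2 G) (h16 : ¬ 16 ∣ Nat.card G) (hs : ¬ Group.IsSolvable G) :
    ∃ U ≤ (S : Subgroup G), (Nat.card U = 4 ∧ 3 ∣ Nat.card N[U] ∧ Irr U) ∨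
      (Nat.card U = 8 ∧ (3 ∣ Nat.card N[U] ∨ Irr U)) := by
  obtain ⟨U, hU, h⟩ : ∃ U ≤ (S : Subgroup G), ¬ H6.NoOdd U := by
    by_contra! k
    exact hs (solv_of_npc (H3.frobenius S fun Q hQ g hg ho =>
      k Q hQ g hg (Nat.coprime_two_right.1 ho)))
  obtain ⟨q, k, y, hq, h2, -, hn, ho, hc⟩ := H6.exists_primePow_of_not_noOdd h
  haveI := Fact.mk hq
  have pU := S.isPGroup'.to_le hU
  have k0 : ∀ V ≤ U, y ∈ N[V] → Nat.card V ≡ Nat.card (V ⊓ C1[y] : Subgroup G) [MOD q] :=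
    fun V _ hV => H6.card_modEq_inf_cent (k := k) hV (by rw [← ho, pow_orderOf_eq_one])
  have hlt : U ⊓ C1[y] < U := by
    refine lt_of_le_of_ne inf_le_left fun he => hc (mem_centralizer_iff.2 fun e heE => ?_)
    exact mem_centralizer_singleton_iff.1 (he.ge heE).2
  have k1 := H10.card_lt_of_lt hlt
  have k2 := (Nat.modEq_iff_dvd' k1.le).1 (k0 U le_rfl hn).symm
  have k3 : q ∣ Nat.card N[U] := by
    refine (dvd_pow_self q ?_).trans (ho ▸ (N[U]).orderOf_dvd_natCard hn)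
    rintro rfl
    rw [pow_zero, orderOf_eq_one_iff] at ho
    exact hc (ho ▸ one_mem _)
  have k4 : Nat.card (U ⊓ C1[y] : Subgroup G) = 1 → Nat.card U = q + 1 → Irr U := by
    intro j1 j2 V hV hN
    have j3 := k0 V hV (hN hn)
    rw [eq_bot_iff.2 ((inf_le_inf_right _ hV).trans (card_eq_one.1 j1).le), card_bot] at j3
    have j4 := card_le_of_le hV
    by_cases j5 : Nat.card V = 1
    · exact Or.inl (card_eq_one.1 j5)
    have j6 := Nat.card_pos (α := V)
    have := Nat.le_of_dvd (by omega) ((Nat.modEq_iff_dvd' j6).1 j3.symm)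
    exact Or.inr (eq_of_le_of_card_ge hV (by omega))
  have q3 : ∀ n, q ∣ 3 * 2 ^ n → q = 3 := fun n j => by
    rcases hq.dvd_mul.1 j with j | j
    exacts [(Nat.prime_dvd_prime_iff_eq hq Nat.prime_three).1 j,
      absurd ((Nat.prime_dvd_prime_iff_eq hq Nat.prime_two).1 (hq.dvd_of_dvd_pow j)) h2]
  have q2 : ∀ n, ¬ q ∣ 2 ^ n := fun n j =>
    h2 ((Nat.prime_dvd_prime_iff_eq hq Nat.prime_two).1 (hq.dvd_of_dvd_pow j))
  refine ⟨U, hU, ?_⟩
  rcases two_cases pU h16 with e | e | e | e <;>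
    rcases two_cases (pU.to_inf_left (K := C1[y])) h16 with e' | e' | e' | e' <;>
    rw [e, e'] at k1 k2 <;> try omega
  · exact absurd k2 (q2 0)
  · obtain rfl := q3 0 k2
    exact Or.inl ⟨e, k3, k4 e' e⟩
  · exact absurd k2 (q2 1)
  · obtain rfl := (Nat.prime_dvd_prime_iff_eq hq (by decide : Nat.Prime 7)).1 k2
    exact Or.inr ⟨e, Or.inr (k4 e' e)⟩
  · obtain rfl := q3 1 k2
    exact Or.inr ⟨e, Or.inl k3⟩
  · exact absurd k2 (q2 2)

theorem solv_of_not_four (h : ¬ 4 ∣ Nat.card G) : Group.IsSolvable G := by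
  by_contra k
  obtain ⟨U, -, hU⟩ := frob (default : Sylow 2 G) (fun j => h (Dvd.dvd.trans (by decide) j)) k
  refine h (Dvd.dvd.trans ?_ (card_subgroup_dvd_card U))
  rcases hU with ⟨e, -⟩ | ⟨e, -⟩ <;> simp [e]

theorem solv_norm {U : Subgroup G} (hU : IsPGroup 2 U) (h : ¬ 4 * Nat.card U ∣ Nat.card G) :
    Group.IsSolvable N[U] := by
  have := (hU.comap_of_injective (N[U]).subtype (N[U]).subtype_injective).isNilpotent
  refine solv_ext (U.subgroupOf N[U]) (inferInstanceAs (Group.IsSolvable (U.comap _)))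
    (solv_of_not_four fun k => h (Dvd.dvd.trans ?_ (card_subgroup_dvd_card N[U])))
  rw [card_eq_card_quotient_mul_card_subgroup (U.subgroupOf N[U]),
    Nat.card_congr (subgroupOfEquivOfLe U.le_normalizer).toEquiv]
  exact Nat.mul_dvd_mul_right k _

theorem Irr.comm {U : Subgroup G} (h : Irr U) (hU : IsPGroup 2 U) : U ≤ C[U] := by
  by_cases h1 : U = ⊥
  · rw [h1]; exact bot_le
  rcases h (U ⊓ C[U]) inf_le_left (H10.le_NN_inf le_rfl (H10.NN_le_NN_CC U)) with k | k
  exacts [absurd k (H10.center_ne_bot hU h1), k.ge.trans inf_le_right]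

/-- a normal simple subgroup containing the Sylow `2`-subgroup -/
theorem simp (hO : pPrimeCore 2 G = ⊥) {S : Subgroup G} (hS : H10.IsSylowIn 2 S ⊤) (h : Irr S)
    (h16 : ¬ 16 ∣ Nat.card G) (hs : ¬ Group.IsSolvable G) :
    ∃ M : Subgroup G, M.Normal ∧ S ≤ M ∧ IsSimpleGroup M ∧ ¬ IsMulCommutative M := by
  obtain ⟨M, hM, h1, -, hm⟩ := H1.exists_minimal_normal_le (⊤ : Subgroup G) (by
    intro k
    have := (Subgroup.subsingleton_iff.1 (subsingleton_of_bot_eq_top k.symm))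
    exact hs inferInstance)
  have h2 : S ≤ M := by
    have k := hS.inf_normal (N := M) le_top (by rw [normalizer_eq_top])
    rcases h (S ⊓ M) inf_le_left (H10.le_NN_inf le_rfl (by rw [M.normalizer_eq_top]; exact le_top))
      with j | j
    · rw [j] at k
      exact absurd (eq_bot_iff.2 (hO ▸ H1.le_pPrimeCore
        (Nat.prime_two.coprime_iff_not_dvd.2 k.not_dvd_of_eq_bot).symm)) h1
    · exact j.ge.trans inf_le_right
  have h3 : ¬ IsMulCommutative M := fun k => hs (solv_ext M (Group.isSolvable_of_comm k.is_comm.comm) (FT.odd_solvable _ (by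
    rw [← Nat.not_even_iff_odd, even_iff_two_dvd]
    exact fun j => hS.not_dvd_relIndex (by
      rw [relIndex_top_right]; exact j.trans (index_dvd_of_le h2)))))
  obtain ⟨T, _, n, e, hT, h0, -⟩ := H25.exists_pi_simple_decomp_minimal_normal M h1 hm
  have hc : ¬ IsMulCommutative T := fun hc => h3 ⟨⟨fun a b => e.injective (by
      rw [map_mul, map_mul]; exact funext fun i => hc.is_comm.comm _ _)⟩⟩
  obtain rfl | h4 := (show 1 = n ∨ 2 ≤ n by omega)
  · exact ⟨M, hM, h2, (e.trans (MulEquiv.piUnique _)).isSimpleGroup, h3⟩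
  classical
  have : Finite T := Finite.of_injective _
    (e.symm.injective.comp (Pi.mulSingle_injective (M := fun _ => T) ⟨0, h0⟩))
  refine absurd (Dvd.dvd.trans ?_ (card_subgroup_dvd_card M)) h16
  rw [Nat.card_congr e.toEquiv, Nat.card_fun, Nat.card_fin]
  exact (pow_dvd_pow_of_dvd (H2.sm_four_dvd hc) 2).trans (pow_dvd_pow _ h4)

theorem psl_even {F : Type} [Field F] [Fintype F] {n : ℕ} (h : Fintype.card F = 2 ^ n) (h0 : n ≠ 0)
    (e : G ≃* PSL(2, F)) : Nat.card G = 2 ^ n * ((2 ^ n) ^ 2 - 1) := by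
  have h1 := H4.card_psl (F := F)
  obtain ⟨k, hk⟩ : 2 ∣ 2 ^ n := dvd_pow_self 2 h0
  have h2 : Nat.gcd 2 (2 ^ n - 1) = 1 :=
    Nat.coprime_two_left.2 ⟨k - 1, by have := Nat.two_pow_pos n; omega⟩
  rwa [h, h2, one_mul, ← Nat.card_congr e.toEquiv] at h1

theorem psl_odd {F : Type} [Field F] [Fintype F] (h : Odd (Fintype.card F)) (e : G ≃* PSL(2, F)) :
    2 * Nat.card G = Fintype.card F * (Fintype.card F ^ 2 - 1) := by
  have h1 := H4.card_psl (F := F)
  obtain ⟨k, hk⟩ := h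
  rwa [Nat.gcd_eq_left ⟨k, by omega⟩, ← Nat.card_congr e.toEquiv] at h1

theorem l2d_not_eight (h : H4.L2D G) : ¬ 8 ∣ Nat.card G := by
  obtain ⟨F, _, _, h1, -, ⟨e⟩⟩ := h
  rintro ⟨k, hk⟩
  have h2 := psl_odd (Nat.odd_iff.2 (by omega)) e
  generalize Fintype.card F = q at h1 h2
  have h3 : q * q ^ 2 = 16 * k + q := by
    have : 0 < q ^ 2 := Nat.pow_pos (by omega)
    rw [Nat.mul_sub_one] at h2
    have : q ≤ q * q ^ 2 := Nat.le_mul_of_pos_right _ this
    omega
  have h4 := congrArg (· % 16) h3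
  simp only [Nat.mul_mod q, Nat.pow_mod q, Nat.add_mod (16 * k), Nat.mul_mod_right] at h4
  have h5 : q % 16 = 3 ∨ q % 16 = 5 ∨ q % 16 = 11 ∨ q % 16 = 13 := by omega
  rcases h5 with h5 | h5 | h5 | h5 <;> simp [h5] at h4

theorem walter' {S M : Subgroup G} (hS : H10.IsSylowIn 2 S ⊤) (hc : S ≤ C[S]) (h : S ≤ M)
    (hs : IsSimpleGroup M) (hn : ¬ IsMulCommutative M) :
    L2E M ∨ H4.L2D M ∨ 168 ∣ Nat.card N[S] := by
  rcases walter hs hn (H10.isSylowIn_subgroupOf_top (hS.of_le h le_top)) (fun x hx =>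
    mem_centralizer_iff.2 fun y hy => Subtype.ext (hc hx y hy)) with ⟨-, k⟩ | k | ⟨p, n, ρ, τ, f, j⟩
  · exact Or.inl k
  · exact Or.inr (Or.inl k)
  · refine Or.inr (Or.inr ((Dvd.intro _ j.card_norm.symm).trans ?_))
    rw [← card_map_of_injective M.subtype_injective]
    refine card_dvd_of_le ((le_normalizer_map _).trans ?_)
    rw [subgroupOf_map_subtype, inf_eq_left.2 h]

theorem syl_eq {S U : Subgroup G} (hS : H10.IsSylowIn 2 S ⊤) (h : U ≤ S)
    (h2 : ¬ 2 * Nat.card U ∣ Nat.card G) : U = S := by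
  by_contra k
  have h3 := H10.card_mul_relIndex h
  obtain ⟨a, ha⟩ := IsPGroup.iff_card.1 hS.isPGroup
  obtain ⟨b, -, hb⟩ := (Nat.dvd_prime_pow Nat.prime_two).1 (ha ▸ Dvd.intro_left _ h3)
  refine h2 (Dvd.dvd.trans ?_ (card_subgroup_dvd_card S))
  rw [← h3, hb, mul_comm]
  refine Nat.mul_dvd_mul_left _ (dvd_pow_self 2 ?_)
  rintro rfl
  exact k (le_antisymm h (relIndex_eq_one.1 hb))

theorem q24 (hO : pPrimeCore 2 G = ⊥) (h16 : ¬ 16 ∣ Nat.card G) (h9 : ¬ 9 ∣ Nat.card G)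
    (h8 : 8 ∣ Nat.card G) (hs : ¬ Group.IsSolvable G) :
    ∃ X : Subgroup G, Group.IsSolvable X ∧ 24 ∣ Nat.card X := by
  obtain ⟨S⟩ : Nonempty (Sylow 2 G) := inferInstance
  have hS := H10.isSylowIn_top S
  have c8 : 8 ∣ Nat.card S := by
    rw [S.card_eq_multiplicity]
    exact pow_dvd_pow 2 ((Nat.prime_two.pow_dvd_iff_le_factorization Nat.card_pos.ne').1
      (show 2 ^ 3 ∣ _ from h8))
  obtain ⟨U, hU, h⟩ := frob S h16 hs
  have pU := S.isPGroup'.to_le hU
  refine ⟨N[U], solv_norm pU fun k => h16 (Dvd.dvd.trans ?_ k), ?_⟩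
  · rcases h with ⟨e, -⟩ | ⟨e, -⟩ <;> simp [e]
  have k24 : 8 ∣ Nat.card N[U] → 3 ∣ Nat.card N[U] → 24 ∣ Nat.card N[U] := fun a b =>
    Nat.Coprime.mul_dvd_of_dvd_of_dvd (m := 8) (n := 3) (by decide) a b
  rcases h with ⟨e, k, -⟩ | ⟨e, k | k⟩
  · have k1 := H10.card_lt_of_lt (H10.lt_inf_NN S.isPGroup' (lt_of_le_of_ne hU fun j => by
      rw [← j, e] at c8; omega))
    refine k24 (Dvd.dvd.trans ?_ (card_dvd_of_le (inf_le_right (a := (S : Subgroup G))))) k
    rcases two_cases (S.isPGroup'.to_inf_left (K := N[U])) h16 with j | j | j | j <;> omega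
  · exact k24 (e ▸ card_dvd_of_le U.le_normalizer) k
  obtain rfl := syl_eq hS hU (by rwa [e])
  obtain ⟨M, _, h1, h2, h3⟩ := simp hO hS k h16 hs
  have d := card_subgroup_dvd_card M
  rcases walter' hS (k.comm pU) h1 h2 h3 with ⟨F, _, _, n, n3, hF, ⟨f⟩⟩ | j | j
  · rw [psl_even hF (by omega) f] at d
    obtain rfl | n4 := (show n = 3 ∨ 4 ≤ n by omega)
    · exact absurd (Dvd.dvd.trans (by decide) d) h9
    · exact absurd (((pow_dvd_pow 2 n4).mul_right _).trans d) h16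
  · exact absurd (c8.trans (card_dvd_of_le h1)) (l2d_not_eight j)
  · exact Dvd.dvd.trans (by decide) j

theorem q12 (h8 : ¬ 8 ∣ Nat.card G) (hs : ¬ Group.IsSolvable G) :
    ∃ S : Subgroup G, H10.IsSylowIn 2 S ⊤ ∧ Irr S ∧ Group.IsSolvable N[S] ∧
      12 ∣ Nat.card N[S] := by
  obtain ⟨S⟩ : Nonempty (Sylow 2 G) := inferInstance
  have hS := H10.isSylowIn_top S
  have h16 : ¬ 16 ∣ Nat.card G := fun k => h8 (Dvd.dvd.trans (by decide) k)
  obtain ⟨U, hU, ⟨e, k, j⟩ | ⟨e, -⟩⟩ := frob S h16 hs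
  · obtain rfl := syl_eq hS hU (by rwa [e])
    exact ⟨S, hS, j, solv_norm S.isPGroup' (by rwa [e]), Nat.Coprime.mul_dvd_of_dvd_of_dvd
      (m := 4) (n := 3) (by decide) (e ▸ card_dvd_of_le le_normalizer) k⟩
  · exact absurd (e ▸ card_subgroup_dvd_card U) h8

theorem q60 (hO : pPrimeCore 2 G = ⊥) (h8 : ¬ 8 ∣ Nat.card G) (hs : ¬ Group.IsSolvable G) :
    (∃ X : Subgroup G, Nat.card X = 60) ∨ ∃ X : Subgroup G, Group.IsSolvable X ∧
      12 ∣ Nat.card X ∧ (5 ∣ Nat.card G → 5 ∣ Nat.card X) := by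
  obtain ⟨S, hS, k, k1, k2⟩ := q12 h8 hs
  obtain ⟨M, _, h1, h2, h3⟩ := simp hO hS k (fun k => h8 (Dvd.dvd.trans (by decide) k)) hs
  have d := card_subgroup_dvd_card M
  rcases walter' hS (k.comm hS.isPGroup) h1 h2 h3 with
    ⟨F, _, _, n, n3, hF, ⟨f⟩⟩ | ⟨F, _, _, hF, -, ⟨f⟩⟩ | j
  · rw [psl_even hF (by omega) f] at d
    exact absurd (((pow_dvd_pow 2 n3).mul_right _).trans d) h8
  · by_cases h5 : 5 ∣ Nat.card M
    · obtain ⟨A, ⟨a⟩⟩ := (Agent.S0804.result (F := F) rfl).2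
        (psl_odd (Nat.odd_iff.2 (by omega)) f ▸ h5.mul_left 2)
      refine Or.inl ⟨(A.map f.symm.toMonoidHom).map M.subtype, ?_⟩
      rw [card_map_of_injective M.subtype_injective, card_map_of_injective f.symm.injective,
        Nat.card_congr a.toEquiv]
      have := two_mul_nat_card_alternatingGroup (α := Fin 5)
      rw [Nat.card_eq_fintype_card (α := Equiv.Perm _), Fintype.card_perm, Fintype.card_fin] at this
      simp only [Nat.factorial] at this
      omega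
    refine Or.inr ⟨N[S], k1, k2, fun j => ?_⟩
    have j1 := (hS.of_le h1 le_top).frattini_sup le_top (by rw [M.normalizer_eq_top])
    have j2 := H10.card_sup_mul_card_inf (L := N[S]) (N := M) (by
      rw [M.normalizer_eq_top]; exact le_top)
    rw [top_inf_eq, sup_comm] at j1
    rw [j1, card_top] at j2
    exact ((Nat.prime_five.dvd_mul.1 (j2 ▸ j.mul_right _)).resolve_right h5)
  · exact absurd ((Dvd.dvd.trans (by decide) j).trans (card_subgroup_dvd_card _)) h8

theorem not_dvd {a b : ℕ} (h : m ∣ Nat.card G) (hc : m.Coprime (Nat.card G / m))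
    (h1 : a ∣ m) (h2 : (m / a).Coprime b) (h3 : ¬ b.Coprime m) (h0 : 0 < a) :
    ¬ a * b ∣ Nat.card G := fun k => by
  obtain ⟨n, hn⟩ := h
  obtain ⟨c, rfl⟩ := h1
  have c0 : 0 < c := Nat.pos_of_ne_zero (by rintro rfl; exact Nat.card_pos.ne' (by simpa using hn))
  rw [hn, Nat.mul_div_cancel_left _ (by positivity)] at hc
  rw [Nat.mul_div_cancel_left _ h0] at h2
  rw [hn, mul_assoc] at k
  exact h3 (hc.symm.coprime_dvd_left
    (h2.symm.dvd_of_dvd_mul_left (Nat.dvd_of_mul_dvd_mul_left h0 k)))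

theorem lift (X : Subgroup (G ⧸ pPrimeCore 2 G)) (hs : Group.IsSolvable X)
    (h : m ∣ Nat.card X * Nat.card (pPrimeCore 2 G)) (hc : m.Coprime (Nat.card G / m)) :
    ∃ H : Subgroup G, Nat.card H = m :=
  hall_of_solv (X.comap (QuotientGroup.mk' _)) (H1.isSolvable_comap hs _ (by
    rw [QuotientGroup.ker_mk']; exact H6.isSolvable_pPrimeCore_two)) (H1.card_comap_mk' _ X ▸ h) hc

theorem hall (hm : IsPrimePow m ∨ m % 4 = 2 ∨ m = 12 ∨ m = 24 ∨ m = 60) (h : m ∣ Nat.card G)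
    (hc : m.Coprime (Nat.card G / m)) : ∃ H : Subgroup G, Nat.card H = m := by
  by_cases hs : Group.IsSolvable G
  · exact hall_of_solv ⊤ inferInstance (by rwa [card_top]) hc
  have hO := H1.pPrimeCore_quotient_pPrimeCore (G := G) 2
  have e := card_eq_card_quotient_mul_card_subgroup (pPrimeCore 2 G)
  have d : Nat.card (G ⧸ pPrimeCore 2 G) ∣ Nat.card G := Dvd.intro _ e.symm
  have hs' : ¬ Group.IsSolvable (G ⧸ pPrimeCore 2 G) := fun k =>
    hs (solv_ext _ H6.isSolvable_pPrimeCore_two k)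
  have c2 := H1.coprime_card_pPrimeCore (G := G) 2
  rcases hm with hm | hm | rfl | rfl | rfl
  · obtain ⟨p, k, hp, -, rfl⟩ := (isPrimePow_nat_iff m).1 hm
    haveI := Fact.mk hp
    exact Sylow.exists_subgroup_card_pow_prime p h
  · refine absurd (solv_of_not_four (not_dvd (a := 2) (b := 2) h hc (by omega)
      (Nat.coprime_two_right.2 (Nat.odd_iff.2 (by omega))) ?_ two_pos)) hs
    rw [Nat.coprime_two_left, Nat.odd_iff]; omega
  · obtain ⟨S, -, -, k1, k2⟩ :=
      q12 (not_dvd (a := 4) (b := 2) h hc (by decide) (by decide) (by decide) (by decide)) hs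
    exact hall_of_solv _ k1 k2 hc
  · obtain ⟨X, k1, k2⟩ := q24 hO (fun k => not_dvd (a := 8) (b := 2) h hc (by decide) (by decide)
      (by decide) (by decide) (k.trans d)) (fun k => not_dvd (a := 3) (b := 3) h hc (by decide)
      (by decide) (by decide) (by decide) (k.trans d)) ((c2.symm.pow_left 3).dvd_of_dvd_mul_right
      (e ▸ Dvd.dvd.trans (by decide) h)) hs'
    exact lift X k1 (k2.mul_right _) hc
  rcases q60 hO (fun k => not_dvd (a := 4) (b := 2) h hc (by decide) (by decide)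
      (by decide) (by decide) (k.trans d)) hs' with ⟨X, k⟩ | ⟨X, k1, k2, k3⟩
  · let Y := X.comap (QuotientGroup.mk' (pPrimeCore 2 G))
    have hY : Nat.card Y = 60 * Nat.card (pPrimeCore 2 G) := k ▸ H1.card_comap_mk' _ X
    have h1 : pPrimeCore 2 G ≤ Y := fun x hx => by
      rw [mem_comap, QuotientGroup.mk'_apply, (QuotientGroup.eq_one_iff x).2 hx]; exact one_mem _
    have h2 : Nat.card ((pPrimeCore 2 G).subgroupOf Y) = Nat.card (pPrimeCore 2 G) :=
      Nat.card_congr (subgroupOfEquivOfLe h1).toEquiv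
    have h3 : ((pPrimeCore 2 G).subgroupOf Y).index = 60 := Nat.eq_of_mul_eq_mul_left Nat.card_pos
      (by rw [card_mul_index, hY, h2, mul_comm])
    obtain ⟨K, hK⟩ := exists_right_complement'_of_coprime (N := (pPrimeCore 2 G).subgroupOf Y) (by
      obtain ⟨c, hc'⟩ := card_subgroup_dvd_card Y
      rw [hc', hY, mul_assoc, Nat.mul_div_cancel_left _ (by decide)] at hc
      rw [h2, h3]
      exact hc.coprime_mul_right_right.symm)
    exact ⟨K.map Y.subtype, by rw [card_map_of_injective Y.subtype_injective, ← h3,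
      hK.symm.index_eq_card]⟩
  refine lift X k1 (Nat.Coprime.mul_dvd_of_dvd_of_dvd (m := 12) (n := 5) (by decide)
    (k2.mul_right _) ?_) hc
  rcases Nat.prime_five.dvd_mul.1 (e ▸ Dvd.dvd.trans (by decide) h) with j | j
  exacts [(k3 j).mul_right _, j.mul_left _]

end H15.Hn
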