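import Cfsg.Agent.H15.Mv1
/-! %s -/
set_option autoImplicit false
set_option maxRecDepth 100000
namespace H15.Mw
open H27 H28 H2
noncomputable section
universe u
variable {G : Type*} [Group G]
theorem _root_.H2.MK.cl_le' {xs : List G} {κ : List ℕ → ℕ} {E1 E2 : List (List ℕ)} (M : MK xs κ E1 E2) {k : ℕ}
    (hk : xs.length = k) (f B : List (List ℕ)) (h : allN k (fun i => eqChk κ k (expand f (nth [] B i)) [i]) = true) :
    cl xs ≤ cl (f.map (ev xs)) := cl_le fun g hg => by
  obtain ⟨i, hi, rfl⟩ := List.getElem_of_mem hg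
  have := M.eq' hk _ _ ((allN_iff _ _).1 h i (hk ▸ hi))
  rw [H28.ev_single, List.getD_eq_getElem _ _ hi, ← ev_expand] at this
  exact this ▸ ev_mem_cl _ _
theorem la_of {p q e f t z x : G} (r0 : p * p = 1) (r1 : q * q = 1) (r2 : e * e = 1) (r3 : f * f = 1) (r4 : t * t = 1) (r5 : z * z = 1) (r7 : p * z * p * z = 1) (r8 : q * z * q * z = 1) (r9 : e * z * e * z = 1) (r10 : f * z * f * z = 1) (r11 : t * z * t * z = 1) (r12 : x * z * x⁻¹ * z = 1) (r13 : x * x * x = 1) (r14 : x * p * x⁻¹ * e = 1) (r15 : x * e * x⁻¹ * e * p = 1) (r16 : x * q * x⁻¹ * f = 1) (r17 : x * f * x⁻¹ * f * q = 1) (r18 : t * x * t * x = 1) (r19 : t * p * t * p = 1) (r20 : t * q * t * q = 1) (r21 : p * q * p * q = 1) (r22 : p * e * p * e = 1) (r23 : q * f * q * f = 1) (r24 : p * f * p * f * z = 1) (r25 : q * e * q * e * z = 1) :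
    Rels [p, q, e, f, t, z, x, x⁻¹] la_R := by
  simp only [Rels, la_R, List.forall_mem_cons, List.not_mem_nil, IsEmpty.forall_iff, implies_true, and_true, ev_cons, ev_nil, List.cons_append, List.nil_append, List.getD_cons_succ, List.getD_cons_zero, mul_one]
  exact ⟨by simpa only [mul_assoc] using r0, by simpa only [mul_assoc] using r1, by simpa only [mul_assoc] using r2, by simpa only [mul_assoc] using r3, by simpa only [mul_assoc] using r4, by simpa only [mul_assoc] using r5, by simp, by simpa only [mul_assoc] using r7, by simpa only [mul_assoc] using r8, by simpa only [mul_assoc] using r9, by simpa only [mul_assoc] using r10, by simpa only [mul_assoc] using r11, by simpa only [mul_assoc] using r12, by simpa only [mul_assoc] using r13, by simpa only [mul_assoc] using r14, by simpa only [mul_assoc] using r15, by simpa only [mul_assoc] using r16, by simpa only [mul_assoc] using r17, by simpa only [mul_assoc] using r18, by simpa only [mul_assoc] using r19, by simpa only [mul_assoc] using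 r20, by simpa only [mul_assoc] using r21, by simpa only [mul_assoc] using r22, by simpa only [mul_assoc] using r23, by simpa only [mul_assoc] using r24, by simpa only [mul_assoc] using r25⟩
theorem li_of {p q e f t z x : G} (r0 : p * p = 1) (r2 : e * e = 1) (r4 : t * t = 1) (r5 : z * z = 1) (r7 : p * z * p * z = 1) (r8 : q * z * q⁻¹ * z = 1) (r9 : e * z * e * z = 1) (r10 : f * z * f⁻¹ * z = 1) (r11 : t * z * t * z = 1) (r12 : x * z * x⁻¹ * z = 1) (r13 : x * x * x = 1) (r14 : x * p * x⁻¹ * e = 1) (r15 : x * e * x⁻¹ * e * p = 1) (r16 : x * q * x⁻¹ * f⁻¹ = 1) (r17 : x * f * x⁻¹ * q * f = 1) (r18 : t * x * t * x = 1) (r19 : t * p * t * p = 1) (r20 : t * q * t * q = 1) (r21 : p * q * p * q⁻¹ = 1) (r22 : p * e * p * e = 1) (r23 : q * q * z = 1) (r24 : p * f * p * f⁻¹ * z = 1) :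
    Rels [p, q, q⁻¹, e, f, f⁻¹, t, z, x, x⁻¹] li_R := by
  simp only [Rels, li_R, List.forall_mem_cons, List.not_mem_nil, IsEmpty.forall_iff, implies_true, and_true, ev_cons, ev_nil, List.cons_append, List.nil_append, List.getD_cons_succ, List.getD_cons_zero, mul_one]
  exact ⟨by simpa only [mul_assoc] using r0, by simp, by simpa only [mul_assoc] using r2, by simp, by simpa only [mul_assoc] using r4, by simpa only [mul_assoc] using r5, by simp, by simpa only [mul_assoc] using r7, by simpa only [mul_assoc] using r8, by simpa only [mul_assoc] using r9, by simpa only [mul_assoc] using r10, by simpa only [mul_assoc] using r11, by simpa only [mul_assoc] using r12, by simpa only [mul_assoc] using r13, by simpa only [mul_assoc] using r14, by simpa only [mul_assoc] using r15, by simpa only [mul_assoc] using r16, by simpa only [mul_assoc] using r17, by simpa only [mul_assoc] using r18, by simpa only [mul_assoc] using r19, by simpa only [mul_assoc] using r20, by simpa only [mul_assoc] using r21,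 by simpa only [mul_assoc] using r22, by simpa only [mul_assoc] using r23, by simpa only [mul_assoc] using r24⟩
theorem la_get {p q e f t z x : G} (h : Rels [p, q, e, f, t, z, x, x⁻¹] la_R) :
    p * p = 1 ∧ q * q = 1 ∧ e * e = 1 ∧ f * f = 1 ∧ t * t = 1 ∧ z * z = 1 ∧ p * z * p * z = 1 ∧ q * z * q * z = 1 ∧ e * z * e * z = 1 ∧ f * z * f * z = 1 ∧ t * z * t * z = 1 ∧ x * z * x⁻¹ * z = 1 ∧ x * x * x = 1 ∧ x * p * x⁻¹ * e = 1 ∧ x * e * x⁻¹ * e * p = 1 ∧ x * q * x⁻¹ * f = 1 ∧ x * f * x⁻¹ * f * q = 1 ∧ t * x * t * x = 1 ∧ t * p * t * p = 1 ∧ t * q * t * q = 1 ∧ p * q * p * q = 1 ∧ p * e * p * e = 1 ∧ q * f * q * f = 1 ∧ p * f * p * f * z = 1 ∧ q * e * q * e * z = 1 := by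
  simp only [Rels, la_R, List.forall_mem_cons, List.not_mem_nil, IsEmpty.forall_iff, implies_true, and_true, ev_cons, ev_nil, List.cons_append, List.nil_append, List.getD_cons_succ, List.getD_cons_zero, mul_one] at h
  obtain ⟨r0, r1, r2, r3, r4, r5, -, r7, r8, r9, r10, r11, r12, r13, r14, r15, r16, r17, r18, r19, r20, r21, r22, r23, r24, r25⟩ := h
  exact ⟨by simpa only [mul_assoc] using r0, by simpa only [mul_assoc] using r1, by simpa only [mul_assoc] using r2, by simpa only [mul_assoc] using r3, by simpa only [mul_assoc] using r4, by simpa only [mul_assoc] using r5, by simpa only [mul_assoc] using r7, by simpa only [mul_assoc] using r8, by simpa only [mul_assoc] using r9, by simpa only [mul_assoc] using r10, by simpa only [mul_assoc] using r11, by simpa only [mul_assoc] using r12, by simpa only [mul_assoc] using r13, by simpa only [mul_assoc] using r14, by simpa only [mul_assoc] using r15, by simpa only [mul_assoc] using r16, by simpa only [mul_assoc] using r17, by simpa only [mul_assoc]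 using r18, by simpa only [mul_assoc] using r19, by simpa only [mul_assoc] using r20, by simpa only [mul_assoc] using r21, by simpa only [mul_assoc] using r22, by simpa only [mul_assoc] using r23, by simpa only [mul_assoc] using r24, by simpa only [mul_assoc] using r25⟩
theorem a8_of {p q e f t z x y w : G} (r0 : p * p = 1) (r1 : q * q = 1) (r2 : e * e = 1) (r3 : f * f = 1) (r4 : t * t = 1) (r5 : z * z = 1) (r9 : p * z * p * z = 1) (r10 : q * z * q * z = 1) (r11 : e * z * e * z = 1) (r12 : f * z * f * z = 1) (r13 : t * z * t * z = 1) (r14 : x * z * x⁻¹ * z = 1) (r15 : x * x * x = 1) (r16 : x * p * x⁻¹ * e = 1) (r17 : x * e * x⁻¹ * e * p = 1) (r18 : x * q * x⁻¹ * f = 1) (r19 : x * f * x⁻¹ * f * q = 1) (r20 : t * x * t * x = 1) (r21 : t * p * t * p = 1) (r22 : t * q * t * q = 1) (r23 : p * q * p * q = 1) (r24 : p * e * p * e = 1) (r25 : q * f * q * f = 1) (r26 : p * f * p * f * z = 1) (r27 : q * e * q * e * z = 1) (r28 : y * y * y = 1) (r29 : y * z * y⁻¹ * p = 1) (r30 : y * p * y⁻¹ * z * p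 = 1) (r31 : y * e * y⁻¹ * e = 1) (r32 : f * y * f * y = 1) (r33 : y * q * y⁻¹ * t = 1) (r34 : w * w * w = 1) (r35 : w * z * w⁻¹ * q = 1) (r36 : w * q * w⁻¹ * z * q = 1) (r37 : w * f * w⁻¹ * f = 1) (r38 : e * w * e * w = 1) (r39 : w * p * w⁻¹ * t = 1) (r40 : y * w * y⁻¹ * w⁻¹ = 1) (r41 : x * t * y * f * x * t * y * f * x * t * y * f = 1) (r42 : x * t * w * e * x * t * w * e * x * t * w * e = 1) :
    Rels [p, q, e, f, t, z, x, x⁻¹, y, y⁻¹, w, w⁻¹] a8_R := by
  simp only [Rels, a8_R, List.forall_mem_cons, List.not_mem_nil, IsEmpty.forall_iff, implies_true, and_true, ev_cons, ev_nil, List.cons_append, List.nil_append, List.getD_cons_succ, List.getD_cons_zero, mul_one]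
  exact ⟨by simpa only [mul_assoc] using r0, by simpa only [mul_assoc] using r1, by simpa only [mul_assoc] using r2, by simpa only [mul_assoc] using r3, by simpa only [mul_assoc] using r4, by simpa only [mul_assoc] using r5, by simp, by simp, by simp, by simpa only [mul_assoc] using r9, by simpa only [mul_assoc] using r10, by simpa only [mul_assoc] using r11, by simpa only [mul_assoc] using r12, by simpa only [mul_assoc] using r13, by simpa only [mul_assoc] using r14, by simpa only [mul_assoc] using r15, by simpa only [mul_assoc] using r16, by simpa only [mul_assoc] using r17, by simpa only [mul_assoc] using r18, by simpa only [mul_assoc] using r19, by simpa only [mul_assoc] using r20, by simpa only [mul_assoc] using r21, by simpa only [mul_assoc] using r22, by simpa only [mul_assoc] using r23, by simpa only [mul_assoc] using r24, by simpa only [mul_assoc] using r25, by simpa only [mul_assoc] using r26, by simpa only [mul_assoc] using r27, by simpa only [mul_assoc] using r28, by simpa only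 [mul_assoc] using r29, by simpa only [mul_assoc] using r30, by simpa only [mul_assoc] using r31, by simpa only [mul_assoc] using r32, by simpa only [mul_assoc] using r33, by simpa only [mul_assoc] using r34, by simpa only [mul_assoc] using r35, by simpa only [mul_assoc] using r36, by simpa only [mul_assoc] using r37, by simpa only [mul_assoc] using r38, by simpa only [mul_assoc] using r39, by simpa only [mul_assoc] using r40, by simpa only [mul_assoc] using r41, by simpa only [mul_assoc] using r42⟩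
theorem a8_get {p q e f t z x y w : G} (h : Rels [p, q, e, f, t, z, x, x⁻¹, y, y⁻¹, w, w⁻¹] a8_R) :
    p * p = 1 ∧ q * q = 1 ∧ e * e = 1 ∧ f * f = 1 ∧ t * t = 1 ∧ z * z = 1 ∧ p * z * p * z = 1 ∧ q * z * q * z = 1 ∧ e * z * e * z = 1 ∧ f * z * f * z = 1 ∧ t * z * t * z = 1 ∧ x * z * x⁻¹ * z = 1 ∧ x * x * x = 1 ∧ x * p * x⁻¹ * e = 1 ∧ x * e * x⁻¹ * e * p = 1 ∧ x * q * x⁻¹ * f = 1 ∧ x * f * x⁻¹ * f * q = 1 ∧ t * x * t * x = 1 ∧ t * p * t * p = 1 ∧ t * q * t * q = 1 ∧ p * q * p * q = 1 ∧ p * e * p * e = 1 ∧ q * f * q * f = 1 ∧ p * f * p * f * z = 1 ∧ q * e * q * e * z = 1 ∧ y * y * y = 1 ∧ y * z * y⁻¹ * p = 1 ∧ y * p * y⁻¹ * z * p = 1 ∧ y * e * y⁻¹ * e = 1 ∧ f * y * f * y = 1 ∧ y * q * y⁻¹ * t = 1 ∧ w * w * w = 1 ∧ w * z * w⁻¹ * q = 1 ∧ w * q * w⁻¹ * z * q = 1 ∧ w * f * w⁻¹ * f = 1 ∧ e * w * e * w = 1 ∧ w * p * w⁻¹ * t = 1 ∧ y * w * y⁻¹ * w⁻¹ = 1 ∧ x * t * y * f * x * t * y * f * x * t * y * f = 1 ∧ x * t * w * e * x * t * w * e * x * t * w * e = 1 := by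
  simp only [Rels, a8_R, List.forall_mem_cons, List.not_mem_nil, IsEmpty.forall_iff, implies_true, and_true, ev_cons, ev_nil, List.cons_append, List.nil_append, List.getD_cons_succ, List.getD_cons_zero, mul_one] at h
  obtain ⟨r0, r1, r2, r3, r4, r5, -, -, -, r9, r10, r11, r12, r13, r14, r15, r16, r17, r18, r19, r20, r21, r22, r23, r24, r25, r26, r27, r28, r29, r30, r31, r32, r33, r34, r35, r36, r37, r38, r39, r40, r41, r42⟩ := h
  exact ⟨by simpa only [mul_assoc] using r0, by simpa only [mul_assoc] using r1, by simpa only [mul_assoc] using r2, by simpa only [mul_assoc] using r3, by simpa only [mul_assoc] using r4, by simpa only [mul_assoc] using r5, by simpa only [mul_assoc] using r9, by simpa only [mul_assoc] using r10, by simpa only [mul_assoc] using r11, by simpa only [mul_assoc] using r12, by simpa only [mul_assoc] using r13, by simpa only [mul_assoc] using r14, by simpa only [mul_assoc] using r15, by simpa only [mul_assoc] using r16, by simpa only [mul_assoc] using r17, by simpa only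 [mul_assoc] using r18, by simpa only [mul_assoc] using r19, by simpa only [mul_assoc] using r20, by simpa only [mul_assoc] using r21, by simpa only [mul_assoc] using r22, by simpa only [mul_assoc] using r23, by simpa only [mul_assoc] using r24, by simpa only [mul_assoc] using r25, by simpa only [mul_assoc] using r26, by simpa only [mul_assoc] using r27, by simpa only [mul_assoc] using r28, by simpa only [mul_assoc] using r29, by simpa only [mul_assoc] using r30, by simpa only [mul_assoc] using r31, by simpa only [mul_assoc] using r32, by simpa only [mul_assoc] using r33, by simpa only [mul_assoc] using r34, by simpa only [mul_assoc] using r35, by simpa only [mul_assoc] using r36, by simpa only [mul_assoc] using r37, by simpa only [mul_assoc] using r38, by simpa only [mul_assoc] using r39, by simpa only [mul_assoc] using r40, by simpa only [mul_assoc] using r41, by simpa only [mul_assoc] using r42⟩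
theorem a9_of {p q e f t z x y w k : G} (r0 : p * p = 1) (r1 : q * q = 1) (r2 : e * e = 1) (r3 : f * f = 1) (r4 : t * t = 1) (r5 : z * z = 1) (r9 : k * k = 1) (r10 : p * z * p * z = 1) (r11 : q * z * q * z = 1) (r12 : e * z * e * z = 1) (r13 : f * z * f * z = 1) (r14 : t * z * t * z = 1) (r15 : x * z * x⁻¹ * z = 1) (r16 : x * x * x = 1) (r17 : x * p * x⁻¹ * e = 1) (r18 : x * e * x⁻¹ * e * p = 1) (r19 : x * q * x⁻¹ * f = 1) (r20 : x * f * x⁻¹ * f * q = 1) (r21 : t * x * t * x = 1) (r22 : t * p * t * p = 1) (r23 : t * q * t * q = 1) (r24 : p * q * p * q = 1) (r25 : p * e * p * e = 1) (r26 : q * f * q * f = 1) (r27 : p * f * p * f * z = 1) (r28 : q * e * q * e * z = 1) (r29 : y * y * y = 1) (r30 : y * z * y⁻¹ * p = 1) (r31 : y * p * y⁻¹ * z * p = 1) (r32 : y * e * y⁻¹ * e = 1) (r33 : f * y * f * y = 1) (r34 : y * q * y⁻¹ * t = 1) (r35 : w * w * w = 1) (r36 : w * z * w⁻¹ * q = 1) (r37 : w * q * w⁻¹ * z * q = 1) (r38 : w * f * w⁻¹ * f = 1) (r39 : e * w * e * w = 1) (r40 : w * p * w⁻¹ * t = 1)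 (r41 : y * w * y⁻¹ * w⁻¹ = 1) (r42 : x * t * y * f * x * t * y * f * x * t * y * f = 1) (r43 : x * t * w * e * x * t * w * e * x * t * w * e = 1) (r44 : k * p * q * z * k * p * q * z = 1) (r45 : k * e * f * k * e * f = 1) (r46 : y * w⁻¹ * k * y * w⁻¹ * k = 1) (r47 : p * q * k * p * q * k * p * q * k = 1) (r48 : e * x⁻¹ * k * x * e * e * f * k = 1) :
    Rels [p, q, e, f, t, z, x, x⁻¹, y, y⁻¹, w, w⁻¹, k] a9_R := by
  simp only [Rels, a9_R, List.forall_mem_cons, List.not_mem_nil, IsEmpty.forall_iff, implies_true, and_true, ev_cons, ev_nil, List.cons_append, List.nil_append, List.getD_cons_succ, List.getD_cons_zero, mul_one]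
  exact ⟨by simpa only [mul_assoc] using r0, by simpa only [mul_assoc] using r1, by simpa only [mul_assoc] using r2, by simpa only [mul_assoc] using r3, by simpa only [mul_assoc] using r4, by simpa only [mul_assoc] using r5, by simp, by simp, by simp, by simpa only [mul_assoc] using r9, by simpa only [mul_assoc] using r10, by simpa only [mul_assoc] using r11, by simpa only [mul_assoc] using r12, by simpa only [mul_assoc] using r13, by simpa only [mul_assoc] using r14, by simpa only [mul_assoc] using r15, by simpa only [mul_assoc] using r16, by simpa only [mul_assoc] using r17, by simpa only [mul_assoc] using r18, by simpa only [mul_assoc] using r19, by simpa only [mul_assoc] using r20, by simpa only [mul_assoc] using r21, by simpa only [mul_assoc] using r22, by simpa only [mul_assoc] using r23, by simpa only [mul_assoc] using r24, by simpa only [mul_assoc] using r25, by simpa only [mul_assoc] using r26, by simpa only [mul_assoc] using r27, by simpa only [mul_assoc] using r28, by simpa only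 [mul_assoc] using r29, by simpa only [mul_assoc] using r30, by simpa only [mul_assoc] using r31, by simpa only [mul_assoc] using r32, by simpa only [mul_assoc] using r33, by simpa only [mul_assoc] using r34, by simpa only [mul_assoc] using r35, by simpa only [mul_assoc] using r36, by simpa only [mul_assoc] using r37, by simpa only [mul_assoc] using r38, by simpa only [mul_assoc] using r39, by simpa only [mul_assoc] using r40, by simpa only [mul_assoc] using r41, by simpa only [mul_assoc] using r42, by simpa only [mul_assoc] using r43, by simpa only [mul_assoc] using r44, by simpa only [mul_assoc] using r45, by simpa only [mul_assoc] using r46, by simpa only [mul_assoc] using r47, by simpa only [mul_assoc] using r48⟩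
theorem a8_ext {p q e f t z x y w : G} (hb : Rels [p, q, e, f, t, z, x, x⁻¹] la_R) (r28 : y * y * y = 1) (r29 : y * z * y⁻¹ * p = 1) (r30 : y * p * y⁻¹ * z * p = 1) (r31 : y * e * y⁻¹ * e = 1) (r32 : f * y * f * y = 1) (r33 : y * q * y⁻¹ * t = 1) (r34 : w * w * w = 1) (r35 : w * z * w⁻¹ * q = 1) (r36 : w * q * w⁻¹ * z * q = 1) (r37 : w * f * w⁻¹ * f = 1) (r38 : e * w * e * w = 1) (r39 : w * p * w⁻¹ * t = 1) (r40 : y * w * y⁻¹ * w⁻¹ = 1) (r41 : x * t * y * f * x * t * y * f * x * t * y * f = 1) (r42 : x * t * w * e * x * t * w * e * x * t * w * e = 1) :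
    Rels [p, q, e, f, t, z, x, x⁻¹, y, y⁻¹, w, w⁻¹] a8_R := by
  obtain ⟨b0, b1, b2, b3, b4, b5, b6, b7, b8, b9, b10, b11, b12, b13, b14, b15, b16, b17, b18, b19, b20, b21, b22, b23, b24⟩ := la_get hb
  exact a8_of b0 b1 b2 b3 b4 b5 b6 b7 b8 b9 b10 b11 b12 b13 b14 b15 b16 b17 b18 b19 b20 b21 b22 b23 b24 r28 r29 r30 r31 r32 r33 r34 r35 r36 r37 r38 r39 r40 r41 r42
theorem a9_ext {p q e f t z x y w k : G} (hb : Rels [p, q, e, f, t, z, x, x⁻¹, y, y⁻¹, w, w⁻¹] a8_R) (r9 : k * k = 1) (r44 : k * p * q * z * k * p * q * z = 1) (r45 : k * e * f * k * e * f = 1) (r46 : y * w⁻¹ * k * y * w⁻¹ * k = 1) (r47 : p * q * k * p * q * k * p * q * k = 1) (r48 : e * x⁻¹ * k * x * e * e * f * k = 1) :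
    Rels [p, q, e, f, t, z, x, x⁻¹, y, y⁻¹, w, w⁻¹, k] a9_R := by
  obtain ⟨b0, b1, b2, b3, b4, b5, b6, b7, b8, b9, b10, b11, b12, b13, b14, b15, b16, b17, b18, b19, b20, b21, b22, b23, b24, b25, b26, b27, b28, b29, b30, b31, b32, b33, b34, b35, b36, b37, b38, b39⟩ := a8_get hb
  exact a9_of b0 b1 b2 b3 b4 b5 r9 b6 b7 b8 b9 b10 b11 b12 b13 b14 b15 b16 b17 b18 b19 b20 b21 b22 b23 b24 b25 b26 b27 b28 b29 b30 b31 b32 b33 b34 b35 b36 b37 b38 b39 r44 r45 r46 r47 r48
theorem lc_of {p q e f t z x y : G} (r0 : p * p = 1) (r1 : q * q = 1) (r2 : e * e = 1) (r3 : f * f = 1) (r4 : t * t = 1) (r5 : z * z = 1) (r8 : p * z * p * z = 1) (r9 : q * z * q * z = 1) (r10 : e * z * e * z = 1) (r11 : f * z * f * z = 1) (r12 : t * z * t * z = 1) (r13 : x * z * x⁻¹ * z = 1) (r14 : x * x * x = 1) (r15 : x * p * x⁻¹ * e = 1) (r16 : x * e * x⁻¹ * e * p = 1) (r17 : x * q * x⁻¹ * f = 1) (r18 : x * f * x⁻¹ * f * q = 1) (r19 : t * x * t * x = 1) (r20 : t * p * t * p = 1) (r21 : t * q * t * q = 1) (r22 : p * q * p * q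 = 1) (r23 : p * e * p * e = 1) (r24 : q * f * q * f = 1) (r25 : p * f * p * f * z = 1) (r26 : q * e * q * e * z = 1) (r27 : y * y * y = 1) (r28 : y * z * y⁻¹ * p = 1) (r29 : y * p * y⁻¹ * z * p = 1) (r30 : y * e * y⁻¹ * e = 1) (r31 : f * y * f * y = 1) (r32 : y * q * y⁻¹ * t = 1) (r33 : x * t * y * f * x * t * y * f * x * t * y * f * e * p * z = 1) :
    Rels [p, q, e, f, t, z, x, x⁻¹, y, y⁻¹] lc_R := by
  simp only [Rels, lc_R, List.forall_mem_cons, List.not_mem_nil, IsEmpty.forall_iff, implies_true, and_true, ev_cons, ev_nil, List.cons_append, List.nil_append, List.getD_cons_succ, List.getD_cons_zero, mul_one]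
  exact ⟨by simpa only [mul_assoc] using r0, by simpa only [mul_assoc] using r1, by simpa only [mul_assoc] using r2, by simpa only [mul_assoc] using r3, by simpa only [mul_assoc] using r4, by simpa only [mul_assoc] using r5, by simp, by simp, by simpa only [mul_assoc] using r8, by simpa only [mul_assoc] using r9, by simpa only [mul_assoc] using r10, by simpa only [mul_assoc] using r11, by simpa only [mul_assoc] using r12, by simpa only [mul_assoc] using r13, by simpa only [mul_assoc] using r14, by simpa only [mul_assoc] using r15, by simpa only [mul_assoc] using r16, by simpa only [mul_assoc] using r17, by simpa only [mul_assoc] using r18, by simpa only [mul_assoc] using r19, by simpa only [mul_assoc] using r20, by simpa only [mul_assoc] using r21, by simpa only [mul_assoc] using r22, by simpa only [mul_assoc] using r23, by simpa only [mul_assoc] using r24, by simpa only [mul_assoc] using r25, by simpa only [mul_assoc] using r26, by simpa only [mul_assoc] using r27, by simpa only [mul_assoc]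 using r28, by simpa only [mul_assoc] using r29, by simpa only [mul_assoc] using r30, by simpa only [mul_assoc] using r31, by simpa only [mul_assoc] using r32, by simpa only [mul_assoc] using r33⟩
theorem lc_ext {p q e f t z x y : G} (hb : Rels [p, q, e, f, t, z, x, x⁻¹] la_R) (r27 : y * y * y = 1) (r28 : y * z * y⁻¹ * p = 1) (r29 : y * p * y⁻¹ * z * p = 1) (r30 : y * e * y⁻¹ * e = 1) (r31 : f * y * f * y = 1) (r32 : y * q * y⁻¹ * t = 1) (r33 : x * t * y * f * x * t * y * f * x * t * y * f * e * p * z = 1) :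
    Rels [p, q, e, f, t, z, x, x⁻¹, y, y⁻¹] lc_R := by
  obtain ⟨b0, b1, b2, b3, b4, b5, b6, b7, b8, b9, b10, b11, b12, b13, b14, b15, b16, b17, b18, b19, b20, b21, b22, b23, b24⟩ := la_get hb
  exact lc_of b0 b1 b2 b3 b4 b5 b6 b7 b8 b9 b10 b11 b12 b13 b14 b15 b16 b17 b18 b19 b20 b21 b22 b23 b24 r27 r28 r29 r30 r31 r32 r33
theorem la_rl {p q e f t z x : G} (M : MK [p, q, e, f, t, z, x, x⁻¹] la_k la_E [[]]) : Rels [p, q, e, f, t, z, x, x⁻¹] la_R :=
  M.relsOf (k := 8) rfl _ (by decide +kernel)
theorem la_s12 {p q e f t z x : G} (M : MK [p, q, e, f, t, z, x, x⁻¹] la_k la_E [[]]) :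
    Rels [q, p, f, e, t, z, x, (x)⁻¹] la_R := by
  have := rels_expL.1 (M.relsOf (k := 8) rfl (expL [[1], [0], [3], [2], [4], [5], [6], [7]] la_R) (by decide +kernel))
  simpa only [List.map_cons, List.map_nil, ev_cons, ev_nil, List.cons_append, List.nil_append, List.getD_cons_succ, List.getD_cons_zero, mul_one, pow_succ, pow_zero, one_mul, mul_one, mul_assoc, mul_inv_rev, inv_inv] using this
theorem la_s12c {p q e f t z x : G} (M : MK [p, q, e, f, t, z, x, x⁻¹] la_k la_E [[]]) :
    cl [p, q, e, f, t, z, x, x⁻¹] ≤ cl [q, p, f, e, t, z, x, (x)⁻¹] := by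
  have := M.cl_le' (k := 8) rfl [[1], [0], [3], [2], [4], [5], [6], [7]] [[1], [0], [3], [2], [4], [5], [6], [7]] (by decide +kernel)
  simpa only [List.map_cons, List.map_nil, ev_cons, ev_nil, List.cons_append, List.nil_append, List.getD_cons_succ, List.getD_cons_zero, mul_one, pow_succ, pow_zero, one_mul, mul_one, mul_assoc, mul_inv_rev, inv_inv] using this
theorem la_s23 {p q e f t z x : G} (M : MK [p, q, e, f, t, z, x, x⁻¹] la_k la_E [[]]) :
    Rels [p, p * q * z, e, e * f * z, t, z, x, (x)⁻¹] la_R := by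
  have := rels_expL.1 (M.relsOf (k := 8) rfl (expL [[0], [0, 1, 5], [2], [2, 3, 5], [4], [5], [6], [7]] la_R) (by decide +kernel))
  simpa only [List.map_cons, List.map_nil, ev_cons, ev_nil, List.cons_append, List.nil_append, List.getD_cons_succ, List.getD_cons_zero, mul_one, pow_succ, pow_zero, one_mul, mul_one, mul_assoc, mul_inv_rev, inv_inv] using this
theorem la_s23c {p q e f t z x : G} (M : MK [p, q, e, f, t, z, x, x⁻¹] la_k la_E [[]]) :
    cl [p, q, e, f, t, z, x, x⁻¹] ≤ cl [p, p * q * z, e, e * f * z, t, z, x, (x)⁻¹] := by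
  have := M.cl_le' (k := 8) rfl [[0], [0, 1, 5], [2], [2, 3, 5], [4], [5], [6], [7]] [[0], [5, 1, 0], [2], [5, 3, 2], [4], [5], [6], [7]] (by decide +kernel)
  simpa only [List.map_cons, List.map_nil, ev_cons, ev_nil, List.cons_append, List.nil_append, List.getD_cons_succ, List.getD_cons_zero, mul_one, pow_succ, pow_zero, one_mul, mul_one, mul_assoc, mul_inv_rev, inv_inv] using this
theorem la_st {p q e f t z x : G} (M : MK [p, q, e, f, t, z, x, x⁻¹] la_k la_E [[]]) :
    Rels [p, q, e, f, t * z, z, x, (x)⁻¹] la_R := by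
  have := rels_expL.1 (M.relsOf (k := 8) rfl (expL [[0], [1], [2], [3], [4, 5], [5], [6], [7]] la_R) (by decide +kernel))
  simpa only [List.map_cons, List.map_nil, ev_cons, ev_nil, List.cons_append, List.nil_append, List.getD_cons_succ, List.getD_cons_zero, mul_one, pow_succ, pow_zero, one_mul, mul_one, mul_assoc, mul_inv_rev, inv_inv] using this
theorem la_stc {p q e f t z x : G} (M : MK [p, q, e, f, t, z, x, x⁻¹] la_k la_E [[]]) :
    cl [p, q, e, f, t, z, x, x⁻¹] ≤ cl [p, q, e, f, t * z, z, x, (x)⁻¹] := by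
  have := M.cl_le' (k := 8) rfl [[0], [1], [2], [3], [4, 5], [5], [6], [7]] [[0], [1], [2], [3], [5, 4], [5], [6], [7]] (by decide +kernel)
  simpa only [List.map_cons, List.map_nil, ev_cons, ev_nil, List.cons_append, List.nil_append, List.getD_cons_succ, List.getD_cons_zero, mul_one, pow_succ, pow_zero, one_mul, mul_one, mul_assoc, mul_inv_rev, inv_inv] using this
theorem la_s13 {p q e f t z x : G} (M : MK [p, q, e, f, t, z, x, x⁻¹] la_k la_E [[]]) :
    Rels [p * q * z, q, e * f * z, f, t, z, x, (x)⁻¹] la_R := by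
  have := rels_expL.1 (M.relsOf (k := 8) rfl (expL [[0, 1, 5], [1], [2, 3, 5], [3], [4], [5], [6], [7]] la_R) (by decide +kernel))
  simpa only [List.map_cons, List.map_nil, ev_cons, ev_nil, List.cons_append, List.nil_append, List.getD_cons_succ, List.getD_cons_zero, mul_one, pow_succ, pow_zero, one_mul, mul_one, mul_assoc, mul_inv_rev, inv_inv] using this
theorem la_s13c {p q e f t z x : G} (M : MK [p, q, e, f, t, z, x, x⁻¹] la_k la_E [[]]) :
    cl [p, q, e, f, t, z, x, x⁻¹] ≤ cl [p * q * z, q, e * f * z, f, t, z, x, (x)⁻¹] := by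
  have := M.cl_le' (k := 8) rfl [[0, 1, 5], [1], [2, 3, 5], [3], [4], [5], [6], [7]] [[5, 1, 0], [1], [5, 3, 2], [3], [4], [5], [6], [7]] (by decide +kernel)
  simpa only [List.map_cons, List.map_nil, ev_cons, ev_nil, List.cons_append, List.nil_append, List.getD_cons_succ, List.getD_cons_zero, mul_one, pow_succ, pow_zero, one_mul, mul_one, mul_assoc, mul_inv_rev, inv_inv] using this
theorem li_fh {p q e f t z x : G} (M : MK [p, q, q⁻¹, e, f, f⁻¹, t, z, x, x⁻¹] li_k li_E [[]]) :
    Rels [e * q⁻¹ * p, f * p, z * e * p, z * t * p, z, z * p, x, (x)⁻¹] mh_R := by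
  have := rels_expL.1 (M.relsOf (k := 10) rfl (expL [[3, 2, 0], [4, 0], [7, 3, 0], [7, 6, 0], [7], [7, 0], [8], [9]] mh_R) (by decide +kernel))
  simpa only [List.map_cons, List.map_nil, ev_cons, ev_nil, List.cons_append, List.nil_append, List.getD_cons_succ, List.getD_cons_zero, mul_one, pow_succ, pow_zero, one_mul, mul_one, mul_assoc, mul_inv_rev, inv_inv] using this
theorem li_fhc {p q e f t z x : G} (M : MK [p, q, q⁻¹, e, f, f⁻¹, t, z, x, x⁻¹] li_k li_E [[]]) :
    cl [p, q, q⁻¹, e, f, f⁻¹, t, z, x, x⁻¹] ≤ cl [e * q⁻¹ * p, f * p, z * e * p, z * t * p, z, z * p, x, (x)⁻¹] := by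
  have := M.cl_le' (k := 10) rfl [[3, 2, 0], [4, 0], [7, 3, 0], [7, 6, 0], [7], [7, 0], [8], [9]] [[5, 4], [2, 0], [0, 2], [5, 2], [5, 1], [1, 5], [5, 3], [4], [6], [7]] (by decide +kernel)
  simpa only [List.map_cons, List.map_nil, ev_cons, ev_nil, List.cons_append, List.nil_append, List.getD_cons_succ, List.getD_cons_zero, mul_one, pow_succ, pow_zero, one_mul, mul_one, mul_assoc, mul_inv_rev, inv_inv] using this
theorem la_pp {p q e f t z x : G} (M : MK [p, q, e, f, t, z, x, x⁻¹] la_k la_E [[]]) : p * p = 1 := by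
  simpa only [ev_cons, ev_nil, List.cons_append, List.nil_append, List.getD_cons_succ, List.getD_cons_zero, mul_one, pow_succ, pow_zero, one_mul, mul_one, mul_assoc, mul_inv_rev, inv_inv] using M.eq' (k := 8) rfl [0, 0] [] (by decide +kernel)
theorem la_qq {p q e f t z x : G} (M : MK [p, q, e, f, t, z, x, x⁻¹] la_k la_E [[]]) : q * q = 1 := by
  simpa only [ev_cons, ev_nil, List.cons_append, List.nil_append, List.getD_cons_succ, List.getD_cons_zero, mul_one, pow_succ, pow_zero, one_mul, mul_one, mul_assoc, mul_inv_rev, inv_inv] using M.eq' (k := 8) rfl [1, 1] [] (by decide +kernel)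
theorem la_ee {p q e f t z x : G} (M : MK [p, q, e, f, t, z, x, x⁻¹] la_k la_E [[]]) : e * e = 1 := by
  simpa only [ev_cons, ev_nil, List.cons_append, List.nil_append, List.getD_cons_succ, List.getD_cons_zero, mul_one, pow_succ, pow_zero, one_mul, mul_one, mul_assoc, mul_inv_rev, inv_inv] using M.eq' (k := 8) rfl [2, 2] [] (by decide +kernel)
theorem la_ff {p q e f t z x : G} (M : MK [p, q, e, f, t, z, x, x⁻¹] la_k la_E [[]]) : f * f = 1 := by
  simpa only [ev_cons, ev_nil, List.cons_append, List.nil_append, List.getD_cons_succ, List.getD_cons_zero, mul_one, pow_succ, pow_zero, one_mul, mul_one, mul_assoc, mul_inv_rev, inv_inv] using M.eq' (k := 8) rfl [3, 3] [] (by decide +kernel)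
theorem la_tt {p q e f t z x : G} (M : MK [p, q, e, f, t, z, x, x⁻¹] la_k la_E [[]]) : t * t = 1 := by
  simpa only [ev_cons, ev_nil, List.cons_append, List.nil_append, List.getD_cons_succ, List.getD_cons_zero, mul_one, pow_succ, pow_zero, one_mul, mul_one, mul_assoc, mul_inv_rev, inv_inv] using M.eq' (k := 8) rfl [4, 4] [] (by decide +kernel)
theorem la_zz {p q e f t z x : G} (M : MK [p, q, e, f, t, z, x, x⁻¹] la_k la_E [[]]) : z * z = 1 := by
  simpa only [ev_cons, ev_nil, List.cons_append, List.nil_append, List.getD_cons_succ, List.getD_cons_zero, mul_one, pow_succ, pow_zero, one_mul, mul_one, mul_assoc, mul_inv_rev, inv_inv] using M.eq' (k := 8) rfl [5, 5] [] (by decide +kernel)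
theorem la_pz {p q e f t z x : G} (M : MK [p, q, e, f, t, z, x, x⁻¹] la_k la_E [[]]) : p * z = z * p := by
  simpa only [ev_cons, ev_nil, List.cons_append, List.nil_append, List.getD_cons_succ, List.getD_cons_zero, mul_one, pow_succ, pow_zero, one_mul, mul_one, mul_assoc, mul_inv_rev, inv_inv] using M.eq' (k := 8) rfl [0, 5] [5, 0] (by decide +kernel)
theorem la_qz {p q e f t z x : G} (M : MK [p, q, e, f, t, z, x, x⁻¹] la_k la_E [[]]) : q * z = z * q := by
  simpa only [ev_cons, ev_nil, List.cons_append, List.nil_append, List.getD_cons_succ, List.getD_cons_zero, mul_one, pow_succ, pow_zero, one_mul, mul_one, mul_assoc, mul_inv_rev, inv_inv] using M.eq' (k := 8) rfl [1, 5] [5, 1] (by decide +kernel)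
theorem la_ez {p q e f t z x : G} (M : MK [p, q, e, f, t, z, x, x⁻¹] la_k la_E [[]]) : e * z = z * e := by
  simpa only [ev_cons, ev_nil, List.cons_append, List.nil_append, List.getD_cons_succ, List.getD_cons_zero, mul_one, pow_succ, pow_zero, one_mul, mul_one, mul_assoc, mul_inv_rev, inv_inv] using M.eq' (k := 8) rfl [2, 5] [5, 2] (by decide +kernel)
theorem la_fz {p q e f t z x : G} (M : MK [p, q, e, f, t, z, x, x⁻¹] la_k la_E [[]]) : f * z = z * f := by
  simpa only [ev_cons, ev_nil, List.cons_append, List.nil_append, List.getD_cons_succ, List.getD_cons_zero, mul_one, pow_succ, pow_zero, one_mul, mul_one, mul_assoc, mul_inv_rev, inv_inv] using M.eq' (k := 8) rfl [3, 5] [5, 3] (by decide +kernel)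
theorem la_tz {p q e f t z x : G} (M : MK [p, q, e, f, t, z, x, x⁻¹] la_k la_E [[]]) : t * z = z * t := by
  simpa only [ev_cons, ev_nil, List.cons_append, List.nil_append, List.getD_cons_succ, List.getD_cons_zero, mul_one, pow_succ, pow_zero, one_mul, mul_one, mul_assoc, mul_inv_rev, inv_inv] using M.eq' (k := 8) rfl [4, 5] [5, 4] (by decide +kernel)
theorem la_xz {p q e f t z x : G} (M : MK [p, q, e, f, t, z, x, x⁻¹] la_k la_E [[]]) : x * z = z * x := by
  simpa only [ev_cons, ev_nil, List.cons_append, List.nil_append, List.getD_cons_succ, List.getD_cons_zero, mul_one, pow_succ, pow_zero, one_mul, mul_one, mul_assoc, mul_inv_rev, inv_inv] using M.eq' (k := 8) rfl [6, 5] [5, 6] (by decide +kernel)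
theorem la_qp {p q e f t z x : G} (M : MK [p, q, e, f, t, z, x, x⁻¹] la_k la_E [[]]) : q * p = p * q := by
  simpa only [ev_cons, ev_nil, List.cons_append, List.nil_append, List.getD_cons_succ, List.getD_cons_zero, mul_one, pow_succ, pow_zero, one_mul, mul_one, mul_assoc, mul_inv_rev, inv_inv] using M.eq' (k := 8) rfl [1, 0] [0, 1] (by decide +kernel)
theorem la_ep {p q e f t z x : G} (M : MK [p, q, e, f, t, z, x, x⁻¹] la_k la_E [[]]) : e * p = p * e := by
  simpa only [ev_cons, ev_nil, List.cons_append, List.nil_append, List.getD_cons_succ, List.getD_cons_zero, mul_one, pow_succ, pow_zero, one_mul, mul_one, mul_assoc, mul_inv_rev, inv_inv] using M.eq' (k := 8) rfl [2, 0] [0, 2] (by decide +kernel)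
theorem la_tp {p q e f t z x : G} (M : MK [p, q, e, f, t, z, x, x⁻¹] la_k la_E [[]]) : t * p = p * t := by
  simpa only [ev_cons, ev_nil, List.cons_append, List.nil_append, List.getD_cons_succ, List.getD_cons_zero, mul_one, pow_succ, pow_zero, one_mul, mul_one, mul_assoc, mul_inv_rev, inv_inv] using M.eq' (k := 8) rfl [4, 0] [0, 4] (by decide +kernel)
theorem la_qf {p q e f t z x : G} (M : MK [p, q, e, f, t, z, x, x⁻¹] la_k la_E [[]]) : q * f = f * q := by
  simpa only [ev_cons, ev_nil, List.cons_append, List.nil_append, List.getD_cons_succ, List.getD_cons_zero, mul_one, pow_succ, pow_zero, one_mul, mul_one, mul_assoc, mul_inv_rev, inv_inv] using M.eq' (k := 8) rfl [1, 3] [3, 1] (by decide +kernel)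
theorem la_ef {p q e f t z x : G} (M : MK [p, q, e, f, t, z, x, x⁻¹] la_k la_E [[]]) : e * f = f * e := by
  simpa only [ev_cons, ev_nil, List.cons_append, List.nil_append, List.getD_cons_succ, List.getD_cons_zero, mul_one, pow_succ, pow_zero, one_mul, mul_one, mul_assoc, mul_inv_rev, inv_inv] using M.eq' (k := 8) rfl [2, 3] [3, 2] (by decide +kernel)
theorem la_tq {p q e f t z x : G} (M : MK [p, q, e, f, t, z, x, x⁻¹] la_k la_E [[]]) : t * q = q * t := by
  simpa only [ev_cons, ev_nil, List.cons_append, List.nil_append, List.getD_cons_succ, List.getD_cons_zero, mul_one, pow_succ, pow_zero, one_mul, mul_one, mul_assoc, mul_inv_rev, inv_inv] using M.eq' (k := 8) rfl [4, 1] [1, 4] (by decide +kernel)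
theorem la_fp {p q e f t z x : G} (M : MK [p, q, e, f, t, z, x, x⁻¹] la_k la_E [[]]) : f * p = p * z * f := by
  simpa only [ev_cons, ev_nil, List.cons_append, List.nil_append, List.getD_cons_succ, List.getD_cons_zero, mul_one, pow_succ, pow_zero, one_mul, mul_one, mul_assoc, mul_inv_rev, inv_inv] using M.eq' (k := 8) rfl [3, 0] [0, 5, 3] (by decide +kernel)
theorem la_fpf {p q e f t z x : G} (M : MK [p, q, e, f, t, z, x, x⁻¹] la_k la_E [[]]) : f * p * f = p * z := by
  simpa only [ev_cons, ev_nil, List.cons_append, List.nil_append, List.getD_cons_succ, List.getD_cons_zero, mul_one, pow_succ, pow_zero, one_mul, mul_one, mul_assoc, mul_inv_rev, inv_inv] using M.eq' (k := 8) rfl [3, 0, 3] [0, 5] (by decide +kernel)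
theorem la_qeq {p q e f t z x : G} (M : MK [p, q, e, f, t, z, x, x⁻¹] la_k la_E [[]]) : q * e * q = e * z := by
  simpa only [ev_cons, ev_nil, List.cons_append, List.nil_append, List.getD_cons_succ, List.getD_cons_zero, mul_one, pow_succ, pow_zero, one_mul, mul_one, mul_assoc, mul_inv_rev, inv_inv] using M.eq' (k := 8) rfl [1, 2, 1] [2, 5] (by decide +kernel)
theorem la_tet {p q e f t z x : G} (M : MK [p, q, e, f, t, z, x, x⁻¹] la_k la_E [[]]) : t * e * t = e * p := by
  simpa only [ev_cons, ev_nil, List.cons_append, List.nil_append, List.getD_cons_succ, List.getD_cons_zero, mul_one, pow_succ, pow_zero, one_mul, mul_one, mul_assoc, mul_inv_rev, inv_inv] using M.eq' (k := 8) rfl [4, 2, 4] [2, 0] (by decide +kernel)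
theorem la_qtetq {p q e f t z x : G} (M : MK [p, q, e, f, t, z, x, x⁻¹] la_k la_E [[]]) : q * t * e * t * q = e * p * z := by
  simpa only [ev_cons, ev_nil, List.cons_append, List.nil_append, List.getD_cons_succ, List.getD_cons_zero, mul_one, pow_succ, pow_zero, one_mul, mul_one, mul_assoc, mul_inv_rev, inv_inv] using M.eq' (k := 8) rfl [1, 4, 2, 4, 1] [2, 0, 5] (by decide +kernel)
theorem la_qeqe {p q e f t z x : G} (M : MK [p, q, e, f, t, z, x, x⁻¹] la_k la_E [[]]) : q * e * q * e = z := by
  simpa only [ev_cons, ev_nil, List.cons_append, List.nil_append, List.getD_cons_succ, List.getD_cons_zero, mul_one, pow_succ, pow_zero, one_mul, mul_one, mul_assoc, mul_inv_rev, inv_inv] using M.eq' (k := 8) rfl [1, 2, 1, 2] [5] (by decide +kernel)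
theorem la_fqf {p q e f t z x : G} (M : MK [p, q, e, f, t, z, x, x⁻¹] la_k la_E [[]]) : f * q * f = q := by
  simpa only [ev_cons, ev_nil, List.cons_append, List.nil_append, List.getD_cons_succ, List.getD_cons_zero, mul_one, pow_succ, pow_zero, one_mul, mul_one, mul_assoc, mul_inv_rev, inv_inv] using M.eq' (k := 8) rfl [3, 1, 3] [1] (by decide +kernel)
theorem la_ftf {p q e f t z x : G} (M : MK [p, q, e, f, t, z, x, x⁻¹] la_k la_E [[]]) : f * t * f = q * t := by
  simpa only [ev_cons, ev_nil, List.cons_append, List.nil_append, List.getD_cons_succ, List.getD_cons_zero, mul_one, pow_succ, pow_zero, one_mul, mul_one, mul_assoc, mul_inv_rev, inv_inv] using M.eq' (k := 8) rfl [3, 4, 3] [1, 4] (by decide +kernel)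
theorem la_ftzf {p q e f t z x : G} (M : MK [p, q, e, f, t, z, x, x⁻¹] la_k la_E [[]]) : f * t * z * f = q * t * z := by
  simpa only [ev_cons, ev_nil, List.cons_append, List.nil_append, List.getD_cons_succ, List.getD_cons_zero, mul_one, pow_succ, pow_zero, one_mul, mul_one, mul_assoc, mul_inv_rev, inv_inv] using M.eq' (k := 8) rfl [3, 4, 5, 3] [1, 4, 5] (by decide +kernel)
theorem la_b1 {p q e f t z x : G} (M : MK [p, q, e, f, t, z, x, x⁻¹] la_k la_E [[]]) : q * t * p * f * t * p * f = z := by
  simpa only [ev_cons, ev_nil, List.cons_append, List.nil_append, List.getD_cons_succ, List.getD_cons_zero, mul_one, pow_succ, pow_zero, one_mul, mul_one, mul_assoc, mul_inv_rev, inv_inv] using M.eq' (k := 8) rfl [1, 4, 0, 3, 4, 0, 3] [5] (by decide +kernel)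
theorem la_b2 {p q e f t z x : G} (M : MK [p, q, e, f, t, z, x, x⁻¹] la_k la_E [[]]) : t * p * f * t * p * f * q = z := by
  simpa only [ev_cons, ev_nil, List.cons_append, List.nil_append, List.getD_cons_succ, List.getD_cons_zero, mul_one, pow_succ, pow_zero, one_mul, mul_one, mul_assoc, mul_inv_rev, inv_inv] using M.eq' (k := 8) rfl [4, 0, 3, 4, 0, 3, 1] [5] (by decide +kernel)
theorem la_b3 {p q e f t z x : G} (M : MK [p, q, e, f, t, z, x, x⁻¹] la_k la_E [[]]) : q * t * p * z * f * t * p * z * f = z := by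
  simpa only [ev_cons, ev_nil, List.cons_append, List.nil_append, List.getD_cons_succ, List.getD_cons_zero, mul_one, pow_succ, pow_zero, one_mul, mul_one, mul_assoc, mul_inv_rev, inv_inv] using M.eq' (k := 8) rfl [1, 4, 0, 5, 3, 4, 0, 5, 3] [5] (by decide +kernel)
theorem la_b4 {p q e f t z x : G} (M : MK [p, q, e, f, t, z, x, x⁻¹] la_k la_E [[]]) : t * p * z * f * t * p * z * f * q = z := by
  simpa only [ev_cons, ev_nil, List.cons_append, List.nil_append, List.getD_cons_succ, List.getD_cons_zero, mul_one, pow_succ, pow_zero, one_mul, mul_one, mul_assoc, mul_inv_rev, inv_inv] using M.eq' (k := 8) rfl [4, 0, 5, 3, 4, 0, 5, 3, 1] [5] (by decide +kernel)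
theorem la_xp {p q e f t z x : G} (M : MK [p, q, e, f, t, z, x, x⁻¹] la_k la_E [[]]) : x * p * x⁻¹ = e := by
  simpa only [ev_cons, ev_nil, List.cons_append, List.nil_append, List.getD_cons_succ, List.getD_cons_zero, mul_one, pow_succ, pow_zero, one_mul, mul_one, mul_assoc, mul_inv_rev, inv_inv] using M.eq' (k := 8) rfl [6, 0, 7] [2] (by decide +kernel)
theorem la_n2n2 {p q e f t z x : G} (M : MK [p, q, e, f, t, z, x, x⁻¹] la_k la_E [[]]) : x * t * x * t = 1 := by
  simpa only [ev_cons, ev_nil, List.cons_append, List.nil_append, List.getD_cons_succ, List.getD_cons_zero, mul_one, pow_succ, pow_zero, one_mul, mul_one, mul_assoc, mul_inv_rev, inv_inv] using M.eq' (k := 8) rfl [6, 4, 6, 4] [] (by decide +kernel)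
theorem la_n2z {p q e f t z x : G} (M : MK [p, q, e, f, t, z, x, x⁻¹] la_k la_E [[]]) : x * t * z * t * x⁻¹ = z := by
  simpa only [ev_cons, ev_nil, List.cons_append, List.nil_append, List.getD_cons_succ, List.getD_cons_zero, mul_one, pow_succ, pow_zero, one_mul, mul_one, mul_assoc, mul_inv_rev, inv_inv] using M.eq' (k := 8) rfl [6, 4, 5, 4, 7] [5] (by decide +kernel)
theorem la_n2p {p q e f t z x : G} (M : MK [p, q, e, f, t, z, x, x⁻¹] la_k la_E [[]]) : x * t * p * t * x⁻¹ = e := by
  simpa only [ev_cons, ev_nil, List.cons_append, List.nil_append, List.getD_cons_succ, List.getD_cons_zero, mul_one, pow_succ, pow_zero, one_mul, mul_one, mul_assoc, mul_inv_rev, inv_inv] using M.eq' (k := 8) rfl [6, 4, 0, 4, 7] [2] (by decide +kernel)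
theorem la_n2e {p q e f t z x : G} (M : MK [p, q, e, f, t, z, x, x⁻¹] la_k la_E [[]]) : x * t * e * t * x⁻¹ = p := by
  simpa only [ev_cons, ev_nil, List.cons_append, List.nil_append, List.getD_cons_succ, List.getD_cons_zero, mul_one, pow_succ, pow_zero, one_mul, mul_one, mul_assoc, mul_inv_rev, inv_inv] using M.eq' (k := 8) rfl [6, 4, 2, 4, 7] [0] (by decide +kernel)
theorem la_rr {p q e f t z x : G} (M : MK [p, q, e, f, t, z, x, x⁻¹] la_k la_E [[]]) : p * q * z * p * q * z = 1 := by
  simpa only [ev_cons, ev_nil, List.cons_append, List.nil_append, List.getD_cons_succ, List.getD_cons_zero, mul_one, pow_succ, pow_zero, one_mul, mul_one, mul_assoc, mul_inv_rev, inv_inv] using M.eq' (k := 8) rfl [0, 1, 5, 0, 1, 5] [] (by decide +kernel)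
theorem la_ere {p q e f t z x : G} (M : MK [p, q, e, f, t, z, x, x⁻¹] la_k la_E [[]]) : e * p * q * z * e = p * q := by
  simpa only [ev_cons, ev_nil, List.cons_append, List.nil_append, List.getD_cons_succ, List.getD_cons_zero, mul_one, pow_succ, pow_zero, one_mul, mul_one, mul_assoc, mul_inv_rev, inv_inv] using M.eq' (k := 8) rfl [2, 0, 1, 5, 2] [0, 1] (by decide +kernel)
theorem la_c1 {p q e f t z x : G} (M : MK [p, q, e, f, t, z, x, x⁻¹] la_k la_E [[]]) : q * z * p * t * z * q * t * z = p * z := by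
  simpa only [ev_cons, ev_nil, List.cons_append, List.nil_append, List.getD_cons_succ, List.getD_cons_zero, mul_one, pow_succ, pow_zero, one_mul, mul_one, mul_assoc, mul_inv_rev, inv_inv] using M.eq' (k := 8) rfl [1, 5, 0, 4, 5, 1, 4, 5] [0, 5] (by decide +kernel)
theorem la_c2 {p q e f t z x : G} (M : MK [p, q, e, f, t, z, x, x⁻¹] la_k la_E [[]]) : q * t * p * t = q * p := by
  simpa only [ev_cons, ev_nil, List.cons_append, List.nil_append, List.getD_cons_succ, List.getD_cons_zero, mul_one, pow_succ, pow_zero, one_mul, mul_one, mul_assoc, mul_inv_rev, inv_inv] using M.eq' (k := 8) rfl [1, 4, 0, 4] [1, 0] (by decide +kernel)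
theorem la_c3 {p q e f t z x : G} (M : MK [p, q, e, f, t, z, x, x⁻¹] la_k la_E [[]]) : q * z * t * z = q * t := by
  simpa only [ev_cons, ev_nil, List.cons_append, List.nil_append, List.getD_cons_succ, List.getD_cons_zero, mul_one, pow_succ, pow_zero, one_mul, mul_one, mul_assoc, mul_inv_rev, inv_inv] using M.eq' (k := 8) rfl [1, 5, 4, 5] [1, 4] (by decide +kernel)
theorem la_c4 {p q e f t z x : G} (M : MK [p, q, e, f, t, z, x, x⁻¹] la_k la_E [[]]) : t * q * t = q := by
  simpa only [ev_cons, ev_nil, List.cons_append, List.nil_append, List.getD_cons_succ, List.getD_cons_zero, mul_one, pow_succ, pow_zero, one_mul, mul_one, mul_assoc, mul_inv_rev, inv_inv] using M.eq' (k := 8) rfl [4, 1, 4] [1] (by decide +kernel)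
theorem la_bb {p q e f t z x : G} (M : MK [p, q, e, f, t, z, x, x⁻¹] la_k la_E [[]]) : p * q * z * p * q = z := by
  simpa only [ev_cons, ev_nil, List.cons_append, List.nil_append, List.getD_cons_succ, List.getD_cons_zero, mul_one, pow_succ, pow_zero, one_mul, mul_one, mul_assoc, mul_inv_rev, inv_inv] using M.eq' (k := 8) rfl [0, 1, 5, 0, 1] [5] (by decide +kernel)
theorem la_aa {p q e f t z x : G} (M : MK [p, q, e, f, t, z, x, x⁻¹] la_k la_E [[]]) : p * q * t * p * q * t = 1 := by
  simpa only [ev_cons, ev_nil, List.cons_append, List.nil_append, List.getD_cons_succ, List.getD_cons_zero, mul_one, pow_succ, pow_zero, one_mul, mul_one, mul_assoc, mul_inv_rev, inv_inv] using M.eq' (k := 8) rfl [0, 1, 4, 0, 1, 4] [] (by decide +kernel)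
theorem la_ab {p q e f t z x : G} (M : MK [p, q, e, f, t, z, x, x⁻¹] la_k la_E [[]]) : p * q * t * p * q * z = p * q * z * p * q * t := by
  simpa only [ev_cons, ev_nil, List.cons_append, List.nil_append, List.getD_cons_succ, List.getD_cons_zero, mul_one, pow_succ, pow_zero, one_mul, mul_one, mul_assoc, mul_inv_rev, inv_inv] using M.eq' (k := 8) rfl [0, 1, 4, 0, 1, 5] [0, 1, 5, 0, 1, 4] (by decide +kernel)
theorem la_az {p q e f t z x : G} (M : MK [p, q, e, f, t, z, x, x⁻¹] la_k la_E [[]]) : p * q * t * z = z * p * q * t := by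
  simpa only [ev_cons, ev_nil, List.cons_append, List.nil_append, List.getD_cons_succ, List.getD_cons_zero, mul_one, pow_succ, pow_zero, one_mul, mul_one, mul_assoc, mul_inv_rev, inv_inv] using M.eq' (k := 8) rfl [0, 1, 4, 5] [5, 0, 1, 4] (by decide +kernel)
theorem la_bz {p q e f t z x : G} (M : MK [p, q, e, f, t, z, x, x⁻¹] la_k la_E [[]]) : p * q * z * z = z * p * q * z := by
  simpa only [ev_cons, ev_nil, List.cons_append, List.nil_append, List.getD_cons_succ, List.getD_cons_zero, mul_one, pow_succ, pow_zero, one_mul, mul_one, mul_assoc, mul_inv_rev, inv_inv] using M.eq' (k := 8) rfl [0, 1, 5, 5] [5, 0, 1, 5] (by decide +kernel)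
theorem la_rhr {p q e f t z x : G} (M : MK [p, q, e, f, t, z, x, x⁻¹] la_k la_E [[]]) : e * f * e * f = 1 := by
  simpa only [ev_cons, ev_nil, List.cons_append, List.nil_append, List.getD_cons_succ, List.getD_cons_zero, mul_one, pow_succ, pow_zero, one_mul, mul_one, mul_assoc, mul_inv_rev, inv_inv] using M.eq' (k := 8) rfl [2, 3, 2, 3] [] (by decide +kernel)
theorem la_rhb {p q e f t z x : G} (M : MK [p, q, e, f, t, z, x, x⁻¹] la_k la_E [[]]) : e * f * p * q * z = p * q * z * e * f := by
  simpa only [ev_cons, ev_nil, List.cons_append, List.nil_append, List.getD_cons_succ, List.getD_cons_zero, mul_one, pow_succ, pow_zero, one_mul, mul_one, mul_assoc, mul_inv_rev, inv_inv] using M.eq' (k := 8) rfl [2, 3, 0, 1, 5] [0, 1, 5, 2, 3] (by decide +kernel)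
theorem la_rhz {p q e f t z x : G} (M : MK [p, q, e, f, t, z, x, x⁻¹] la_k la_E [[]]) : e * f * z = z * e * f := by
  simpa only [ev_cons, ev_nil, List.cons_append, List.nil_append, List.getD_cons_succ, List.getD_cons_zero, mul_one, pow_succ, pow_zero, one_mul, mul_one, mul_assoc, mul_inv_rev, inv_inv] using M.eq' (k := 8) rfl [2, 3, 5] [5, 2, 3] (by decide +kernel)
theorem la_rha {p q e f t z x : G} (M : MK [p, q, e, f, t, z, x, x⁻¹] la_k la_E [[]]) : e * f * p * q * t * f * e = p * q * t * p * q * z := by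
  simpa only [ev_cons, ev_nil, List.cons_append, List.nil_append, List.getD_cons_succ, List.getD_cons_zero, mul_one, pow_succ, pow_zero, one_mul, mul_one, mul_assoc, mul_inv_rev, inv_inv] using M.eq' (k := 8) rfl [2, 3, 0, 1, 4, 3, 2] [0, 1, 4, 0, 1, 5] (by decide +kernel)
theorem la_rhs {p q e f t z x : G} (M : MK [p, q, e, f, t, z, x, x⁻¹] la_k la_E [[]]) : e * f * q * t * z * f * e = q * t * z * p * q := by
  simpa only [ev_cons, ev_nil, List.cons_append, List.nil_append, List.getD_cons_succ, List.getD_cons_zero, mul_one, pow_succ, pow_zero, one_mul, mul_one, mul_assoc, mul_inv_rev, inv_inv] using M.eq' (k := 8) rfl [2, 3, 1, 4, 5, 3, 2] [1, 4, 5, 0, 1] (by decide +kernel)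
theorem la_hh {p q e f t z x : G} (M : MK [p, q, e, f, t, z, x, x⁻¹] la_k la_E [[]]) : e * x⁻¹ * e * x⁻¹ * e * x⁻¹ = 1 := by
  simpa only [ev_cons, ev_nil, List.cons_append, List.nil_append, List.getD_cons_succ, List.getD_cons_zero, mul_one, pow_succ, pow_zero, one_mul, mul_one, mul_assoc, mul_inv_rev, inv_inv] using M.eq' (k := 8) rfl [2, 7, 2, 7, 2, 7] [] (by decide +kernel)
theorem la_hz {p q e f t z x : G} (M : MK [p, q, e, f, t, z, x, x⁻¹] la_k la_E [[]]) : e * x⁻¹ * z = z * e * x⁻¹ := by
  simpa only [ev_cons, ev_nil, List.cons_append, List.nil_append, List.getD_cons_succ, List.getD_cons_zero, mul_one, pow_succ, pow_zero, one_mul, mul_one, mul_assoc, mul_inv_rev, inv_inv] using M.eq' (k := 8) rfl [2, 7, 5] [5, 2, 7] (by decide +kernel)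
theorem la_hb {p q e f t z x : G} (M : MK [p, q, e, f, t, z, x, x⁻¹] la_k la_E [[]]) : e * x⁻¹ * p * q * z * x * e = e * f * p * q * z := by
  simpa only [ev_cons, ev_nil, List.cons_append, List.nil_append, List.getD_cons_succ, List.getD_cons_zero, mul_one, pow_succ, pow_zero, one_mul, mul_one, mul_assoc, mul_inv_rev, inv_inv] using M.eq' (k := 8) rfl [2, 7, 0, 1, 5, 6, 2] [2, 3, 0, 1, 5] (by decide +kernel)
theorem la_hr {p q e f t z x : G} (M : MK [p, q, e, f, t, z, x, x⁻¹] la_k la_E [[]]) : e * x⁻¹ * e * f * x * e = p * q * z := by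
  simpa only [ev_cons, ev_nil, List.cons_append, List.nil_append, List.getD_cons_succ, List.getD_cons_zero, mul_one, pow_succ, pow_zero, one_mul, mul_one, mul_assoc, mul_inv_rev, inv_inv] using M.eq' (k := 8) rfl [2, 7, 2, 3, 6, 2] [0, 1, 5] (by decide +kernel)
theorem la_w0 {p q e f t z x : G} (M : MK [p, q, e, f, t, z, x, x⁻¹] la_k la_E [[]]) : q * z * p * q * t * t = z * p := by
  simpa only [ev_cons, ev_nil, List.cons_append, List.nil_append, List.getD_cons_succ, List.getD_cons_zero, mul_one, pow_succ, pow_zero, one_mul, mul_one, mul_assoc, mul_inv_rev, inv_inv] using M.eq' (k := 8) rfl [1, 5, 0, 1, 4, 4] [5, 0] (by decide +kernel)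
theorem la_c5 {p q e f t z x : G} (M : MK [p, q, e, f, t, z, x, x⁻¹] la_k la_E [[]]) : p * z * q * t * t * p = q * z := by
  simpa only [ev_cons, ev_nil, List.cons_append, List.nil_append, List.getD_cons_succ, List.getD_cons_zero, mul_one, pow_succ, pow_zero, one_mul, mul_one, mul_assoc, mul_inv_rev, inv_inv] using M.eq' (k := 8) rfl [0, 5, 1, 4, 4, 0] [1, 5] (by decide +kernel)
theorem la_c6 {p q e f t z x : G} (M : MK [p, q, e, f, t, z, x, x⁻¹] la_k la_E [[]]) : p * t * q = p * q * z * t * z := by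
  simpa only [ev_cons, ev_nil, List.cons_append, List.nil_append, List.getD_cons_succ, List.getD_cons_zero, mul_one, pow_succ, pow_zero, one_mul, mul_one, mul_assoc, mul_inv_rev, inv_inv] using M.eq' (k := 8) rfl [0, 4, 1] [0, 1, 5, 4, 5] (by decide +kernel)
theorem la_c7 {p q e f t z x : G} (M : MK [p, q, e, f, t, z, x, x⁻¹] la_k la_E [[]]) : p * q * z * q * z = p := by
  simpa only [ev_cons, ev_nil, List.cons_append, List.nil_append, List.getD_cons_succ, List.getD_cons_zero, mul_one, pow_succ, pow_zero, one_mul, mul_one, mul_assoc, mul_inv_rev, inv_inv] using M.eq' (k := 8) rfl [0, 1, 5, 1, 5] [0] (by decide +kernel)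
theorem la_c11 {p q e f t z x : G} (M : MK [p, q, e, f, t, z, x, x⁻¹] la_k la_E [[]]) : q * t * p = p * q * z * t * z := by
  simpa only [ev_cons, ev_nil, List.cons_append, List.nil_append, List.getD_cons_succ, List.getD_cons_zero, mul_one, pow_succ, pow_zero, one_mul, mul_one, mul_assoc, mul_inv_rev, inv_inv] using M.eq' (k := 8) rfl [1, 4, 0] [0, 1, 5, 4, 5] (by decide +kernel)
theorem la_c9 {p q e f t z x : G} (M : MK [p, q, e, f, t, z, x, x⁻¹] la_k la_E [[]]) : q * t * z * p * q * z = p * t := by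
  simpa only [ev_cons, ev_nil, List.cons_append, List.nil_append, List.getD_cons_succ, List.getD_cons_zero, mul_one, pow_succ, pow_zero, one_mul, mul_one, mul_assoc, mul_inv_rev, inv_inv] using M.eq' (k := 8) rfl [1, 4, 5, 0, 1, 5] [0, 4] (by decide +kernel)
theorem la_c10 {p q e f t z x : G} (M : MK [p, q, e, f, t, z, x, x⁻¹] la_k la_E [[]]) : z * q * t * p * z = q * t * p := by
  simpa only [ev_cons, ev_nil, List.cons_append, List.nil_append, List.getD_cons_succ, List.getD_cons_zero, mul_one, pow_succ, pow_zero, one_mul, mul_one, mul_assoc, mul_inv_rev, inv_inv] using M.eq' (k := 8) rfl [5, 1, 4, 0, 5] [1, 4, 0] (by decide +kernel)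
theorem la_z1 {p q e f t z x : G} (M : MK [p, q, e, f, t, z, x, x⁻¹] la_k la_E [[]]) : z ≠ 1 := by
  simpa only [ev_cons, ev_nil, List.cons_append, List.nil_append, List.getD_cons_succ, List.getD_cons_zero, mul_one, pow_succ, pow_zero, one_mul, mul_one, mul_assoc, mul_inv_rev, inv_inv] using M.ne' (k := 8) rfl [5] [] (by decide +kernel)
theorem la_p1 {p q e f t z x : G} (M : MK [p, q, e, f, t, z, x, x⁻¹] la_k la_E [[]]) : p ≠ 1 := by
  simpa only [ev_cons, ev_nil, List.cons_append, List.nil_append, List.getD_cons_succ, List.getD_cons_zero, mul_one, pow_succ, pow_zero, one_mul, mul_one, mul_assoc, mul_inv_rev, inv_inv] using M.ne' (k := 8) rfl [0] [] (by decide +kernel)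
theorem la_q1 {p q e f t z x : G} (M : MK [p, q, e, f, t, z, x, x⁻¹] la_k la_E [[]]) : q ≠ 1 := by
  simpa only [ev_cons, ev_nil, List.cons_append, List.nil_append, List.getD_cons_succ, List.getD_cons_zero, mul_one, pow_succ, pow_zero, one_mul, mul_one, mul_assoc, mul_inv_rev, inv_inv] using M.ne' (k := 8) rfl [1] [] (by decide +kernel)
theorem la_e1 {p q e f t z x : G} (M : MK [p, q, e, f, t, z, x, x⁻¹] la_k la_E [[]]) : e ≠ 1 := by
  simpa only [ev_cons, ev_nil, List.cons_append, List.nil_append, List.getD_cons_succ, List.getD_cons_zero, mul_one, pow_succ, pow_zero, one_mul, mul_one, mul_assoc, mul_inv_rev, inv_inv] using M.ne' (k := 8) rfl [2] [] (by decide +kernel)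
theorem la_pz1 {p q e f t z x : G} (M : MK [p, q, e, f, t, z, x, x⁻¹] la_k la_E [[]]) : p * z ≠ 1 := by
  simpa only [ev_cons, ev_nil, List.cons_append, List.nil_append, List.getD_cons_succ, List.getD_cons_zero, mul_one, pow_succ, pow_zero, one_mul, mul_one, mul_assoc, mul_inv_rev, inv_inv] using M.ne' (k := 8) rfl [0, 5] [] (by decide +kernel)
theorem la_npz {p q e f t z x : G} (M : MK [p, q, e, f, t, z, x, x⁻¹] la_k la_E [[]]) : p ≠ z := by
  simpa only [ev_cons, ev_nil, List.cons_append, List.nil_append, List.getD_cons_succ, List.getD_cons_zero, mul_one, pow_succ, pow_zero, one_mul, mul_one, mul_assoc, mul_inv_rev, inv_inv] using M.ne' (k := 8) rfl [0] [5] (by decide +kernel)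
theorem la_nqz {p q e f t z x : G} (M : MK [p, q, e, f, t, z, x, x⁻¹] la_k la_E [[]]) : q ≠ z := by
  simpa only [ev_cons, ev_nil, List.cons_append, List.nil_append, List.getD_cons_succ, List.getD_cons_zero, mul_one, pow_succ, pow_zero, one_mul, mul_one, mul_assoc, mul_inv_rev, inv_inv] using M.ne' (k := 8) rfl [1] [5] (by decide +kernel)
theorem la_nqp {p q e f t z x : G} (M : MK [p, q, e, f, t, z, x, x⁻¹] la_k la_E [[]]) : q ≠ p := by
  simpa only [ev_cons, ev_nil, List.cons_append, List.nil_append, List.getD_cons_succ, List.getD_cons_zero, mul_one, pow_succ, pow_zero, one_mul, mul_one, mul_assoc, mul_inv_rev, inv_inv] using M.ne' (k := 8) rfl [1] [0] (by decide +kernel)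
theorem la_nqpz {p q e f t z x : G} (M : MK [p, q, e, f, t, z, x, x⁻¹] la_k la_E [[]]) : q ≠ p * z := by
  simpa only [ev_cons, ev_nil, List.cons_append, List.nil_append, List.getD_cons_succ, List.getD_cons_zero, mul_one, pow_succ, pow_zero, one_mul, mul_one, mul_assoc, mul_inv_rev, inv_inv] using M.ne' (k := 8) rfl [1] [0, 5] (by decide +kernel)
theorem la_qt1 {p q e f t z x : G} (M : MK [p, q, e, f, t, z, x, x⁻¹] la_k la_E [[]]) : q * t ≠ 1 := by
  simpa only [ev_cons, ev_nil, List.cons_append, List.nil_append, List.getD_cons_succ, List.getD_cons_zero, mul_one, pow_succ, pow_zero, one_mul, mul_one, mul_assoc, mul_inv_rev, inv_inv] using M.ne' (k := 8) rfl [1, 4] [] (by decide +kernel)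
theorem la_nqtz {p q e f t z x : G} (M : MK [p, q, e, f, t, z, x, x⁻¹] la_k la_E [[]]) : q * t ≠ z := by
  simpa only [ev_cons, ev_nil, List.cons_append, List.nil_append, List.getD_cons_succ, List.getD_cons_zero, mul_one, pow_succ, pow_zero, one_mul, mul_one, mul_assoc, mul_inv_rev, inv_inv] using M.ne' (k := 8) rfl [1, 4] [5] (by decide +kernel)
theorem la_nqtp {p q e f t z x : G} (M : MK [p, q, e, f, t, z, x, x⁻¹] la_k la_E [[]]) : q * t ≠ p := by
  simpa only [ev_cons, ev_nil, List.cons_append, List.nil_append, List.getD_cons_succ, List.getD_cons_zero, mul_one, pow_succ, pow_zero, one_mul, mul_one, mul_assoc, mul_inv_rev, inv_inv] using M.ne' (k := 8) rfl [1, 4] [0] (by decide +kernel)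
theorem la_nqtpz {p q e f t z x : G} (M : MK [p, q, e, f, t, z, x, x⁻¹] la_k la_E [[]]) : q * t ≠ p * z := by
  simpa only [ev_cons, ev_nil, List.cons_append, List.nil_append, List.getD_cons_succ, List.getD_cons_zero, mul_one, pow_succ, pow_zero, one_mul, mul_one, mul_assoc, mul_inv_rev, inv_inv] using M.ne' (k := 8) rfl [1, 4] [0, 5] (by decide +kernel)
theorem la_nzepe {p q e f t z x : G} (M : MK [p, q, e, f, t, z, x, x⁻¹] la_k la_E [[]]) : z * e ≠ p * e := by
  simpa only [ev_cons, ev_nil, List.cons_append, List.nil_append, List.getD_cons_succ, List.getD_cons_zero, mul_one, pow_succ, pow_zero, one_mul, mul_one, mul_assoc, mul_inv_rev, inv_inv] using M.ne' (k := 8) rfl [5, 2] [0, 2] (by decide +kernel)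
theorem la_r1 {p q e f t z x : G} (M : MK [p, q, e, f, t, z, x, x⁻¹] la_k la_E [[]]) : p * q * z ≠ 1 := by
  simpa only [ev_cons, ev_nil, List.cons_append, List.nil_append, List.getD_cons_succ, List.getD_cons_zero, mul_one, pow_succ, pow_zero, one_mul, mul_one, mul_assoc, mul_inv_rev, inv_inv] using M.ne' (k := 8) rfl [0, 1, 5] [] (by decide +kernel)
theorem la_nrz {p q e f t z x : G} (M : MK [p, q, e, f, t, z, x, x⁻¹] la_k la_E [[]]) : p * q * z ≠ z := by
  simpa only [ev_cons, ev_nil, List.cons_append, List.nil_append, List.getD_cons_succ, List.getD_cons_zero, mul_one, pow_succ, pow_zero, one_mul, mul_one, mul_assoc, mul_inv_rev, inv_inv] using M.ne' (k := 8) rfl [0, 1, 5] [5] (by decide +kernel)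
theorem la_pq1 {p q e f t z x : G} (M : MK [p, q, e, f, t, z, x, x⁻¹] la_k la_E [[]]) : p * q ≠ 1 := by
  simpa only [ev_cons, ev_nil, List.cons_append, List.nil_append, List.getD_cons_succ, List.getD_cons_zero, mul_one, pow_succ, pow_zero, one_mul, mul_one, mul_assoc, mul_inv_rev, inv_inv] using M.ne' (k := 8) rfl [0, 1] [] (by decide +kernel)
theorem la_nsb {p q e f t z x : G} (M : MK [p, q, e, f, t, z, x, x⁻¹] la_k la_E [[]]) : q * t * z ≠ p * q := by
  simpa only [ev_cons, ev_nil, List.cons_append, List.nil_append, List.getD_cons_succ, List.getD_cons_zero, mul_one, pow_succ, pow_zero, one_mul, mul_one, mul_assoc, mul_inv_rev, inv_inv] using M.ne' (k := 8) rfl [1, 4, 5] [0, 1] (by decide +kernel)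
theorem la_nab {p q e f t z x : G} (M : MK [p, q, e, f, t, z, x, x⁻¹] la_k la_E [[]]) : p * q * t ≠ p * q * z := by
  simpa only [ev_cons, ev_nil, List.cons_append, List.nil_append, List.getD_cons_succ, List.getD_cons_zero, mul_one, pow_succ, pow_zero, one_mul, mul_one, mul_assoc, mul_inv_rev, inv_inv] using M.ne' (k := 8) rfl [0, 1, 4] [0, 1, 5] (by decide +kernel)
theorem la_a1 {p q e f t z x : G} (M : MK [p, q, e, f, t, z, x, x⁻¹] la_k la_E [[]]) : p * q * t ≠ 1 := by
  simpa only [ev_cons, ev_nil, List.cons_append, List.nil_append, List.getD_cons_succ, List.getD_cons_zero, mul_one, pow_succ, pow_zero, one_mul, mul_one, mul_assoc, mul_inv_rev, inv_inv] using M.ne' (k := 8) rfl [0, 1, 4] [] (by decide +kernel)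
theorem la_npf {p q e f t z x : G} (M : MK [p, q, e, f, t, z, x, x⁻¹] la_k la_E [[]]) : p * f ≠ f * p := by
  simpa only [ev_cons, ev_nil, List.cons_append, List.nil_append, List.getD_cons_succ, List.getD_cons_zero, mul_one, pow_succ, pow_zero, one_mul, mul_one, mul_assoc, mul_inv_rev, inv_inv] using M.ne' (k := 8) rfl [0, 3] [3, 0] (by decide +kernel)
theorem la_nra {p q e f t z x : G} (M : MK [p, q, e, f, t, z, x, x⁻¹] la_k la_E [[]]) : e * f * p * q * t ≠ p * q * t * e * f := by
  simpa only [ev_cons, ev_nil, List.cons_append, List.nil_append, List.getD_cons_succ, List.getD_cons_zero, mul_one, pow_succ, pow_zero, one_mul, mul_one, mul_assoc, mul_inv_rev, inv_inv] using M.ne' (k := 8) rfl [2, 3, 0, 1, 4] [0, 1, 4, 2, 3] (by decide +kernel)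
theorem la_ab1 {p q e f t z x : G} (M : MK [p, q, e, f, t, z, x, x⁻¹] la_k la_E [[]]) : p * q * t * p * q * z ≠ 1 := by
  simpa only [ev_cons, ev_nil, List.cons_append, List.nil_append, List.getD_cons_succ, List.getD_cons_zero, mul_one, pow_succ, pow_zero, one_mul, mul_one, mul_assoc, mul_inv_rev, inv_inv] using M.ne' (k := 8) rfl [0, 1, 4, 0, 1, 5] [] (by decide +kernel)
theorem la_inv {p q e f t z x : G} (M : MK [p, q, e, f, t, z, x, x⁻¹] la_k la_E [[]]) {g : G} (hg : g ∈ cl [p, q, e, f, t, z, x, x⁻¹]) (h0 : g * g = 1) :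
    ∃ c ∈ cl [p, q, e, f, t, z, x, x⁻¹], (g = 1 ∨ g = c * z * c⁻¹ ∨ g = c * p * c⁻¹ ∨ g = c * q * c⁻¹ ∨ g = c * (p * q * z) * c⁻¹ ∨ g = c * t * c⁻¹ ∨ g = c * (t * z) * c⁻¹) := by
  have := M.cj (k := 8) rfl [([8, 8], [])] [] [[], [5], [0], [1], [0, 1, 5], [4], [4, 5]] [([], [], 0), ([], [], 2), ([], [], 3), ([6], [7], 2), ([6], [7], 3), ([], [], 5), ([], [], 1), ([2], [2], 4), ([7], [6], 2), ([2], [2], 5), ([3], [3], 2), ([7], [6], 3), ([3], [3], 5), ([2], [2], 3), ([6, 2], [2, 7], 4), ([6, 3], [3, 7], 2), ([6, 2], [2, 7], 3), ([], [], 6), ([7], [6], 5), ([6], [7], 5), ([3, 2], [3, 2], 6), ([], [], 4), ([7, 3], [6, 1], 2), ([2], [2], 6), ([7, 2], [6, 0], 3), ([3], [3], 6), ([6], [7], 4), ([6, 2], [2, 7], 5), ([6, 3], [3, 7], 5), ([7, 2], [6, 0], 5), ([7, 3], [6, 1], 5), ([7], [6], 6), ([6], [7], 6), ([7], [6], 4), ([3, 2], [3, 2], 5), ([7, 2], [6, 0], 4), ([6, 3, 2], [3, 2, 7], 6), ([6, 2], [2, 7], 6), ([6, 3], [3, 7], 6), ([7, 3, 2], [6, 1, 0], 6), ([7, 2], [6, 0], 6), ([7, 3], [6, 1],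 6), ([6, 3, 2], [3, 2, 7], 5), ([7, 3, 2], [6, 1, 0], 5)] (by decide +kernel) hg (by
    simp only [Sat, List.forall_mem_cons, List.not_mem_nil, IsEmpty.forall_iff, implies_true, and_true, ev_cons, ev_nil, List.cons_append, List.nil_append, List.getD_cons_succ, List.getD_cons_zero, mul_one]
    exact by simpa only [pow_succ, pow_zero, one_mul, mul_one, mul_assoc, mul_inv_rev, inv_inv] using h0)
  simpa only [List.mem_cons, List.not_mem_nil, or_false, false_and, exists_false, exists_eq_or_imp, exists_eq_left, Sat, List.forall_mem_cons, forall_eq_or_imp, forall_eq, IsEmpty.forall_iff, implies_true, and_true, true_and, and_assoc, mul_inv_cancel, ev_cons, ev_nil, List.cons_append, List.nil_append, List.getD_cons_succ, List.getD_cons_zero, mul_one, pow_succ, pow_zero, one_mul, mul_one, mul_assoc, mul_inv_rev, inv_inv] using this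
theorem la_r4 {p q e f t z x : G} (M : MK [p, q, e, f, t, z, x, x⁻¹] la_k la_E [[]]) {g : G} (hg : g ∈ cl [p, q, e, f, t, z, x, x⁻¹]) (h0 : g * p = p * g) :
    (g * g * g * g = 1) := by
  have := M.imp (k := 8) rfl [([8, 0], [0, 8])] [[([8, 8, 8, 8], [])]] (by decide +kernel) hg (by
    simp only [Sat, List.forall_mem_cons, List.not_mem_nil, IsEmpty.forall_iff, implies_true, and_true, ev_cons, ev_nil, List.cons_append, List.nil_append, List.getD_cons_succ, List.getD_cons_zero, mul_one]
    exact by simpa only [pow_succ, pow_zero, one_mul, mul_one, mul_assoc, mul_inv_rev, inv_inv] using h0)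
  simpa only [List.mem_cons, List.not_mem_nil, or_false, false_and, exists_false, exists_eq_or_imp, exists_eq_left, Sat, List.forall_mem_cons, forall_eq_or_imp, forall_eq, IsEmpty.forall_iff, implies_true, and_true, ev_cons, ev_nil, List.cons_append, List.nil_append, List.getD_cons_succ, List.getD_cons_zero, mul_one, pow_succ, pow_zero, one_mul, mul_one, mul_assoc, mul_inv_rev, inv_inv] using this
theorem la_ri {p q e f t z x : G} (M : MK [p, q, e, f, t, z, x, x⁻¹] la_k la_E [[]]) {g : G} (hg : g ∈ cl [p, q, e, f, t, z, x, x⁻¹]) (h0 : g * g = 1) (h1 : g * p = p * g) :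
    (g * q = q * g ∧ g * t = t * g) ∨ (g = e) ∨ (g = e * z) ∨ (g = e * p) ∨ (g = e * p * z) := by
  have := M.imp (k := 8) rfl [([8, 8], []), ([8, 0], [0, 8])] [[([8, 1], [1, 8]), ([8, 4], [4, 8])], [([8], [2])], [([8], [2, 5])], [([8], [2, 0])], [([8], [2, 0, 5])]] (by decide +kernel) hg (by
    simp only [Sat, List.forall_mem_cons, List.not_mem_nil, IsEmpty.forall_iff, implies_true, and_true, ev_cons, ev_nil, List.cons_append, List.nil_append, List.getD_cons_succ, List.getD_cons_zero, mul_one]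
    exact ⟨by simpa only [pow_succ, pow_zero, one_mul, mul_one, mul_assoc, mul_inv_rev, inv_inv] using h0, by simpa only [pow_succ, pow_zero, one_mul, mul_one, mul_assoc, mul_inv_rev, inv_inv] using h1⟩)
  simpa only [List.mem_cons, List.not_mem_nil, or_false, false_and, exists_false, exists_eq_or_imp, exists_eq_left, Sat, List.forall_mem_cons, forall_eq_or_imp, forall_eq, IsEmpty.forall_iff, implies_true, and_true, ev_cons, ev_nil, List.cons_append, List.nil_append, List.getD_cons_succ, List.getD_cons_zero, mul_one, pow_succ, pow_zero, one_mul, mul_one, mul_assoc, mul_inv_rev, inv_inv] using this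
theorem la_c8 {p q e f t z x : G} (M : MK [p, q, e, f, t, z, x, x⁻¹] la_k la_E [[]]) {g : G} (hg : g ∈ cl [p, q, e, f, t, z, x, x⁻¹]) (h0 : g * p = p * g) (h1 : g * e = e * g) :
    g = 1 ∨ g = z ∨ g = p ∨ g = p * z ∨ g = e ∨ g = e * z ∨ g = e * p ∨ g = e * p * z := by
  have := M.sol (k := 8) rfl [([8, 0], [0, 8]), ([8, 2], [2, 8])] [[], [5], [0], [0, 5], [2], [2, 5], [2, 0], [2, 0, 5]] (by decide +kernel) hg (by
    simp only [Sat, List.forall_mem_cons, List.not_mem_nil, IsEmpty.forall_iff, implies_true, and_true, ev_cons, ev_nil, List.cons_append, List.nil_append, List.getD_cons_succ, List.getD_cons_zero, mul_one]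
    exact ⟨by simpa only [pow_succ, pow_zero, one_mul, mul_one, mul_assoc, mul_inv_rev, inv_inv] using h0, by simpa only [pow_succ, pow_zero, one_mul, mul_one, mul_assoc, mul_inv_rev, inv_inv] using h1⟩)
  simpa only [List.mem_cons, List.not_mem_nil, or_false, false_and, exists_false, exists_eq_or_imp, exists_eq_left, ev_cons, ev_nil, List.cons_append, List.nil_append, List.getD_cons_succ, List.getD_cons_zero, mul_one, pow_succ, pow_zero, one_mul, mul_one, mul_assoc, mul_inv_rev, inv_inv] using this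
theorem la_tqs {p q e f t z x : G} (M : MK [p, q, e, f, t, z, x, x⁻¹] la_k la_E [[]]) {g : G} (hg : g ∈ cl [p, q, e, f, t, z, x, x⁻¹]) (h0 : g * g = 1) (h1 : g * p = p * g) (h2 : g * e * g * e = p) :
    g = t ∨ g = t * z ∨ g = t * p ∨ g = t * p * z := by
  have := M.sol (k := 8) rfl [([8, 8], []), ([8, 0], [0, 8]), ([8, 2, 8, 2], [0])] [[4], [4, 5], [4, 0], [4, 0, 5]] (by decide +kernel) hg (by
    simp only [Sat, List.forall_mem_cons, List.not_mem_nil, IsEmpty.forall_iff, implies_true, and_true, ev_cons, ev_nil, List.cons_append, List.nil_append, List.getD_cons_succ, List.getD_cons_zero, mul_one]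
    exact ⟨by simpa only [pow_succ, pow_zero, one_mul, mul_one, mul_assoc, mul_inv_rev, inv_inv] using h0, by simpa only [pow_succ, pow_zero, one_mul, mul_one, mul_assoc, mul_inv_rev, inv_inv] using h1, by simpa only [pow_succ, pow_zero, one_mul, mul_one, mul_assoc, mul_inv_rev, inv_inv] using h2⟩)
  simpa only [List.mem_cons, List.not_mem_nil, or_false, false_and, exists_false, exists_eq_or_imp, exists_eq_left, ev_cons, ev_nil, List.cons_append, List.nil_append, List.getD_cons_succ, List.getD_cons_zero, mul_one, pow_succ, pow_zero, one_mul, mul_one, mul_assoc, mul_inv_rev, inv_inv] using this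
theorem la_npq {p q e f t z x : G} (M : MK [p, q, e, f, t, z, x, x⁻¹] la_k la_E [[]]) {g : G} (hg : g ∈ cl [p, q, e, f, t, z, x, x⁻¹]) (h0 : g * p = q * g) :
    False := by
  have := M.sol (k := 8) rfl [([8, 0], [1, 8])] [] (by decide +kernel) hg (by
    simp only [Sat, List.forall_mem_cons, List.not_mem_nil, IsEmpty.forall_iff, implies_true, and_true, ev_cons, ev_nil, List.cons_append, List.nil_append, List.getD_cons_succ, List.getD_cons_zero, mul_one]
    exact by simpa only [pow_succ, pow_zero, one_mul, mul_one, mul_assoc, mul_inv_rev, inv_inv] using h0)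
  simpa only [List.mem_cons, List.not_mem_nil, or_false, false_and, exists_false, exists_eq_or_imp, exists_eq_left, ev_cons, ev_nil, List.cons_append, List.nil_append, List.getD_cons_succ, List.getD_cons_zero, mul_one, pow_succ, pow_zero, one_mul, mul_one, mul_assoc, mul_inv_rev, inv_inv] using this
theorem la_nqt {p q e f t z x : G} (M : MK [p, q, e, f, t, z, x, x⁻¹] la_k la_E [[]]) {g : G} (hg : g ∈ cl [p, q, e, f, t, z, x, x⁻¹]) (h0 : g * q = q * t * g) :
    False := by
  have := M.sol (k := 8) rfl [([8, 1], [1, 4, 8])] [] (by decide +kernel) hg (by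
    simp only [Sat, List.forall_mem_cons, List.not_mem_nil, IsEmpty.forall_iff, implies_true, and_true, ev_cons, ev_nil, List.cons_append, List.nil_append, List.getD_cons_succ, List.getD_cons_zero, mul_one]
    exact by simpa only [pow_succ, pow_zero, one_mul, mul_one, mul_assoc, mul_inv_rev, inv_inv] using h0)
  simpa only [List.mem_cons, List.not_mem_nil, or_false, false_and, exists_false, exists_eq_or_imp, exists_eq_left, ev_cons, ev_nil, List.cons_append, List.nil_append, List.getD_cons_succ, List.getD_cons_zero, mul_one, pow_succ, pow_zero, one_mul, mul_one, mul_assoc, mul_inv_rev, inv_inv] using this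
theorem la_nrt {p q e f t z x : G} (M : MK [p, q, e, f, t, z, x, x⁻¹] la_k la_E [[]]) {g : G} (hg : g ∈ cl [p, q, e, f, t, z, x, x⁻¹]) (h0 : g * p * q * z = q * t * p * g) :
    False := by
  have := M.sol (k := 8) rfl [([8, 0, 1, 5], [1, 4, 0, 8])] [] (by decide +kernel) hg (by
    simp only [Sat, List.forall_mem_cons, List.not_mem_nil, IsEmpty.forall_iff, implies_true, and_true, ev_cons, ev_nil, List.cons_append, List.nil_append, List.getD_cons_succ, List.getD_cons_zero, mul_one]
    exact by simpa only [pow_succ, pow_zero, one_mul, mul_one, mul_assoc, mul_inv_rev, inv_inv] using h0)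
  simpa only [List.mem_cons, List.not_mem_nil, or_false, false_and, exists_false, exists_eq_or_imp, exists_eq_left, ev_cons, ev_nil, List.cons_append, List.nil_append, List.getD_cons_succ, List.getD_cons_zero, mul_one, pow_succ, pow_zero, one_mul, mul_one, mul_assoc, mul_inv_rev, inv_inv] using this
theorem la_sE {p q e f t z x : G} (M : MK [p, q, e, f, t, z, x, x⁻¹] la_k la_E [[]]) {g : G} (hg : g ∈ cl [p, q, e, f, t, z, x, x⁻¹])  :
    (g * p = p * g) ∨ (g * p = p * z * g) ∨ (g * p = e * g) ∨ (g * p = e * z * g) ∨ (g * p = e * p * g) ∨ (g * p = e * p * z * g) := by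
  have := M.imp (k := 8) rfl [] [[([8, 0], [0, 8])], [([8, 0], [0, 5, 8])], [([8, 0], [2, 8])], [([8, 0], [2, 5, 8])], [([8, 0], [2, 0, 8])], [([8, 0], [2, 0, 5, 8])]] (by decide +kernel) hg (fun _ h => by cases h)
  simpa only [List.mem_cons, List.not_mem_nil, or_false, false_and, exists_false, exists_eq_or_imp, exists_eq_left, Sat, List.forall_mem_cons, forall_eq_or_imp, forall_eq, IsEmpty.forall_iff, implies_true, and_true, ev_cons, ev_nil, List.cons_append, List.nil_append, List.getD_cons_succ, List.getD_cons_zero, mul_one, pow_succ, pow_zero, one_mul, mul_one, mul_assoc, mul_inv_rev, inv_inv] using this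
theorem la_eZ {p q e f t z x : G} (M : MK [p, q, e, f, t, z, x, x⁻¹] la_k la_E [[]]) {g : G} (hg : g ∈ cl [p, q, e, f, t, z, x, x⁻¹]) (h0 : g * p = p * g) (h1 : g * e = e * g) :
    ∃ c ∈ cl [p, q, e, f, t, z, x, x⁻¹], (g = 1 ∨ g = c * z * c⁻¹ ∨ g = c * p * c⁻¹) := by
  have := M.cj (k := 8) rfl [([8, 0], [0, 8]), ([8, 2], [2, 8])] [] [[], [5], [0]] [([], [], 0), ([], [], 2), ([6], [7], 2), ([], [], 1), ([7], [6], 2), ([3], [3], 2), ([6, 3], [3, 7], 2), ([7, 3], [6, 1], 2)] (by decide +kernel) hg (by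
    simp only [Sat, List.forall_mem_cons, List.not_mem_nil, IsEmpty.forall_iff, implies_true, and_true, ev_cons, ev_nil, List.cons_append, List.nil_append, List.getD_cons_succ, List.getD_cons_zero, mul_one]
    exact ⟨by simpa only [pow_succ, pow_zero, one_mul, mul_one, mul_assoc, mul_inv_rev, inv_inv] using h0, by simpa only [pow_succ, pow_zero, one_mul, mul_one, mul_assoc, mul_inv_rev, inv_inv] using h1⟩)
  simpa only [List.mem_cons, List.not_mem_nil, or_false, false_and, exists_false, exists_eq_or_imp, exists_eq_left, Sat, List.forall_mem_cons, forall_eq_or_imp, forall_eq, IsEmpty.forall_iff, implies_true, and_true, true_and, and_assoc, mul_inv_cancel, ev_cons, ev_nil, List.cons_append, List.nil_append, List.getD_cons_succ, List.getD_cons_zero, mul_one, pow_succ, pow_zero, one_mul, mul_one, mul_assoc, mul_inv_rev, inv_inv] using this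
theorem la_c4s {p q e f t z x : G} (M : MK [p, q, e, f, t, z, x, x⁻¹] la_k la_E [[]]) {g : G} (hg : g ∈ cl [p, q, e, f, t, z, x, x⁻¹]) (h0 : g * p = p * g) (h1 : g * e = e * g) (h2 : g * x * t = x * t * g) :
    g = 1 ∨ g = z ∨ g = p * e ∨ g = e * p * z := by
  have := M.sol (k := 8) rfl [([8, 0], [0, 8]), ([8, 2], [2, 8]), ([8, 6, 4], [6, 4, 8])] [[], [5], [0, 2], [2, 0, 5]] (by decide +kernel) hg (by
    simp only [Sat, List.forall_mem_cons, List.not_mem_nil, IsEmpty.forall_iff, implies_true, and_true, ev_cons, ev_nil, List.cons_append, List.nil_append, List.getD_cons_succ, List.getD_cons_zero, mul_one]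
    exact ⟨by simpa only [pow_succ, pow_zero, one_mul, mul_one, mul_assoc, mul_inv_rev, inv_inv] using h0, by simpa only [pow_succ, pow_zero, one_mul, mul_one, mul_assoc, mul_inv_rev, inv_inv] using h1, by simpa only [pow_succ, pow_zero, one_mul, mul_one, mul_assoc, mul_inv_rev, inv_inv] using h2⟩)
  simpa only [List.mem_cons, List.not_mem_nil, or_false, false_and, exists_false, exists_eq_or_imp, exists_eq_left, ev_cons, ev_nil, List.cons_append, List.nil_append, List.getD_cons_succ, List.getD_cons_zero, mul_one, pow_succ, pow_zero, one_mul, mul_one, mul_assoc, mul_inv_rev, inv_inv] using this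
theorem la_a2 {p q e f t z x : G} (M : MK [p, q, e, f, t, z, x, x⁻¹] la_k la_E [[]]) {g : G} (hg : g ∈ cl [p, q, e, f, t, z, x, x⁻¹]) (h0 : g * p = p * g) (h1 : g * q = q * g) (h2 : g * t = t * g) :
    (g * g = 1) := by
  have := M.imp (k := 8) rfl [([8, 0], [0, 8]), ([8, 1], [1, 8]), ([8, 4], [4, 8])] [[([8, 8], [])]] (by decide +kernel) hg (by
    simp only [Sat, List.forall_mem_cons, List.not_mem_nil, IsEmpty.forall_iff, implies_true, and_true, ev_cons, ev_nil, List.cons_append, List.nil_append, List.getD_cons_succ, List.getD_cons_zero, mul_one]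
    exact ⟨by simpa only [pow_succ, pow_zero, one_mul, mul_one, mul_assoc, mul_inv_rev, inv_inv] using h0, by simpa only [pow_succ, pow_zero, one_mul, mul_one, mul_assoc, mul_inv_rev, inv_inv] using h1, by simpa only [pow_succ, pow_zero, one_mul, mul_one, mul_assoc, mul_inv_rev, inv_inv] using h2⟩)
  simpa only [List.mem_cons, List.not_mem_nil, or_false, false_and, exists_false, exists_eq_or_imp, exists_eq_left, Sat, List.forall_mem_cons, forall_eq_or_imp, forall_eq, IsEmpty.forall_iff, implies_true, and_true, ev_cons, ev_nil, List.cons_append, List.nil_append, List.getD_cons_succ, List.getD_cons_zero, mul_one, pow_succ, pow_zero, one_mul, mul_one, mul_assoc, mul_inv_rev, inv_inv] using this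
theorem la_a16 {p q e f t z x : G} (M : MK [p, q, e, f, t, z, x, x⁻¹] la_k la_E [[]]) {g : G} (hg : g ∈ cl [p, q, e, f, t, z, x, x⁻¹]) (h0 : g * p = p * g) (h1 : g * q = q * g) (h2 : g * t = t * g) :
    g = 1 ∨ g = t ∨ g = q ∨ g = q * t ∨ g = p ∨ g = p * t ∨ g = p * q ∨ g = p * q * t ∨ g = z ∨ g = z * t ∨ g = z * q ∨ g = z * q * t ∨ g = z * p ∨ g = z * p * t ∨ g = z * p * q ∨ g = z * p * q * t := by
  have := M.sol (k := 8) rfl [([8, 0], [0, 8]), ([8, 1], [1, 8]), ([8, 4], [4, 8])] [[], [4], [1], [1, 4], [0], [0, 4], [0, 1], [0, 1, 4], [5], [5, 4], [5, 1], [5, 1, 4], [5, 0], [5, 0, 4], [5, 0, 1], [5, 0, 1, 4]] (by decide +kernel) hg (by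
    simp only [Sat, List.forall_mem_cons, List.not_mem_nil, IsEmpty.forall_iff, implies_true, and_true, ev_cons, ev_nil, List.cons_append, List.nil_append, List.getD_cons_succ, List.getD_cons_zero, mul_one]
    exact ⟨by simpa only [pow_succ, pow_zero, one_mul, mul_one, mul_assoc, mul_inv_rev, inv_inv] using h0, by simpa only [pow_succ, pow_zero, one_mul, mul_one, mul_assoc, mul_inv_rev, inv_inv] using h1, by simpa only [pow_succ, pow_zero, one_mul, mul_one, mul_assoc, mul_inv_rev, inv_inv] using h2⟩)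
  simpa only [List.mem_cons, List.not_mem_nil, or_false, false_and, exists_false, exists_eq_or_imp, exists_eq_left, ev_cons, ev_nil, List.cons_append, List.nil_append, List.getD_cons_succ, List.getD_cons_zero, mul_one, pow_succ, pow_zero, one_mul, mul_one, mul_assoc, mul_inv_rev, inv_inv] using this
theorem la_kt {p q e f t z x : G} (M : MK [p, q, e, f, t, z, x, x⁻¹] la_k la_E [[]]) : f * t * f ≠ q := by
  simpa only [ev_cons, ev_nil, List.cons_append, List.nil_append, List.getD_cons_succ, List.getD_cons_zero, mul_one, pow_succ, pow_zero, one_mul, mul_one, mul_assoc, mul_inv_rev, inv_inv] using M.ne' (k := 8) rfl [3, 4, 3] [1] (by decide +kernel)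
theorem la_kq {p q e f t z x : G} (M : MK [p, q, e, f, t, z, x, x⁻¹] la_k la_E [[]]) : f * q * f ≠ q * t := by
  simpa only [ev_cons, ev_nil, List.cons_append, List.nil_append, List.getD_cons_succ, List.getD_cons_zero, mul_one, pow_succ, pow_zero, one_mul, mul_one, mul_assoc, mul_inv_rev, inv_inv] using M.ne' (k := 8) rfl [3, 1, 3] [1, 4] (by decide +kernel)
theorem la_kqt {p q e f t z x : G} (M : MK [p, q, e, f, t, z, x, x⁻¹] la_k la_E [[]]) : e * q * t * e ≠ z * p := by
  simpa only [ev_cons, ev_nil, List.cons_append, List.nil_append, List.getD_cons_succ, List.getD_cons_zero, mul_one, pow_succ, pow_zero, one_mul, mul_one, mul_assoc, mul_inv_rev, inv_inv] using M.ne' (k := 8) rfl [2, 1, 4, 2] [5, 0] (by decide +kernel)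
theorem la_kp {p q e f t z x : G} (M : MK [p, q, e, f, t, z, x, x⁻¹] la_k la_E [[]]) : f * p * f ≠ z := by
  simpa only [ev_cons, ev_nil, List.cons_append, List.nil_append, List.getD_cons_succ, List.getD_cons_zero, mul_one, pow_succ, pow_zero, one_mul, mul_one, mul_assoc, mul_inv_rev, inv_inv] using M.ne' (k := 8) rfl [3, 0, 3] [5] (by decide +kernel)
theorem la_kpt {p q e f t z x : G} (M : MK [p, q, e, f, t, z, x, x⁻¹] la_k la_E [[]]) : f * p * t * f ≠ z * q := by
  simpa only [ev_cons, ev_nil, List.cons_append, List.nil_append, List.getD_cons_succ, List.getD_cons_zero, mul_one, pow_succ, pow_zero, one_mul, mul_one, mul_assoc, mul_inv_rev, inv_inv] using M.ne' (k := 8) rfl [3, 0, 4, 3] [5, 1] (by decide +kernel)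
theorem la_kpq {p q e f t z x : G} (M : MK [p, q, e, f, t, z, x, x⁻¹] la_k la_E [[]]) : f * p * q * f ≠ z * q * t := by
  simpa only [ev_cons, ev_nil, List.cons_append, List.nil_append, List.getD_cons_succ, List.getD_cons_zero, mul_one, pow_succ, pow_zero, one_mul, mul_one, mul_assoc, mul_inv_rev, inv_inv] using M.ne' (k := 8) rfl [3, 0, 1, 3] [5, 1, 4] (by decide +kernel)
theorem la_kpqt {p q e f t z x : G} (M : MK [p, q, e, f, t, z, x, x⁻¹] la_k la_E [[]]) : f * p * q * t * f ≠ z * q * t * q := by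
  simpa only [ev_cons, ev_nil, List.cons_append, List.nil_append, List.getD_cons_succ, List.getD_cons_zero, mul_one, pow_succ, pow_zero, one_mul, mul_one, mul_assoc, mul_inv_rev, inv_inv] using M.ne' (k := 8) rfl [3, 0, 1, 4, 3] [5, 1, 4, 1] (by decide +kernel)
theorem la_kz {p q e f t z x : G} (M : MK [p, q, e, f, t, z, x, x⁻¹] la_k la_E [[]]) : f * z * f ≠ p * z := by
  simpa only [ev_cons, ev_nil, List.cons_append, List.nil_append, List.getD_cons_succ, List.getD_cons_zero, mul_one, pow_succ, pow_zero, one_mul, mul_one, mul_assoc, mul_inv_rev, inv_inv] using M.ne' (k := 8) rfl [3, 5, 3] [0, 5] (by decide +kernel)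
theorem la_kzt {p q e f t z x : G} (M : MK [p, q, e, f, t, z, x, x⁻¹] la_k la_E [[]]) : f * z * t * f ≠ p * z * q := by
  simpa only [ev_cons, ev_nil, List.cons_append, List.nil_append, List.getD_cons_succ, List.getD_cons_zero, mul_one, pow_succ, pow_zero, one_mul, mul_one, mul_assoc, mul_inv_rev, inv_inv] using M.ne' (k := 8) rfl [3, 5, 4, 3] [0, 5, 1] (by decide +kernel)
theorem la_kzq {p q e f t z x : G} (M : MK [p, q, e, f, t, z, x, x⁻¹] la_k la_E [[]]) : f * z * q * f ≠ p * z * q * t := by
  simpa only [ev_cons, ev_nil, List.cons_append, List.nil_append, List.getD_cons_succ, List.getD_cons_zero, mul_one, pow_succ, pow_zero, one_mul, mul_one, mul_assoc, mul_inv_rev, inv_inv] using M.ne' (k := 8) rfl [3, 5, 1, 3] [0, 5, 1, 4] (by decide +kernel)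
theorem la_kzqt {p q e f t z x : G} (M : MK [p, q, e, f, t, z, x, x⁻¹] la_k la_E [[]]) : f * z * q * t * f ≠ p * z * q * t * q := by
  simpa only [ev_cons, ev_nil, List.cons_append, List.nil_append, List.getD_cons_succ, List.getD_cons_zero, mul_one, pow_succ, pow_zero, one_mul, mul_one, mul_assoc, mul_inv_rev, inv_inv] using M.ne' (k := 8) rfl [3, 5, 1, 4, 3] [0, 5, 1, 4, 1] (by decide +kernel)
theorem la_kzp {p q e f t z x : G} (M : MK [p, q, e, f, t, z, x, x⁻¹] la_k la_E [[]]) : e * z * p * e ≠ q * z * p * t := by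
  simpa only [ev_cons, ev_nil, List.cons_append, List.nil_append, List.getD_cons_succ, List.getD_cons_zero, mul_one, pow_succ, pow_zero, one_mul, mul_one, mul_assoc, mul_inv_rev, inv_inv] using M.ne' (k := 8) rfl [2, 5, 0, 2] [1, 5, 0, 4] (by decide +kernel)
theorem la_kzpt {p q e f t z x : G} (M : MK [p, q, e, f, t, z, x, x⁻¹] la_k la_E [[]]) : f * z * p * t * f ≠ p * z * z * q := by
  simpa only [ev_cons, ev_nil, List.cons_append, List.nil_append, List.getD_cons_succ, List.getD_cons_zero, mul_one, pow_succ, pow_zero, one_mul, mul_one, mul_assoc, mul_inv_rev, inv_inv] using M.ne' (k := 8) rfl [3, 5, 0, 4, 3] [0, 5, 5, 1] (by decide +kernel)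
theorem la_kzpq {p q e f t z x : G} (M : MK [p, q, e, f, t, z, x, x⁻¹] la_k la_E [[]]) : f * z * p * q * f ≠ p * z * z * q * t := by
  simpa only [ev_cons, ev_nil, List.cons_append, List.nil_append, List.getD_cons_succ, List.getD_cons_zero, mul_one, pow_succ, pow_zero, one_mul, mul_one, mul_assoc, mul_inv_rev, inv_inv] using M.ne' (k := 8) rfl [3, 5, 0, 1, 3] [0, 5, 5, 1, 4] (by decide +kernel)
theorem la_T4 {p q e f t z x : G} (M : MK [p, q, e, f, t, z, x, x⁻¹] la_k la_E [[]]) {g : G} (hg : g ∈ cl [p, q, e, f, t, z, x, x⁻¹]) (h0 : g * p * q * z = p * q * z * g) :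
    (g * g * g * g = 1) := by
  have := M.imp (k := 8) rfl [([8, 0, 1, 5], [0, 1, 5, 8])] [[([8, 8, 8, 8], [])]] (by decide +kernel) hg (by
    simp only [Sat, List.forall_mem_cons, List.not_mem_nil, IsEmpty.forall_iff, implies_true, and_true, ev_cons, ev_nil, List.cons_append, List.nil_append, List.getD_cons_succ, List.getD_cons_zero, mul_one]
    exact by simpa only [pow_succ, pow_zero, one_mul, mul_one, mul_assoc, mul_inv_rev, inv_inv] using h0)
  simpa only [List.mem_cons, List.not_mem_nil, or_false, false_and, exists_false, exists_eq_or_imp, exists_eq_left, Sat, List.forall_mem_cons, forall_eq_or_imp, forall_eq, IsEmpty.forall_iff, implies_true, and_true, ev_cons, ev_nil, List.cons_append, List.nil_append, List.getD_cons_succ, List.getD_cons_zero, mul_one, pow_succ, pow_zero, one_mul, mul_one, mul_assoc, mul_inv_rev, inv_inv] using this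
theorem la_Ta {p q e f t z x : G} (M : MK [p, q, e, f, t, z, x, x⁻¹] la_k la_E [[]]) {g : G} (hg : g ∈ cl [p, q, e, f, t, z, x, x⁻¹]) (h0 : g * p * q * z = p * q * z * g) :
    (g * p * q * t = p * q * t * g) ∨ (g * p * q * t = p * q * t * p * q * z * g) := by
  have := M.imp (k := 8) rfl [([8, 0, 1, 5], [0, 1, 5, 8])] [[([8, 0, 1, 4], [0, 1, 4, 8])], [([8, 0, 1, 4], [0, 1, 4, 0, 1, 5, 8])]] (by decide +kernel) hg (by
    simp only [Sat, List.forall_mem_cons, List.not_mem_nil, IsEmpty.forall_iff, implies_true, and_true, ev_cons, ev_nil, List.cons_append, List.nil_append, List.getD_cons_succ, List.getD_cons_zero, mul_one]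
    exact by simpa only [pow_succ, pow_zero, one_mul, mul_one, mul_assoc, mul_inv_rev, inv_inv] using h0)
  simpa only [List.mem_cons, List.not_mem_nil, or_false, false_and, exists_false, exists_eq_or_imp, exists_eq_left, Sat, List.forall_mem_cons, forall_eq_or_imp, forall_eq, IsEmpty.forall_iff, implies_true, and_true, ev_cons, ev_nil, List.cons_append, List.nil_append, List.getD_cons_succ, List.getD_cons_zero, mul_one, pow_succ, pow_zero, one_mul, mul_one, mul_assoc, mul_inv_rev, inv_inv] using this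
theorem la_T16 {p q e f t z x : G} (M : MK [p, q, e, f, t, z, x, x⁻¹] la_k la_E [[]]) {g : G} (hg : g ∈ cl [p, q, e, f, t, z, x, x⁻¹]) (h0 : g * p * q * z = p * q * z * g) (h1 : g * p * q * t = p * q * t * g) :
    g = 1 ∨ g = p * q ∨ g = q * t * z ∨ g = q * t * z * p * q ∨ g = p * q * z ∨ g = p * q * z * p * q ∨ g = p * q * z * q * t * z ∨ g = p * q * z * q * t * z * p * q ∨ g = p * q * t ∨ g = p * q * t * p * q ∨ g = p * q * t * q * t * z ∨ g = p * q * t * q * t * z * p * q ∨ g = p * q * t * p * q * z ∨ g = p * q * t * p * q * z * p * q ∨ g = p * q * t * p * q * z * q * t * z ∨ g = p * q * t * p * q * z * q * t * z * p * q := by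
  have := M.sol (k := 8) rfl [([8, 0, 1, 5], [0, 1, 5, 8]), ([8, 0, 1, 4], [0, 1, 4, 8])] [[], [0, 1], [1, 4, 5], [1, 4, 5, 0, 1], [0, 1, 5], [0, 1, 5, 0, 1], [0, 1, 5, 1, 4, 5], [0, 1, 5, 1, 4, 5, 0, 1], [0, 1, 4], [0, 1, 4, 0, 1], [0, 1, 4, 1, 4, 5], [0, 1, 4, 1, 4, 5, 0, 1], [0, 1, 4, 0, 1, 5], [0, 1, 4, 0, 1, 5, 0, 1], [0, 1, 4, 0, 1, 5, 1, 4, 5], [0, 1, 4, 0, 1, 5, 1, 4, 5, 0, 1]] (by decide +kernel) hg (by
    simp only [Sat, List.forall_mem_cons, List.not_mem_nil, IsEmpty.forall_iff, implies_true, and_true, ev_cons, ev_nil, List.cons_append, List.nil_append, List.getD_cons_succ, List.getD_cons_zero, mul_one]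
    exact ⟨by simpa only [pow_succ, pow_zero, one_mul, mul_one, mul_assoc, mul_inv_rev, inv_inv] using h0, by simpa only [pow_succ, pow_zero, one_mul, mul_one, mul_assoc, mul_inv_rev, inv_inv] using h1⟩)
  simpa only [List.mem_cons, List.not_mem_nil, or_false, false_and, exists_false, exists_eq_or_imp, exists_eq_left, ev_cons, ev_nil, List.cons_append, List.nil_append, List.getD_cons_succ, List.getD_cons_zero, mul_one, pow_succ, pow_zero, one_mul, mul_one, mul_assoc, mul_inv_rev, inv_inv] using this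
theorem la_To {p q e f t z x : G} (M : MK [p, q, e, f, t, z, x, x⁻¹] la_k la_E [[]]) {g : G} (hg : g ∈ cl [p, q, e, f, t, z, x, x⁻¹]) (h0 : g * g = 1) (h1 : g * p * q * z = p * q * z * g) (h2 : g * p * q * t = p * q * t * p * q * z * g) :
    ∃ c ∈ cl [p, q, e, f, t, z, x, x⁻¹], (g = c * (p * q * z) * c⁻¹) := by
  have := M.cj (k := 8) rfl [([8, 8], []), ([8, 0, 1, 5], [0, 1, 5, 8]), ([8, 0, 1, 4], [0, 1, 4, 0, 1, 5, 8])] [] [[0, 1, 5]] [([6, 2], [2, 7], 0), ([6], [7], 0), ([7], [6], 0), ([7, 2], [6, 0], 0)] (by decide +kernel) hg (by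
    simp only [Sat, List.forall_mem_cons, List.not_mem_nil, IsEmpty.forall_iff, implies_true, and_true, ev_cons, ev_nil, List.cons_append, List.nil_append, List.getD_cons_succ, List.getD_cons_zero, mul_one]
    exact ⟨by simpa only [pow_succ, pow_zero, one_mul, mul_one, mul_assoc, mul_inv_rev, inv_inv] using h0, by simpa only [pow_succ, pow_zero, one_mul, mul_one, mul_assoc, mul_inv_rev, inv_inv] using h1, by simpa only [pow_succ, pow_zero, one_mul, mul_one, mul_assoc, mul_inv_rev, inv_inv] using h2⟩)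
  simpa only [List.mem_cons, List.not_mem_nil, or_false, false_and, exists_false, exists_eq_or_imp, exists_eq_left, Sat, List.forall_mem_cons, forall_eq_or_imp, forall_eq, IsEmpty.forall_iff, implies_true, and_true, true_and, and_assoc, mul_inv_cancel, ev_cons, ev_nil, List.cons_append, List.nil_append, List.getD_cons_succ, List.getD_cons_zero, mul_one, pow_succ, pow_zero, one_mul, mul_one, mul_assoc, mul_inv_rev, inv_inv] using this
theorem la_Tz {p q e f t z x : G} (M : MK [p, q, e, f, t, z, x, x⁻¹] la_k la_E [[]]) {g : G} (hg : g ∈ cl [p, q, e, f, t, z, x, x⁻¹]) (h0 : g * p * q * z = p * q * z * g) (h1 : g * p * q * t = p * q * t * g) (h2 : g * e * f = e * f * g) :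
    g = 1 ∨ g = z ∨ g = p * q * z ∨ g = p * q := by
  have := M.sol (k := 8) rfl [([8, 0, 1, 5], [0, 1, 5, 8]), ([8, 0, 1, 4], [0, 1, 4, 8]), ([8, 2, 3], [2, 3, 8])] [[], [5], [0, 1, 5], [0, 1]] (by decide +kernel) hg (by
    simp only [Sat, List.forall_mem_cons, List.not_mem_nil, IsEmpty.forall_iff, implies_true, and_true, ev_cons, ev_nil, List.cons_append, List.nil_append, List.getD_cons_succ, List.getD_cons_zero, mul_one]
    exact ⟨by simpa only [pow_succ, pow_zero, one_mul, mul_one, mul_assoc, mul_inv_rev, inv_inv] using h0, by simpa only [pow_succ, pow_zero, one_mul, mul_one, mul_assoc, mul_inv_rev, inv_inv] using h1, by simpa only [pow_succ, pow_zero, one_mul, mul_one, mul_assoc, mul_inv_rev, inv_inv] using h2⟩)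
  simpa only [List.mem_cons, List.not_mem_nil, or_false, false_and, exists_false, exists_eq_or_imp, exists_eq_left, ev_cons, ev_nil, List.cons_append, List.nil_append, List.getD_cons_succ, List.getD_cons_zero, mul_one, pow_succ, pow_zero, one_mul, mul_one, mul_assoc, mul_inv_rev, inv_inv] using this
theorem a8_c3 {G : Type u} [Group G] {p q e f t z x y w : G} (r : Rels [p, q, e, f, t, z, x, x⁻¹, y, y⁻¹, w, w⁻¹] a8_R) : y * w⁻¹ * y * w⁻¹ * y * w⁻¹ = 1 := by
  simpa only [ev_cons, ev_nil, List.cons_append, List.nil_append, List.getD_cons_succ, List.getD_cons_zero, mul_one, pow_succ, pow_zero, one_mul, mul_one, mul_assoc, mul_inv_rev, inv_inv] using ueq a8_univ a8_val (xs := [p, q, e, f, t, z, x, x⁻¹, y, y⁻¹, w, w⁻¹]) rfl r 3 [8, 11, 8, 11, 8, 11] [] (by decide +kernel)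
theorem a8_cb1 {G : Type u} [Group G] {p q e f t z x y w : G} (r : Rels [p, q, e, f, t, z, x, x⁻¹, y, y⁻¹, w, w⁻¹] a8_R) : y * w⁻¹ * p * q * w * y⁻¹ = q * t * z := by
  simpa only [ev_cons, ev_nil, List.cons_append, List.nil_append, List.getD_cons_succ, List.getD_cons_zero, mul_one, pow_succ, pow_zero, one_mul, mul_one, mul_assoc, mul_inv_rev, inv_inv] using ueq a8_univ a8_val (xs := [p, q, e, f, t, z, x, x⁻¹, y, y⁻¹, w, w⁻¹]) rfl r 3 [8, 11, 0, 1, 10, 9] [1, 4, 5] (by decide +kernel)
theorem a8_cs {G : Type u} [Group G] {p q e f t z x y w : G} (r : Rels [p, q, e, f, t, z, x, x⁻¹, y, y⁻¹, w, w⁻¹] a8_R) : y * w⁻¹ * q * t * z * w * y⁻¹ = q * t * z * p * q := by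
  simpa only [ev_cons, ev_nil, List.cons_append, List.nil_append, List.getD_cons_succ, List.getD_cons_zero, mul_one, pow_succ, pow_zero, one_mul, mul_one, mul_assoc, mul_inv_rev, inv_inv] using ueq a8_univ a8_val (xs := [p, q, e, f, t, z, x, x⁻¹, y, y⁻¹, w, w⁻¹]) rfl r 3 [8, 11, 1, 4, 5, 10, 9] [1, 4, 5, 0, 1] (by decide +kernel)
theorem a8_cb {G : Type u} [Group G] {p q e f t z x y w : G} (r : Rels [p, q, e, f, t, z, x, x⁻¹, y, y⁻¹, w, w⁻¹] a8_R) : y * w⁻¹ * p * q * z = p * q * z * y * w⁻¹ := by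
  simpa only [ev_cons, ev_nil, List.cons_append, List.nil_append, List.getD_cons_succ, List.getD_cons_zero, mul_one, pow_succ, pow_zero, one_mul, mul_one, mul_assoc, mul_inv_rev, inv_inv] using ueq a8_univ a8_val (xs := [p, q, e, f, t, z, x, x⁻¹, y, y⁻¹, w, w⁻¹]) rfl r 3 [8, 11, 0, 1, 5] [0, 1, 5, 8, 11] (by decide +kernel)
theorem a8_ca {G : Type u} [Group G] {p q e f t z x y w : G} (r : Rels [p, q, e, f, t, z, x, x⁻¹, y, y⁻¹, w, w⁻¹] a8_R) : y * w⁻¹ * p * q * t = p * q * t * y * w⁻¹ := by
  simpa only [ev_cons, ev_nil, List.cons_append, List.nil_append, List.getD_cons_succ, List.getD_cons_zero, mul_one, pow_succ, pow_zero, one_mul, mul_one, mul_assoc, mul_inv_rev, inv_inv] using ueq a8_univ a8_val (xs := [p, q, e, f, t, z, x, x⁻¹, y, y⁻¹, w, w⁻¹]) rfl r 3 [8, 11, 0, 1, 4] [0, 1, 4, 8, 11] (by decide +kernel)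
theorem a8_d3 {G : Type u} [Group G] {p q e f t z x y w : G} (r : Rels [p, q, e, f, t, z, x, x⁻¹, y, y⁻¹, w, w⁻¹] a8_R) : y * w * y * w * y * w = 1 := by
  simpa only [ev_cons, ev_nil, List.cons_append, List.nil_append, List.getD_cons_succ, List.getD_cons_zero, mul_one, pow_succ, pow_zero, one_mul, mul_one, mul_assoc, mul_inv_rev, inv_inv] using ueq a8_univ a8_val (xs := [p, q, e, f, t, z, x, x⁻¹, y, y⁻¹, w, w⁻¹]) rfl r 3 [8, 10, 8, 10, 8, 10] [] (by decide +kernel)
theorem a8_db {G : Type u} [Group G] {p q e f t z x y w : G} (r : Rels [p, q, e, f, t, z, x, x⁻¹, y, y⁻¹, w, w⁻¹] a8_R) : y * w * p * q * z * w⁻¹ * y⁻¹ = p * q * t := by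
  simpa only [ev_cons, ev_nil, List.cons_append, List.nil_append, List.getD_cons_succ, List.getD_cons_zero, mul_one, pow_succ, pow_zero, one_mul, mul_one, mul_assoc, mul_inv_rev, inv_inv] using ueq a8_univ a8_val (xs := [p, q, e, f, t, z, x, x⁻¹, y, y⁻¹, w, w⁻¹]) rfl r 3 [8, 10, 0, 1, 5, 11, 9] [0, 1, 4] (by decide +kernel)
theorem a8_da {G : Type u} [Group G] {p q e f t z x y w : G} (r : Rels [p, q, e, f, t, z, x, x⁻¹, y, y⁻¹, w, w⁻¹] a8_R) : y * w * p * q * t * w⁻¹ * y⁻¹ = p * q * t * p * q * z := by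
  simpa only [ev_cons, ev_nil, List.cons_append, List.nil_append, List.getD_cons_succ, List.getD_cons_zero, mul_one, pow_succ, pow_zero, one_mul, mul_one, mul_assoc, mul_inv_rev, inv_inv] using ueq a8_univ a8_val (xs := [p, q, e, f, t, z, x, x⁻¹, y, y⁻¹, w, w⁻¹]) rfl r 3 [8, 10, 0, 1, 4, 11, 9] [0, 1, 4, 0, 1, 5] (by decide +kernel)
theorem a8_db1 {G : Type u} [Group G] {p q e f t z x y w : G} (r : Rels [p, q, e, f, t, z, x, x⁻¹, y, y⁻¹, w, w⁻¹] a8_R) : y * w * p * q = p * q * y * w := by
  simpa only [ev_cons, ev_nil, List.cons_append, List.nil_append, List.getD_cons_succ, List.getD_cons_zero, mul_one, pow_succ, pow_zero, one_mul, mul_one, mul_assoc, mul_inv_rev, inv_inv] using ueq a8_univ a8_val (xs := [p, q, e, f, t, z, x, x⁻¹, y, y⁻¹, w, w⁻¹]) rfl r 3 [8, 10, 0, 1] [0, 1, 8, 10] (by decide +kernel)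
theorem a8_ds {G : Type u} [Group G] {p q e f t z x y w : G} (r : Rels [p, q, e, f, t, z, x, x⁻¹, y, y⁻¹, w, w⁻¹] a8_R) : y * w * q * t * z = q * t * z * y * w := by
  simpa only [ev_cons, ev_nil, List.cons_append, List.nil_append, List.getD_cons_succ, List.getD_cons_zero, mul_one, pow_succ, pow_zero, one_mul, mul_one, mul_assoc, mul_inv_rev, inv_inv] using ueq a8_univ a8_val (xs := [p, q, e, f, t, z, x, x⁻¹, y, y⁻¹, w, w⁻¹]) rfl r 3 [8, 10, 1, 4, 5] [1, 4, 5, 8, 10] (by decide +kernel)
theorem a8_rc {G : Type u} [Group G] {p q e f t z x y w : G} (r : Rels [p, q, e, f, t, z, x, x⁻¹, y, y⁻¹, w, w⁻¹] a8_R) : e * f * y * w⁻¹ * e * f * y * w⁻¹ = 1 := by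
  simpa only [ev_cons, ev_nil, List.cons_append, List.nil_append, List.getD_cons_succ, List.getD_cons_zero, mul_one, pow_succ, pow_zero, one_mul, mul_one, mul_assoc, mul_inv_rev, inv_inv] using ueq a8_univ a8_val (xs := [p, q, e, f, t, z, x, x⁻¹, y, y⁻¹, w, w⁻¹]) rfl r 3 [2, 3, 8, 11, 2, 3, 8, 11] [] (by decide +kernel)
theorem a8_yr {G : Type u} [Group G] {p q e f t z x y w : G} (r : Rels [p, q, e, f, t, z, x, x⁻¹, y, y⁻¹, w, w⁻¹] a8_R) : y * p * q * z * y⁻¹ = t * z := by
  simpa only [ev_cons, ev_nil, List.cons_append, List.nil_append, List.getD_cons_succ, List.getD_cons_zero, mul_one, pow_succ, pow_zero, one_mul, mul_one, mul_assoc, mul_inv_rev, inv_inv] using ueq a8_univ a8_val (xs := [p, q, e, f, t, z, x, x⁻¹, y, y⁻¹, w, w⁻¹]) rfl r 3 [8, 0, 1, 5, 9] [4, 5] (by decide +kernel)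
theorem a8_ss {G : Type u} [Group G] {p q e f t z x y w : G} (r : Rels [p, q, e, f, t, z, x, x⁻¹, y, y⁻¹, w, w⁻¹] a8_R) : q * t * z * q * t * z = 1 := by
  simpa only [ev_cons, ev_nil, List.cons_append, List.nil_append, List.getD_cons_succ, List.getD_cons_zero, mul_one, pow_succ, pow_zero, one_mul, mul_one, mul_assoc, mul_inv_rev, inv_inv] using ueq a8_univ a8_val (xs := [p, q, e, f, t, z, x, x⁻¹, y, y⁻¹, w, w⁻¹]) rfl r 3 [1, 4, 5, 1, 4, 5] [] (by decide +kernel)
theorem a8_b1b1 {G : Type u} [Group G] {p q e f t z x y w : G} (r : Rels [p, q, e, f, t, z, x, x⁻¹, y, y⁻¹, w, w⁻¹] a8_R) : p * q * p * q = 1 := by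
  simpa only [ev_cons, ev_nil, List.cons_append, List.nil_append, List.getD_cons_succ, List.getD_cons_zero, mul_one, pow_succ, pow_zero, one_mul, mul_one, mul_assoc, mul_inv_rev, inv_inv] using ueq a8_univ a8_val (xs := [p, q, e, f, t, z, x, x⁻¹, y, y⁻¹, w, w⁻¹]) rfl r 3 [0, 1, 0, 1] [] (by decide +kernel)
theorem a8_sb1 {G : Type u} [Group G] {p q e f t z x y w : G} (r : Rels [p, q, e, f, t, z, x, x⁻¹, y, y⁻¹, w, w⁻¹] a8_R) : q * t * z * p * q = p * q * q * t * z := by
  simpa only [ev_cons, ev_nil, List.cons_append, List.nil_append, List.getD_cons_succ, List.getD_cons_zero, mul_one, pow_succ, pow_zero, one_mul, mul_one, mul_assoc, mul_inv_rev, inv_inv] using ueq a8_univ a8_val (xs := [p, q, e, f, t, z, x, x⁻¹, y, y⁻¹, w, w⁻¹]) rfl r 3 [1, 4, 5, 0, 1] [0, 1, 1, 4, 5] (by decide +kernel)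
theorem a8_b1a {G : Type u} [Group G] {p q e f t z x y w : G} (r : Rels [p, q, e, f, t, z, x, x⁻¹, y, y⁻¹, w, w⁻¹] a8_R) : p * q * p * q * t = p * q * t * p * q := by
  simpa only [ev_cons, ev_nil, List.cons_append, List.nil_append, List.getD_cons_succ, List.getD_cons_zero, mul_one, pow_succ, pow_zero, one_mul, mul_one, mul_assoc, mul_inv_rev, inv_inv] using ueq a8_univ a8_val (xs := [p, q, e, f, t, z, x, x⁻¹, y, y⁻¹, w, w⁻¹]) rfl r 3 [0, 1, 0, 1, 4] [0, 1, 4, 0, 1] (by decide +kernel)
theorem a8_b1b {G : Type u} [Group G] {p q e f t z x y w : G} (r : Rels [p, q, e, f, t, z, x, x⁻¹, y, y⁻¹, w, w⁻¹] a8_R) : p * q * p * q * z = p * q * z * p * q := by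
  simpa only [ev_cons, ev_nil, List.cons_append, List.nil_append, List.getD_cons_succ, List.getD_cons_zero, mul_one, pow_succ, pow_zero, one_mul, mul_one, mul_assoc, mul_inv_rev, inv_inv] using ueq a8_univ a8_val (xs := [p, q, e, f, t, z, x, x⁻¹, y, y⁻¹, w, w⁻¹]) rfl r 3 [0, 1, 0, 1, 5] [0, 1, 5, 0, 1] (by decide +kernel)
theorem a8_sa {G : Type u} [Group G] {p q e f t z x y w : G} (r : Rels [p, q, e, f, t, z, x, x⁻¹, y, y⁻¹, w, w⁻¹] a8_R) : q * t * z * p * q * t = p * q * t * q * t * z := by
  simpa only [ev_cons, ev_nil, List.cons_append, List.nil_append, List.getD_cons_succ, List.getD_cons_zero, mul_one, pow_succ, pow_zero, one_mul, mul_one, mul_assoc, mul_inv_rev, inv_inv] using ueq a8_univ a8_val (xs := [p, q, e, f, t, z, x, x⁻¹, y, y⁻¹, w, w⁻¹]) rfl r 3 [1, 4, 5, 0, 1, 4] [0, 1, 4, 1, 4, 5] (by decide +kernel)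
theorem a8_sb {G : Type u} [Group G] {p q e f t z x y w : G} (r : Rels [p, q, e, f, t, z, x, x⁻¹, y, y⁻¹, w, w⁻¹] a8_R) : q * t * z * p * q * z = p * q * z * q * t * z := by
  simpa only [ev_cons, ev_nil, List.cons_append, List.nil_append, List.getD_cons_succ, List.getD_cons_zero, mul_one, pow_succ, pow_zero, one_mul, mul_one, mul_assoc, mul_inv_rev, inv_inv] using ueq a8_univ a8_val (xs := [p, q, e, f, t, z, x, x⁻¹, y, y⁻¹, w, w⁻¹]) rfl r 3 [1, 4, 5, 0, 1, 5] [0, 1, 5, 1, 4, 5] (by decide +kernel)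
end
end H15.Mw
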