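import Cfsg.Agent.H15.Rw8
import Cfsg.Agent.H15.Hn2
import Cfsg.Agent.H3.Alperin

/-! Groups in which `p` divides the order of every subgroup that is neither a `q`-group nor a
`q'`-group. -/

set_option autoImplicit false
set_option linter.unusedSectionVars false

namespace H15.Mx

open Subgroup _root_.Cfsg H1 H26.J H17.Ho
open scoped H16 MatrixGroups

universe v

/-- `p` divides the order of every mixed subgroup -/
def MX (p q : ℕ) (G : Type*) [Group G] : Prop :=
  ∀ H : Subgroup G, q ∣ Nat.card H → ∀ r : ℕ, r.Prime → r ∣ Nat.card H → r ≠ q → p ∣ Nat.card H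

variable {G : Type v} [Group G] [Finite G] {p q r : ℕ}

theorem MX.inj (h : MX p q G) {X : Type*} [Group X] (f : X →* G) (hf : Function.Injective f) :
    MX p q X := fun H a r b c d => by
  have e : Nat.card (H.map f) = Nat.card H := card_map_of_injective hf
  exact e ▸ h (H.map f) (e ▸ a) r b (e ▸ c) d

theorem MX.surj (h : MX p q G) {X : Type*} [Group X] (f : G →* X)
    (hf : Function.Surjective f) (hp : p.Prime) : MX p q X := fun H a r b c d => by
  by_contra k
  obtain ⟨V, h1, rfl⟩ := exists_lift_pi (π := {p}ᶜ) f hf (U := H) fun s _ hd e => k (e ▸ hd)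
  have e := card_map_dvd V f
  exact h1 p hp (h V (a.trans e) r b (c.trans e) d) rfl

theorem MX.nrm (h : MX p q G) (hp : p.Prime) (hpq : p ≠ q) {s u : ℕ} (hs : s.Prime) (hu : u.Prime)
    (e : (s = q ∧ u = r) ∨ (s = r ∧ u = q)) (hr : r ≠ q) {A : Subgroup G} (hA : IsPGroup s A)
    (h0 : s ∣ Nat.card A) (hx : u ∣ Nat.card N[A]) : r = p := by
  have := Fact.mk hu
  have := Fact.mk hs
  obtain ⟨x, hx⟩ := exists_prime_orderOf_dvd_card' u hx
  have hx' : Nat.card (zpowers (x : G)) = u := by rw [Nat.card_zpowers, orderOf_coe, hx]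
  have a : u ∣ Nat.card (zpowers (x : G) ⊔ A : Subgroup G) := hx' ▸ card_dvd_of_le le_sup_left
  have b : s ∣ Nat.card (zpowers (x : G) ⊔ A : Subgroup G) := h0.trans (card_dvd_of_le le_sup_right)
  have c : p ∣ Nat.card (zpowers (x : G) ⊔ A : Subgroup G) := by
    rcases e with ⟨rfl, rfl⟩ | ⟨rfl, rfl⟩
    exacts [h _ b _ hu a hr, h _ a _ hs b hr]
  obtain ⟨k, hk⟩ := hA.exists_card_eq
  have d := c.trans (H1.card_sup_dvd (zpowers_le.2 x.2))
  rw [hx', hk, hp.dvd_mul, Nat.prime_dvd_prime_iff_eq hp hu] at d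
  have d := d.imp_right fun d => (Nat.prime_dvd_prime_iff_eq hp hs).1 (hp.dvd_of_dvd_pow d)
  omega

theorem MX.fr (h : MX p q G) (hp : p.Prime) (hpq : p ≠ q) {s u : ℕ} (hs : s.Prime) (hu : u.Prime)
    (e : (s = q ∧ u = r) ∨ (s = r ∧ u = q)) (hr : r ≠ q) (N : Subgroup G) [N.Normal]
    (h0 : s ∣ Nat.card N) (h1 : ¬ u ∣ Nat.card N) (h2 : u ∣ Nat.card G) : r = p := by
  have := Fact.mk hs
  obtain ⟨P⟩ : Nonempty (Sylow s N) := inferInstance
  have k := Sylow.normalizer_sup_eq_top P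
  refine h.nrm hp hpq hs hu e hr (A := (P : Subgroup N).map N.subtype) (P.isPGroup'.map _) ?_ ?_
  · rw [card_map_of_injective N.subtype_injective]
    exact P.dvd_card_of_dvd_card h0
  · have := H1.card_sup_dvd_normal N[(P : Subgroup N).map N.subtype] N
    rw [k, card_top] at this
    exact (hu.dvd_mul.1 (h2.trans this)).resolve_right h1

theorem MX.inv (h : MX p 2 G) (hp : p.Prime) (h2 : p ≠ 2) (hr : r.Prime) (r2 : r ≠ 2) {y t : G}
    (hy : orderOf y = r) (ht : t * t = 1) (e : t * y * t⁻¹ = y⁻¹) : r = p := by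
  refine h.nrm hp h2 hr Nat.prime_two (Or.inr ⟨rfl, rfl⟩) r2 (A := zpowers y)
    (IsPGroup.of_card (n := 1) (by rw [Nat.card_zpowers, hy, pow_one])) (by rw [Nat.card_zpowers, hy]) ?_
  have t1 : t ≠ 1 := by
    rintro rfl
    have : y ^ 2 = 1 := by rw [sq]; exact mul_eq_one_iff_eq_inv.2 (by simpa using e)
    exact r2 ((Nat.prime_dvd_prime_iff_eq hr Nat.prime_two).1 (hy ▸ orderOf_dvd_of_pow_eq_one this))
  have : t ∈ N[zpowers y] := mem_normalizer_fintype (by
    rintro _ ⟨k, rfl⟩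
    have : t * y ^ k * t⁻¹ = (t * y * t⁻¹) ^ k := conj_zpow.symm
    rw [this, e]
    exact zpow_mem (inv_mem (mem_zpowers y)) k)
  exact (orderOf_eq_prime (x := t) (by rw [sq, ht]) t1) ▸ orderOf_dvd_natCard _ this

theorem odd_dvd {n : ℕ} (h : ∀ k, n ≠ 2 ^ k) : ∃ r : ℕ, r.Prime ∧ r ≠ 2 ∧ r ∣ n := by
  rcases Nat.eq_two_pow_or_exists_odd_prime_and_dvd n with ⟨k, e⟩ | ⟨r, a, b, c⟩
  · exact absurd e (h k)
  · exact ⟨r, a, by rintro rfl; exact absurd c (by decide), b⟩

theorem pow_mod (k : ℕ) : 2 ^ k = 1 ∨ 2 ^ k = 2 ∨ 2 ^ k = 4 ∨ 2 ^ k % 8 = 0 := by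
  rcases k with _ | _ | _ | k
  · simp
  · simp
  · simp
  · right; right; right
    exact Nat.mod_eq_zero_of_dvd ⟨2 ^ k, by ring⟩

theorem MX.psl {F : Type} [Field F] [Fintype F] (h : MX p 2 PSL(2, F)) (hp : p.Prime) (h2 : p ≠ 2)
    (h3 : 3 < Fintype.card F)
    (h8 : Fintype.card F % 2 = 0 ∨ Fintype.card F % 8 = 3 ∨ Fintype.card F % 8 = 5) : False := by
  obtain ⟨l, hl, n, hl', hn⟩ := FiniteField.card' F
  have := Fact.mk hl'
  have k : ∀ r : ℕ, r.Prime → r ≠ 2 → r ∣ Fintype.card F ^ 2 - 1 → r = p := fun r a b c => by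
    have h1 : r ∣ Nat.gcd 2 (Fintype.card F - 1) * Nat.card PSL(2, F) := by
      rw [H4.card_psl]; exact c.mul_left _
    obtain ⟨x, t, e1, e2, e3⟩ := psl_real' (F := F) l a (by
      rintro rfl
      have : r ∣ Fintype.card F ^ 2 := (hn ▸ dvd_pow_self r n.ne_zero).trans (dvd_pow_self _ two_ne_zero)
      exact a.one_lt.ne' (Nat.dvd_one.1 ((Nat.dvd_sub_iff_right (Nat.one_le_pow _ _ (by omega)) this).1 c)))
      ((a.dvd_mul.1 h1).resolve_left fun e =>
        b ((Nat.prime_dvd_prime_iff_eq a Nat.prime_two).1 (e.trans (Nat.gcd_dvd_left _ _))))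
    exact h.inv hp h2 a b e1 e2 e3
  have sq : Fintype.card F ^ 2 - 1 = (Fintype.card F + 1) * (Fintype.card F - 1) := by
    simpa using Nat.sq_sub_sq (Fintype.card F) 1
  by_cases h5 : Fintype.card F = 5
  · obtain rfl := k 3 Nat.prime_three (by decide) (by rw [h5]; decide)
    have c : Nat.card PSL(2, F) = 60 := by
      have := H4.card_psl (F := F)
      rw [h5] at this; norm_num at this; omega
    have := Fact.mk Nat.prime_five
    obtain ⟨P⟩ : Nonempty (Sylow 5 PSL(2, F)) := inferInstance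
    have a : ¬ 2 ∣ Nat.card N[(P : Subgroup PSL(2, F))] := fun e => absurd
      (h.nrm hp h2 Nat.prime_five Nat.prime_two (Or.inr ⟨rfl, rfl⟩) (by decide) P.isPGroup'
        (P.dvd_card_of_dvd_card (by rw [c]; decide)) e) (by decide)
    have b := card_sylow_modEq_one 5 PSL(2, F)
    rw [P.card_eq_index_normalizer] at b
    have d := N[(P : Subgroup PSL(2, F))].card_mul_index
    rw [c] at d
    have e : N[(P : Subgroup PSL(2, F))].index ∣ 60 := Dvd.intro_left _ d
    have := Nat.le_of_dvd (by norm_num) e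
    unfold Nat.ModEq at b
    generalize N[(P : Subgroup PSL(2, F))].index = m at *
    interval_cases m <;> omega
  obtain ⟨r, a, b, c⟩ := odd_dvd (n := Fintype.card F - 1) fun k e => by have := pow_mod k; omega
  obtain ⟨s, a', b', c'⟩ := odd_dvd (n := Fintype.card F + 1) fun k e => by have := pow_mod k; omega
  obtain rfl := k r a b (sq ▸ c.mul_left _)
  obtain rfl := k s a' b' (sq ▸ c'.mul_right _)
  have := Nat.dvd_sub c' c
  rw [show Fintype.card F + 1 - (Fintype.card F - 1) = 2 by omega] at this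
  exact b ((Nat.prime_dvd_prime_iff_eq a Nat.prime_two).1 this)

theorem MX.simple (h : MX p q G) (hp : p.Prime) (hq : q.Prime) (hpq : p ≠ q) (h2 : p ≠ 2)
    (hb : ∀ k, q ^ k ∣ Nat.card G → q ^ k ≤ p + 1) (hs : IsSimpleGroup G)
    (hn : ¬ IsMulCommutative G) (h0 : q ∣ Nat.card G) : False := by
  have := Fact.mk hq
  have := Fact.mk hp
  obtain ⟨P⟩ : Nonempty (Sylow q G) := inferInstance
  obtain ⟨Y, hY, g, g1, g2, g3⟩ : ∃ Y ≤ (P : Subgroup G), ∃ g ∈ N[Y], Nat.Coprime (orderOf g) q ∧ g ∉ C[Y] := by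
    by_contra! e
    obtain ⟨P', N, hN, c⟩ := H3.frobenius P e
    rcases hN.eq_bot_or_eq_top with rfl | rfl
    · rw [isComplement'_bot_left] at c
      have k : IsPGroup q G := (c ▸ P'.isPGroup').of_equiv topEquiv
      rcases (inferInstance : (center G).Normal).eq_bot_or_eq_top with e | e
      · exact (nontrivial_iff_ne_bot _).1 k.center_nontrivial e
      · exact hn ⟨⟨fun a b => (mem_center_iff.1 (e ▸ mem_top b) a)⟩⟩
    · rw [isComplement'_top_left] at c
      have := P'.dvd_card_of_dvd_card h0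
      rw [c, card_bot] at this
      exact hq.one_lt.ne' (Nat.dvd_one.1 this)
  obtain ⟨y, hy, y1⟩ : ∃ y ∈ Y, y * g ≠ g * y := by simpa [mem_centralizer_iff] using g3
  have hY' := P.isPGroup'.to_le hY
  obtain ⟨k, hk⟩ := hY'.exists_card_eq
  have k0 : q ∣ Nat.card Y := hk ▸ dvd_pow_self q (by
    rintro rfl
    rw [pow_zero, card_eq_one] at hk
    rw [hk, mem_bot] at hy
    exact y1 (by simp [hy]))
  letI : MulAction (zpowers g) G := MulAction.compHom G (MulAut.conj.comp (zpowers g).subtype)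
  have o1 : MulAction.orbit (zpowers g) y ⊆ (Y : Set G) \ {1} := by
    rintro _ ⟨a, rfl⟩
    refine ⟨(mem_normalizer_iff.1 (zpowers_le.2 g1 a.2) y).1 hy, fun e => y1 ?_⟩
    have : (a : G) * y * (a : G)⁻¹ = 1 := e
    simp [_root_.conj_eq_one_iff.1 this]
  have o2 : p ≤ (MulAction.orbit (zpowers g) y).ncard := by
    rw [← MulAction.index_stabilizer]
    obtain ⟨s, s1, s2⟩ := Nat.exists_prime_and_dvd
      (n := (MulAction.stabilizer (zpowers g) y).index) fun e => y1 (by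
        have : g * y * g⁻¹ = y := (index_eq_one.1 e ▸ mem_top _ :
          (⟨g, mem_zpowers g⟩ : zpowers g) ∈ MulAction.stabilizer (zpowers g) y)
        exact (mul_inv_eq_iff_eq_mul.1 this).symm)
    have s3 := s2.trans (index_dvd_card _)
    obtain rfl : s = p := h.nrm hp hpq hq s1 (Or.inl ⟨rfl, rfl⟩) (by
      rintro rfl
      rw [Nat.card_zpowers] at s3
      exact hq.one_lt.ne' (Nat.Coprime.eq_one_of_dvd g2.symm s3)) hY' k0
      (s3.trans (card_dvd_of_le (zpowers_le.2 g1)))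
    exact Nat.le_of_dvd (Nat.pos_of_ne_zero index_ne_zero_of_finite) s2
  have o3 : ((Y : Set G) \ {1}).ncard + 1 = Nat.card Y := by
    rw [Set.ncard_sdiff_singleton_add_one Y.one_mem]; rfl
  obtain ⟨m, hm⟩ := P.isPGroup'.exists_card_eq
  have b1 := hb m (hm ▸ card_subgroup_dvd_card _)
  have b2 := card_le_of_le hY
  have b3 := Set.ncard_le_ncard o1
  obtain rfl : Y = P := eq_of_le_of_card_ge hY (by omega)
  have o4 := Set.eq_of_subset_of_ncard_le o1 (by omega)
  obtain rfl : q = 2 := by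
    have := hp.eq_two_or_odd
    have e : 2 ∣ q ^ m := by omega
    exact ((Nat.prime_dvd_prime_iff_eq Nat.prime_two hq).1 (Nat.prime_two.dvd_of_dvd_pow e)).symm
  have o5 : ∀ x ∈ (P : Subgroup G), x ≠ 1 → orderOf x = orderOf y := fun x a b => by
    obtain ⟨c, rfl⟩ : x ∈ MulAction.orbit (zpowers g) y := o4 ▸ ⟨a, b⟩
    exact H16.orderOf_cj _ _
  obtain ⟨t, ht⟩ := exists_prime_orderOf_dvd_card' 2 k0
  have o6 : ∀ x ∈ (P : Subgroup G), x⁻¹ = x := fun x a => by
    by_cases b : x = 1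
    · simp [b]
    have := pow_orderOf_eq_one x
    rw [o5 x a b, ← o5 t t.2 (fun e => by
      rw [← orderOf_coe, e] at ht; simp at ht), orderOf_coe, ht,
      sq] at this
    exact inv_eq_of_mul_eq_one_right this
  have k : ∀ (L : Subgroup G), H4.L2D L → False := fun L ⟨F, _, _, a, b, ⟨e⟩⟩ =>
    ((h.inj L.subtype L.subtype_injective).inj e.symm.toMonoidHom e.symm.injective).psl hp h2 b
      (Or.inr a)
  rcases walter hs hn (H10.isSylowIn_top P) (fun a ha b hb => by
      rw [← o6 _ (mul_mem hb ha), mul_inv_rev, o6 a ha, o6 b hb]) with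
    ⟨-, F, _, _, m, h1, h3, ⟨e⟩⟩ | ⟨F, _, _, h1, h3, ⟨e⟩⟩ | ⟨p, n, ρ, τ, f, j⟩
  · refine (h.inj e.symm.toMonoidHom e.symm.injective).psl hp h2 ?_ (Or.inl ?_)
    · have := Nat.pow_le_pow_right (n := 2) (by norm_num) h1
      omega
    · rw [h3]; exact Nat.mod_eq_zero_of_dvd (dvd_pow_self 2 (by omega))
  · exact (h.inj e.symm.toMonoidHom e.symm.injective).psl hp h2 h3 (Or.inr h1)
  · obtain ⟨t, ht, t1⟩ := j.exists_inv
    exact k _ (j.lf t (j.ord ht t1)).l2d

theorem main (hp : p.Prime) (hq : q.Prime) (hr : r.Prime) (hpq : p ≠ q) (h2 : p ≠ 2) (hrq : r ≠ q)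
    (X : Type v) [Group X] [Finite X] (h : MX p q X) (hb : ∀ k, q ^ k ∣ Nat.card X → q ^ k ≤ p + 1)
    (h0 : q ∣ Nat.card X) (h1 : r ∣ Nat.card X) : r = p := by
  induction hn : Nat.card X using Nat.strong_induction_on generalizing X with
  | _ n ih =>
  subst hn
  by_cases hc : IsMulCommutative X
  · have := Fact.mk hq
    obtain ⟨P⟩ : Nonempty (Sylow q X) := inferInstance
    refine h.nrm hp hpq hq hr (Or.inl ⟨rfl, rfl⟩) hrq P.isPGroup' (P.dvd_card_of_dvd_card h0) ?_
    rwa [normalizer_eq_top, card_top]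
  by_cases hs : IsSimpleGroup X
  · exact (h.simple hp hq hpq h2 hb hs hc h0).elim
  have : Nontrivial X := by
    by_contra e
    rw [not_nontrivial_iff_subsingleton] at e
    exact hc ⟨⟨fun a b => Subsingleton.elim _ _⟩⟩
  obtain ⟨N, hN, a, b⟩ : ∃ N : Subgroup X, N.Normal ∧ N ≠ ⊥ ∧ N ≠ ⊤ := by
    by_contra! e
    exact hs ⟨fun N hN => or_iff_not_imp_left.2 (e N hN)⟩
  have c := card_eq_card_quotient_mul_card_subgroup N
  by_cases k1 : q ∣ Nat.card N <;> by_cases k2 : r ∣ Nat.card N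
  · exact ih _ (by simpa using H16.card_lt (lt_top_iff_ne_top.2 b)) N (h.inj _ N.subtype_injective)
      (fun k e => hb k (e.trans (card_subgroup_dvd_card N))) k1 k2 rfl
  · exact h.fr hp hpq hq hr (Or.inl ⟨rfl, rfl⟩) hrq N k1 k2 h1
  · exact h.fr hp hpq hr hq (Or.inr ⟨rfl, rfl⟩) hrq N k2 k1 h0
  · refine ih _ ?_ (X ⧸ N) (h.surj _ (QuotientGroup.mk'_surjective N) hp)
      (fun k e => hb k (e.trans (card_quotient_dvd_card N)))
      ((hq.dvd_mul.1 (c ▸ h0)).resolve_right k1) ((hr.dvd_mul.1 (c ▸ h1)).resolve_right k2) rfl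
    rw [c]
    exact lt_mul_of_one_lt_right Nat.card_pos ((one_lt_card_iff_ne_bot N).2 a)

end H15.Mx
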