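import Mathlib

/-! Integer bookkeeping for the characters of a group of Ree type not vanishing on involutions. -/

set_option autoImplicit false
set_option linter.unusedSectionVars false

namespace H15.Rw

open Finset

variable {ι κ : Type*} [DecidableEq ι]

/-- the data -/
structure Tab (I : Finset ι) (M : Finset κ) (q τ ρ : ℤ) (bar : ι → ι) (d T σ δ l m : ι → ℤ)
    (E : Fin 4 → κ → ι → ℤ) (Θ : ι → Prop) (o st x x' : ι) : Prop where
  q1 : q = 2 * τ + 1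
  q2 : q + 1 = 4 * ρ
  q3 : 3 ∣ q
  q4 : 3 < q
  card : (M.card : ℤ) = ρ - 1
  bI : ∀ c ∈ I, bar c ∈ I
  bb : ∀ c ∈ I, bar (bar c) = c
  bd : ∀ c ∈ I, d (bar c) = d c
  bT : ∀ c ∈ I, T (bar c) = T c
  bσ : ∀ c ∈ I, σ (bar c) = σ c
  bδ : ∀ c ∈ I, δ (bar c) = -δ c
  bl : ∀ c ∈ I, l (bar c) = l c
  bE : ∀ i, ∀ μ ∈ M, ∀ c ∈ I, E i μ (bar c) = E i μ c
  pos : ∀ c ∈ I, 0 < d c
  oI : o ∈ I
  sI : st ∈ I
  xI : x ∈ I
  xI' : x' ∈ I
  n1 : o ≠ st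
  n2 : o ≠ x
  n3 : o ≠ x'
  n4 : st ≠ x
  n5 : st ≠ x'
  n6 : x ≠ x'
  bo : bar o = o
  bs : bar st = st
  bx : bar x = x
  bx' : bar x' = x'
  bΘ : ∀ c ∈ I, Θ c → bar c = c
  hT : ∀ c ∈ I, T c = m c + τ * σ c
  hm : ∀ c ∈ I, c ≠ o → c ≠ st → c ≠ x → c ≠ x' → ¬ Θ c → m c = 0
  mo : m o = 1
  ms : m st = 1
  mx : m x = -1
  mx' : m x' = -1
  pδ : ∀ c ∈ I, Even (δ c - σ c)
  pl : ∀ c ∈ I, Even (l c - T c)
  nδ : ∑ c ∈ I, δ c ^ 2 = 4
  ns : ∑ c ∈ I, (2 * σ c - l c) ^ 2 = 8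
  ds : ∑ c ∈ I, (2 * σ c - l c) * d c = 0
  hl : ∀ c ∈ I, ρ * l c - T c = ∑ μ ∈ M, (E 0 μ c + E 1 μ c - E 2 μ c - E 3 μ c)
  nE0 : ∀ μ ∈ M, ∑ c ∈ I, E 0 μ c ^ 2 = 7
  nE : ∀ i ≠ 0, ∀ μ ∈ M, ∑ c ∈ I, E i μ c ^ 2 = 3
  oE : ∀ i ≠ 0, ∀ μ ∈ M, ∑ c ∈ I, E 0 μ c * E i μ c = 0
  sE0 : ∀ μ ∈ M, ∑ c ∈ I, E 0 μ c * (2 * σ c - l c) = -6
  sE : ∀ i ≠ 0, ∀ μ ∈ M, ∑ c ∈ I, E i μ c * (2 * σ c - l c) = 2
  dE : ∀ i, ∀ μ ∈ M, ∑ c ∈ I, E i μ c * d c = 0
  do' : d o = 1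
  To : T o = 1
  lo : l o = 1
  Eo0 : ∀ μ ∈ M, E 0 μ o = 1
  Eo : ∀ i ≠ 0, ∀ μ ∈ M, E i μ o = 0
  dst : d st = q ^ 3
  Ts : T st = q
  ls : l st = 3
  Es0 : ∀ μ ∈ M, E 0 μ st = -1
  Es : ∀ i ≠ 0, ∀ μ ∈ M, E i μ st = 0
  dx : d x + d x' = q ^ 3 + 1
  Tx : T x + T x' = -(q + 1)
  lx : l x + l x' = -4
  Ex : ∀ i, ∀ μ ∈ M, E i μ x + E i μ x' = 0
  K1 : (T x : ℚ) ^ 2 / d x + (T x' : ℚ) ^ 2 / d x' = (q + 1) / (q ^ 2 - q + 1)
  K2 : ∑ c ∈ I, ((2 * σ c - l c : ℤ) : ℚ) * (T c : ℚ) ^ 2 / d c =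
    (q - 1) * (-q ^ 2 + 6 * q - 1) / (q * (q ^ 2 - q + 1))

theorem sum_one {R : Finset ι} {f g : ι → ℤ} (h : ∑ c ∈ R, f c ^ 2 = 1) {c : ι} (hc : c ∈ R)
    (h0 : f c ≠ 0) : (f c = 1 ∨ f c = -1) ∧ ∑ c ∈ R, f c * g c = f c * g c := by
  rw [← add_sum_erase _ _ hc] at h
  have h1 : 0 ≤ ∑ c ∈ R.erase c, f c ^ 2 := sum_nonneg fun _ _ => sq_nonneg _
  have h2 : 0 < f c ^ 2 := by positivity
  have h3 : f c ^ 2 = 1 := by omega
  have h4 : ∑ c ∈ R.erase c, f c ^ 2 = 0 := by omega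
  rw [sum_eq_zero_iff_of_nonneg fun _ _ => sq_nonneg _] at h4
  refine ⟨mul_self_eq_one_iff.1 (by rw [← sq]; exact h3), ?_⟩
  rw [← add_sum_erase _ _ hc, sum_eq_zero fun b hb => by
    rw [pow_eq_zero_iff (by norm_num) |>.1 (h4 b hb), zero_mul], add_zero]

theorem sum_le_one {R : Finset ι} {f g : ι → ℤ} (h : ∑ c ∈ R, f c ^ 2 = 1)
    (h' : ∑ c ∈ R, g c ^ 2 = 1) : -1 ≤ ∑ c ∈ R, f c * g c ∧ ∑ c ∈ R, f c * g c ≤ 1 := by
  have h1 : 0 ≤ ∑ c ∈ R, (f c - g c) ^ 2 := sum_nonneg fun _ _ => sq_nonneg _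
  have h2 : 0 ≤ ∑ c ∈ R, (f c + g c) ^ 2 := sum_nonneg fun _ _ => sq_nonneg _
  simp only [sub_sq, add_sq, sum_add_distrib, sum_sub_distrib, mul_assoc, ← mul_sum] at h1 h2
  constructor <;> omega

theorem tri1 {a b c r : ℤ} (h1 : a + b + c = 1) (h2 : 2 * (a ^ 2 + b ^ 2 + c ^ 2) + r = 3)
    (hr : 0 ≤ r) : r = 1 ∧ ((a = 1 ∧ b = 0 ∧ c = 0) ∨ (a = 0 ∧ b = 1 ∧ c = 0) ∨
      (a = 0 ∧ b = 0 ∧ c = 1)) := by
  have ha : -1 ≤ a ∧ a ≤ 1 := by constructor <;> nlinarith [sq_nonneg b, sq_nonneg c]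
  have hb : -1 ≤ b ∧ b ≤ 1 := by constructor <;> nlinarith [sq_nonneg a, sq_nonneg c]
  obtain rfl : c = 1 - a - b := by omega
  obtain ⟨a1, a2⟩ := ha
  obtain ⟨b1, b2⟩ := hb
  interval_cases a <;> interval_cases b <;> simp at h2 ⊢ <;> omega

theorem tri0 {a b c r : ℤ} (h1 : a + b + c = -2) (h2 : 2 * (a ^ 2 + b ^ 2 + c ^ 2) + r = 5)
    (hr : 0 ≤ r) : r = 1 ∧ ((a = 0 ∧ b = -1 ∧ c = -1) ∨ (a = -1 ∧ b = 0 ∧ c = -1) ∨
      (a = -1 ∧ b = -1 ∧ c = 0)) := by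
  have ha : -1 ≤ a ∧ a ≤ 1 := by constructor <;> nlinarith [sq_nonneg b, sq_nonneg c]
  have hb : -1 ≤ b ∧ b ≤ 1 := by constructor <;> nlinarith [sq_nonneg a, sq_nonneg c]
  obtain rfl : c = -2 - a - b := by omega
  obtain ⟨a1, a2⟩ := ha
  obtain ⟨b1, b2⟩ := hb
  interval_cases a <;> interval_cases b <;> simp at h2 ⊢ <;> omega

variable {I : Finset ι} {M : Finset κ} {q τ ρ : ℤ} {bar : ι → ι} {d T σ δ l m : ι → ℤ}
  {E : Fin 4 → κ → ι → ℤ} {Θ : ι → Prop} {o st x x' : ι}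

namespace Tab
variable (h : Tab I M q τ ρ bar d T σ δ l m E Θ o st x x')
include h

theorem swap : Tab I M q τ ρ bar d T σ δ l m E Θ o st x' x :=
  { h with
    xI := h.xI', xI' := h.xI, n2 := h.n3, n3 := h.n2, n4 := h.n5, n5 := h.n4, n6 := h.n6.symm
    bx := h.bx', bx' := h.bx, hm := fun c hc a b e f => h.hm c hc a b f e, mx := h.mx', mx' := h.mx
    dx := by rw [add_comm, h.dx], Tx := by rw [add_comm, h.Tx], lx := by rw [add_comm, h.lx]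
    Ex := fun i μ hμ => by rw [add_comm, h.Ex i μ hμ], K1 := by rw [add_comm, h.K1] }

theorem Npos : 0 < q ^ 2 - q + 1 := by nlinarith [h.q4]

theorem deg_x : d x = -(q ^ 2 - q + 1) * T x := by
  have p1 := h.pos x h.xI
  have p2 := h.pos x' h.xI'
  have p3 := h.Npos
  have k := h.K1
  have e1 : (d x : ℚ) ≠ 0 := by exact_mod_cast p1.ne'
  have e2 : (d x' : ℚ) ≠ 0 := by exact_mod_cast p2.ne'
  have e3 : ((q : ℚ) ^ 2 - q + 1) ≠ 0 := by exact_mod_cast p3.ne'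
  rw [div_add_div _ _ e1 e2, div_eq_div_iff (mul_ne_zero e1 e2) e3] at k
  have k' : (T x ^ 2 * d x' + d x * T x' ^ 2) * (q ^ 2 - q + 1) = (q + 1) * (d x * d x') := by
    exact_mod_cast k
  have a := h.dx
  have b := h.Tx
  have c : (T x * d x' - T x' * d x) ^ 2 = 0 := by
    have : (T x * d x' - T x' * d x) ^ 2 = (T x ^ 2 * d x' + d x * T x' ^ 2) * (d x + d x') -
      (T x + T x') ^ 2 * (d x * d x') := by ring
    rw [this, a, b]; linear_combination (q + 1) * k'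
  have c' : T x * d x' = T x' * d x := sub_eq_zero.1 (pow_eq_zero_iff (by norm_num) |>.1 c)
  have : (q + 1) * (d x + (q ^ 2 - q + 1) * T x) = 0 := by
    linear_combination d x * b - T x * a + c'
  have := (mul_eq_zero.1 this).resolve_left (by have := h.q4; omega)
  linear_combination this

theorem real {c : ι} (hc : c ∈ I) (e : bar c = c) : δ c = 0 := by
  have := h.bδ c hc; rw [e] at this; omega

theorem sig_x : σ x = 0 ∨ σ x' = 0 := by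
  have a := h.deg_x
  have b := h.swap.deg_x
  have p1 := h.pos x h.xI
  have p2 := h.pos x' h.xI'
  have p3 := h.Npos
  have t1 := h.hT x h.xI
  have t2 := h.hT x' h.xI'
  rw [h.mx] at t1
  rw [h.mx'] at t2
  have q1 := h.q1
  have q4 := h.q4
  have s1 : T x < 0 := by nlinarith
  have s2 : T x' < 0 := by nlinarith
  have s3 : σ x ≤ 0 := by nlinarith
  have s4 : σ x' ≤ 0 := by nlinarith
  have s5 : τ * (σ x + σ x' + 2) = 0 := by linear_combination h.Tx - t1 - t2 - q1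
  have s6 := (mul_eq_zero.1 s5).resolve_left (by omega)
  have := h.pδ x h.xI
  rw [h.real h.xI h.bx, Int.even_iff] at this
  omega

theorem pair {R : Finset ι} (hR : R ⊆ I) (hb : ∀ c ∈ R, bar c ∈ R) {k : ℤ}
    (hk : ∑ c ∈ R, δ c ^ 2 = k) (k0 : 0 < k) (k4 : k ≤ 4) : ∃ c ∈ R, bar c ≠ c ∧ Odd (δ c) ∧
      ∑ c ∈ (R.erase c).erase (bar c), δ c ^ 2 = k - 2 := by
  obtain ⟨c, hc, h0⟩ := exists_ne_zero_of_sum_ne_zero (hk ▸ k0.ne')
  have h0 : δ c ≠ 0 := fun e => h0 (by rw [e]; norm_num)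
  have hn : bar c ≠ c := fun e => h0 (h.real (hR hc) e)
  rw [← add_sum_erase _ _ hc, ← add_sum_erase _ _ (mem_erase.2 ⟨hn, hb c hc⟩), h.bδ c (hR hc),
    neg_sq] at hk
  have h1 : 0 ≤ ∑ c ∈ (R.erase c).erase (bar c), δ c ^ 2 := sum_nonneg fun _ _ => sq_nonneg _
  have h2 : -1 ≤ δ c ∧ δ c ≤ 1 := by constructor <;> nlinarith
  have h3 : δ c = 1 ∨ δ c = -1 := by omega
  refine ⟨c, hc, hn, ?_, ?_⟩
  · rcases h3 with e | e <;> rw [e] <;> decide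
  · rcases h3 with e | e <;> rw [e] at hk <;> omega

/-- the two pairs of complex conjugate characters -/
theorem cusp : ∃ a ∈ I, ∃ b ∈ I, Odd (δ a) ∧ Odd (δ b) ∧ ∃ R ⊆ I,
    (∀ c ∈ I, c ∈ R ∨ c = o ∨ c = st ∨ c = x ∨ c = x' ∨ c = a ∨ c = bar a ∨ c = b ∨ c = bar b) ∧
    (∀ c ∈ R, c ≠ o ∧ c ≠ st ∧ c ≠ x ∧ c ≠ x') ∧
    ∀ {A : Type} [CommRing A] (f : ι → A), (∀ c ∈ I, f (bar c) = f c) →
      ∑ c ∈ I, f c = f o + f st + f x + f x' + 2 * f a + 2 * f b + ∑ c ∈ R, f c := by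
  obtain ⟨a, ha, a1, a2, a3⟩ := h.pair subset_rfl h.bI h.nδ (by norm_num) le_rfl
  obtain ⟨b, hb, b1, b2, -⟩ := h.pair (R := (I.erase a).erase (bar a))
    ((erase_subset _ _).trans (erase_subset _ _)) (fun c hc => by
      simp only [mem_erase] at hc ⊢
      exact ⟨fun e => hc.2.1 (by rw [← h.bb c hc.2.2, e, h.bb a ha]),
        fun e => hc.1 (by rw [← h.bb c hc.2.2, e]), h.bI c hc.2.2⟩) a3 (by norm_num) (by norm_num)
  simp only [mem_erase] at hb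
  obtain ⟨b3, b4, hb⟩ := hb
  have b5 : bar b ≠ a := fun e => b3 (by rw [← h.bb b hb, e])
  have b6 : bar b ≠ bar a := fun e => b4 (by rw [← h.bb b hb, e, h.bb a ha])
  have k : ∀ c ∈ I, Odd (δ c) → ∀ y ∈ I, bar y = y → y ≠ c ∧ y ≠ bar c := fun c hc oc y hy e =>
    ⟨fun e' => by rw [← e', h.real hy e] at oc; exact absurd oc (by decide), fun e' => by
      have := h.bδ c hc
      rw [← e', h.real hy e] at this
      rw [show δ c = 0 by omega] at oc; exact absurd oc (by decide)⟩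
  obtain ⟨c1, c2⟩ := k a ha a2 o h.oI h.bo
  obtain ⟨c3, c4⟩ := k a ha a2 st h.sI h.bs
  obtain ⟨c5, c6⟩ := k a ha a2 x h.xI h.bx
  obtain ⟨c7, c8⟩ := k a ha a2 x' h.xI' h.bx'
  obtain ⟨d1, d2⟩ := k b hb b2 o h.oI h.bo
  obtain ⟨d3, d4⟩ := k b hb b2 st h.sI h.bs
  obtain ⟨d5, d6⟩ := k b hb b2 x h.xI h.bx
  obtain ⟨d7, d8⟩ := k b hb b2 x' h.xI' h.bx'
  have hs : ({o, st, x, x', a, bar a, b, bar b} : Finset ι) ⊆ I := by
    simp only [insert_subset_iff, singleton_subset_iff]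
    exact ⟨h.oI, h.sI, h.xI, h.xI', ha, h.bI a ha, hb, h.bI b hb⟩
  refine ⟨a, ha, b, hb, a2, b2, I \ {o, st, x, x', a, bar a, b, bar b}, sdiff_subset,
    fun c hc => ?_, fun c hc => ?_, fun f hf => ?_⟩
  · simp only [mem_sdiff, mem_insert, mem_singleton]; tauto
  · simp only [mem_sdiff, mem_insert, mem_singleton, not_or] at hc; tauto
  · have n1 := h.n1
    have n2 := h.n2
    have n3 := h.n3
    have n4 := h.n4
    have n5 := h.n5
    have n6 := h.n6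
    rw [← sum_sdiff hs, sum_insert (by simp [*]), sum_insert (by simp [*]), sum_insert (by simp [*]),
      sum_insert (by simp [*]), sum_insert (by simp [a1.symm, b4.symm, b5.symm]),
      sum_insert (by simp [b3.symm, b6.symm]), sum_insert (by simp [b1.symm]), sum_singleton,
      hf a ha, hf b hb]
    ring

theorem core (h0 : σ x = 0) {c : ι} (hc : c ∈ I) (hT : T c ≠ 0) :
    Θ c ∨ c = st ∨ ¬ q ∣ d c ∨ (T c = -q ∧ d c = q * (q ^ 2 - q + 1)) := by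
  obtain ⟨a, ha, b, hb, oa, ob, R, hR, hI, hR', hs⟩ := h.cusp
  have q1 := h.q1
  have q2 := h.q2
  have q4 := h.q4
  have tx : T x = -1 := by rw [h.hT x h.xI, h.mx, h0]; ring
  have tx' : T x' = -q := by linear_combination h.Tx - tx
  have dx : d x = q ^ 2 - q + 1 := by rw [h.deg_x, tx]; ring
  have dx' : d x' = q * (q ^ 2 - q + 1) := by rw [h.swap.deg_x, tx']; ring
  have τ0 : τ ≠ 0 := by omega
  have h0' : σ x' = -2 := mul_left_cancel₀ τ0 (by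
    linear_combination tx' - h.hT x' h.xI' - h.mx' - q1)
  have so : σ o = 0 := mul_left_cancel₀ τ0 (by linear_combination h.To - h.hT o h.oI - h.mo)
  have ss : σ st = 2 := mul_left_cancel₀ τ0 (by
    linear_combination h.Ts - h.hT st h.sI - h.ms + q1)
  set s : ι → ℤ := fun c => 2 * σ c - l c with hsd
  have sb : ∀ c ∈ I, s (bar c) = s c := fun c hc => by simp only [hsd, h.bσ c hc, h.bl c hc]
  have s1 : s o = -1 := by simp only [hsd, so, h.lo]; ring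
  have s2 : s st = 1 := by simp only [hsd, ss, h.ls]; ring
  have s3 : s x' = -s x := by simp only [hsd, h0, h0']; linear_combination -h.lx
  have cu : ∀ c ∈ I, Odd (δ c) → T c = τ * σ c ∧ Odd (s c) := fun c hc oc => by
    have k : bar c ≠ c := fun e => by rw [h.real hc e] at oc; exact absurd oc (by decide)
    have := h.hT c hc
    rw [h.hm c hc (fun e => k (e ▸ h.bo)) (fun e => k (e ▸ h.bs)) (fun e => k (e ▸ h.bx))
      (fun e => k (e ▸ h.bx')) (fun e => k (h.bΘ c hc e)), zero_add] at this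
    refine ⟨this, ?_⟩
    have p1 := h.pδ c hc
    have p2 := h.pl c hc
    have p3 : Odd (T c) := by
      rw [this]
      refine Odd.mul ⟨ρ - 1, by omega⟩ ?_
      rw [Int.odd_iff, Int.even_iff] at *; omega
    simp only [hsd]
    rw [Int.odd_iff, Int.even_iff] at *; omega
  obtain ⟨ta, sa⟩ := cu a ha oa
  obtain ⟨tb, sb'⟩ := cu b hb ob
  have sx : Odd (s x) := by
    have := h.pl x h.xI
    simp only [hsd]
    rw [tx, Int.even_iff] at this; rw [Int.odd_iff]; omega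
  have osq : ∀ z : ℤ, Odd z → 1 ≤ z ^ 2 := fun z hz => by
    have : z ≠ 0 := fun e => by rw [e] at hz; exact absurd hz (by decide)
    have : 0 < z ^ 2 := by positivity
    omega
  have ns := h.ns
  change ∑ c ∈ I, s c ^ 2 = 8 at ns
  rw [hs (fun c => s c ^ 2) (fun c hc => by simp only [sb c hc]), s1, s2, s3, neg_sq, neg_sq] at ns
  have r0 : 0 ≤ ∑ c ∈ R, s c ^ 2 := sum_nonneg fun _ _ => sq_nonneg _
  have u1 := osq _ sx
  have u2 := osq _ sa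
  have u3 := osq _ sb'
  have v1 : s x ^ 2 = 1 := by omega
  have v2 : s a ^ 2 = 1 := by omega
  have v3 : s b ^ 2 = 1 := by omega
  have v4 : ∑ c ∈ R, s c ^ 2 = 0 := by omega
  rw [sum_eq_zero_iff_of_nonneg fun _ _ => sq_nonneg _] at v4
  have sR : ∀ c ∈ R, s c = 0 := fun c hc => pow_eq_zero_iff (by norm_num) |>.1 (v4 c hc)
  have zR : ∀ f : ι → ℤ, ∑ c ∈ R, f c * s c = 0 := fun f =>
    sum_eq_zero fun c hc => by rw [sR c hc, mul_zero]
  have ex : ∀ i, ∀ μ ∈ M, E i μ x' = -E i μ x := fun i μ hμ => by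
    linear_combination h.Ex i μ hμ
  have sqe : ∀ z w : ℤ, z ^ 2 = 1 → (z * w) ^ 2 = w ^ 2 := fun z w e => by rw [mul_pow, e, one_mul]
  have A0 : ∀ μ ∈ M, ∑ c ∈ R, E 0 μ c ^ 2 = 1 ∧
      ((s x * E 0 μ x = 0 ∧ s a * E 0 μ a = -1 ∧ s b * E 0 μ b = -1) ∨
      (s x * E 0 μ x = -1 ∧ s a * E 0 μ a = 0 ∧ s b * E 0 μ b = -1) ∨
      (s x * E 0 μ x = -1 ∧ s a * E 0 μ a = -1 ∧ s b * E 0 μ b = 0)) := fun μ hμ => by
    have e1 := h.nE0 μ hμ
    have e2 := h.sE0 μ hμ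
    change ∑ c ∈ I, E 0 μ c * s c = -6 at e2
    rw [hs (fun c => E 0 μ c ^ 2) (fun c hc => by simp only [h.bE 0 μ hμ c hc]), h.Eo0 μ hμ,
      h.Es0 μ hμ, ex 0 μ hμ] at e1
    rw [hs (fun c => E 0 μ c * s c) (fun c hc => by simp only [h.bE 0 μ hμ c hc, sb c hc]),
      h.Eo0 μ hμ, h.Es0 μ hμ, ex 0 μ hμ, s1, s2, s3, zR] at e2
    refine tri0 (mul_left_cancel₀ two_ne_zero (by linear_combination e2)) ?_
      (sum_nonneg fun _ _ => sq_nonneg _)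
    rw [sqe _ _ v1, sqe _ _ v2, sqe _ _ v3]; linear_combination e1
  have A1 : ∀ i ≠ 0, ∀ μ ∈ M, ∑ c ∈ R, E i μ c ^ 2 = 1 ∧
      ((s x * E i μ x = 1 ∧ s a * E i μ a = 0 ∧ s b * E i μ b = 0) ∨
      (s x * E i μ x = 0 ∧ s a * E i μ a = 1 ∧ s b * E i μ b = 0) ∨
      (s x * E i μ x = 0 ∧ s a * E i μ a = 0 ∧ s b * E i μ b = 1)) := fun i hi μ hμ => by
    have e1 := h.nE i hi μ hμ
    have e2 := h.sE i hi μ hμ
    change ∑ c ∈ I, E i μ c * s c = 2 at e2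
    rw [hs (fun c => E i μ c ^ 2) (fun c hc => by simp only [h.bE i μ hμ c hc]), h.Eo i hi μ hμ,
      h.Es i hi μ hμ, ex i μ hμ] at e1
    rw [hs (fun c => E i μ c * s c) (fun c hc => by simp only [h.bE i μ hμ c hc, sb c hc]),
      h.Eo i hi μ hμ, h.Es i hi μ hμ, ex i μ hμ, s1, s2, s3, zR] at e2
    refine tri1 (mul_left_cancel₀ two_ne_zero (by linear_combination e2)) ?_
      (sum_nonneg fun _ _ => sq_nonneg _)
    rw [sqe _ _ v1, sqe _ _ v2, sqe _ _ v3]; linear_combination e1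
  have A2 : ∀ i ≠ 0, ∀ μ ∈ M, s x * E i μ x = 1 + s x * E 0 μ x ∧
      s a * E i μ a = 1 + s a * E 0 μ a ∧ s b * E i μ b = 1 + s b * E 0 μ b := fun i hi μ hμ => by
    have e1 := h.oE i hi μ hμ
    rw [hs (fun c => E 0 μ c * E i μ c) (fun c hc => by simp only [h.bE _ μ hμ c hc]),
      h.Eo i hi μ hμ, h.Es i hi μ hμ, ex i μ hμ, ex 0 μ hμ] at e1
    obtain ⟨f1, f2⟩ := A0 μ hμ
    obtain ⟨g1, g2⟩ := A1 i hi μ hμ
    have := sum_le_one f1 g1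
    have e2 : 2 * ((s x * E 0 μ x) * (s x * E i μ x) + (s a * E 0 μ a) * (s a * E i μ a) +
        (s b * E 0 μ b) * (s b * E i μ b)) + ∑ c ∈ R, E 0 μ c * E i μ c = 0 := by
      linear_combination e1 + 2 * E 0 μ x * E i μ x * v1 + 2 * E 0 μ a * E i μ a * v2 +
        2 * E 0 μ b * E i μ b * v3
    rcases f2 with ⟨a1, a2, a3⟩ | ⟨a1, a2, a3⟩ | ⟨a1, a2, a3⟩ <;>
      rcases g2 with ⟨b1, b2, b3⟩ | ⟨b1, b2, b3⟩ | ⟨b1, b2, b3⟩ <;>
      rw [a1, a2, a3, b1, b2, b3] at e2 ⊢ <;> omega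
  have A3 : ∀ c ∈ I, s c ^ 2 = 1 → (∀ i ≠ 0, ∀ μ ∈ M, s c * E i μ c = 1 + s c * E 0 μ c) →
      ρ * l c - T c = -(ρ - 1) * s c := fun c hc v e => by
    rw [h.hl c hc, sum_congr rfl (g := fun _ => -s c) fun μ hμ => by
      linear_combination s c * (e 1 (by decide) μ hμ - e 2 (by decide) μ hμ - e 3 (by decide) μ hμ)
        - (E 1 μ c - E 2 μ c - E 3 μ c + E 0 μ c) * v, sum_const, nsmul_eq_mul, h.card]
    ring
  have B1 : s x = 1 := by
    have := A3 x h.xI v1 fun i hi μ hμ => (A2 i hi μ hμ).1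
    simp only [hsd, h0, tx] at this ⊢
    linear_combination -this
  have B2 : σ a = s a := by
    have := A3 a ha v2 fun i hi μ hμ => (A2 i hi μ hμ).2.1
    simp only [hsd, ta] at this ⊢
    refine mul_left_cancel₀ two_ne_zero ?_
    linear_combination 2 * this + σ a * (q2 - q1)
  have B3 : σ b = s b := by
    have := A3 b hb v3 fun i hi μ hμ => (A2 i hi μ hμ).2.2
    simp only [hsd, tb] at this ⊢
    refine mul_left_cancel₀ two_ne_zero ?_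
    linear_combination 2 * this + σ b * (q2 - q1)
  have ds := h.ds
  change ∑ c ∈ I, s c * d c = 0 at ds
  rw [hs (fun c => s c * d c) (fun c hc => by simp only [h.bd c hc, sb c hc]), s1, s2, s3, B1,
    h.do', h.dst, dx, dx', sum_congr rfl (fun c _ => mul_comm _ _), zR] at ds
  have X1 : s a * d a + s b * d b = -q * (q - 1) := mul_left_cancel₀ two_ne_zero (by
    linear_combination ds)
  have X2 : 12 * (s a * d a) * (s b * d b) = -q * (q - 1) ^ 2 * (q ^ 2 - q + 1) := by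
    have k := h.K2
    change ∑ c ∈ I, ((s c : ℤ) : ℚ) * (T c : ℚ) ^ 2 / d c = _ at k
    rw [hs (fun c => ((s c : ℤ) : ℚ) * (T c : ℚ) ^ 2 / d c) (fun c hc => by
      simp only [h.bd c hc, sb c hc, h.bT c hc]), s1, s2, s3, B1, h.do', h.dst, dx, dx', h.To, h.Ts,
      tx, tx', ta, tb, B2, B3, sum_eq_zero fun c hc => by rw [sR c hc]; simp] at k
    have e1 : (d a : ℚ) ≠ 0 := by exact_mod_cast (h.pos a ha).ne'
    have e2 : (d b : ℚ) ≠ 0 := by exact_mod_cast (h.pos b hb).ne'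
    have e3 : ((q : ℚ) ^ 2 - q + 1) ≠ 0 := by exact_mod_cast h.Npos.ne'
    have e4 : (q : ℚ) ≠ 0 := by exact_mod_cast (by omega : q ≠ 0)
    have e5 : (τ : ℚ) ≠ 0 := by exact_mod_cast τ0
    have w1 : (q : ℚ) = 2 * τ + 1 := by exact_mod_cast q1
    have w2 : (s a : ℚ) ^ 2 = 1 := by exact_mod_cast v2
    have w3 : (s b : ℚ) ^ 2 = 1 := by exact_mod_cast v3
    have w4 : (s a : ℚ) * d a + s b * d b = -q * (q - 1) := by exact_mod_cast X1
    have : (12 : ℚ) * (s a * d a) * (s b * d b) = -q * (q - 1) ^ 2 * (q ^ 2 - q + 1) := by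
      push_cast at k
      generalize hN : (q : ℚ) ^ 2 - q + 1 = N at k e3 ⊢
      have k1 : (τ : ℚ) * (s a / d a + s b / d b) = 6 / N := by
        refine mul_left_cancel₀ (mul_ne_zero two_ne_zero e5) ?_
        have : (q : ℚ) - 1 = 2 * τ := by linear_combination w1
        have z : (-1 : ℚ) * 1 ^ 2 / 1 + 1 * q ^ 2 / q ^ 3 + 1 * (-1) ^ 2 / N +
            -1 * (-q) ^ 2 / (q * N) + (q - 1) * 6 / N =
            (q - 1) * (-q ^ 2 + 6 * q - 1) / (q * N) := by field_simp; rw [← hN]; ring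
        linear_combination k - z + 6 / N * this - 2 * τ ^ 2 * s a / d a * w2 -
          2 * τ ^ 2 * s b / d b * w3
      field_simp at k1
      linear_combination (-2 * s a * s b) * k1 + N * (2 * τ * w4 +
        2 * τ * s b * d b * w2 + 2 * τ * s a * d a * w3 + q * (q - 1) * w1)
    exact_mod_cast this
  obtain ⟨q', hq'⟩ := h.q3
  have n3 : ¬ 3 ∣ (q - 1) ^ 2 * (q ^ 2 - q + 1) := fun ⟨k, hk⟩ => by
    have : (q - 1) ^ 2 * (q ^ 2 - q + 1) = 3 * (q' * (q ^ 3 - 3 * q ^ 2 + 4 * q - 3)) + 1 := by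
      rw [hq']; ring
    omega
  have Y : ¬ q ∣ s a * d a ∧ ¬ q ∣ s b * d b := by
    have : ¬ (q ∣ s a * d a ∧ q ∣ s b * d b) := fun ⟨⟨u, hu⟩, ⟨v, hv⟩⟩ => n3 ⟨-(12 * u * v * q'),
      mul_left_cancel₀ (by omega : q ≠ 0) (by
        rw [hu, hv] at X2; linear_combination X2 - 12 * q * u * v * hq')⟩
    exact ⟨fun e => this ⟨e, by
      rw [show s b * d b = -q * (q - 1) - s a * d a by linear_combination X1]
      exact dvd_sub (Dvd.intro (-(q - 1)) (by ring)) e⟩, fun e => this ⟨by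
      rw [show s a * d a = -q * (q - 1) - s b * d b by linear_combination X1]
      exact dvd_sub (Dvd.intro (-(q - 1)) (by ring)) e, e⟩⟩
  have cq : IsCoprime q 2 := ⟨1, -τ, by linear_combination q1⟩
  have Z1 : ¬ q ∣ (q - 1) * (q ^ 2 - q + 1) := fun e =>
    n3 ((h.q3.trans e).trans (Dvd.intro_left (q - 1) (by ring)))
  have Z2 : ¬ q ∣ 2 * (s a * d a) := fun e => Y.1 (cq.dvd_of_dvd_mul_left e)
  have Z3 : ¬ q ∣ 2 * (s b * d b) := fun e => Y.2 (cq.dvd_of_dvd_mul_left e)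
  by_cases hΘ : Θ c
  · exact Or.inl hΘ
  rcases hI c hc with k | rfl | rfl | rfl | rfl | rfl | rfl | rfl | rfl
  · refine Or.inr (Or.inr (Or.inl fun hd => ?_))
    obtain ⟨c1, c2, c3, c4⟩ := hR' c k
    have t := h.hT c hc
    rw [h.hm c hc c1 c2 c3 c4 hΘ, zero_add] at t
    have l0 := sR c k
    simp only [hsd] at l0
    have : ∑ μ ∈ M, (E 0 μ c + E 1 μ c - E 2 μ c - E 3 μ c) ≠ 0 := by
      rw [← h.hl c hc]
      intro e
      refine hT (by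
        rw [t, show σ c = 0 from mul_left_cancel₀ two_ne_zero (by
          linear_combination 2 * e + 2 * ρ * l0 + 2 * t + σ c * (q2 - q1)), mul_zero])
    obtain ⟨μ, hμ, e⟩ := exists_ne_zero_of_sum_ne_zero this
    obtain ⟨i, hi⟩ : ∃ i, E i μ c ≠ 0 := by
      by_contra hn
      push Not at hn
      exact e (by rw [hn, hn, hn, hn]; ring)
    have de := h.dE i μ hμ
    rw [hs (fun c => E i μ c * d c) (fun c hc => by simp only [h.bd c hc, h.bE i μ hμ c hc]),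
      h.do', h.dst, dx, dx', ex i μ hμ] at de
    have fin : ∀ α β γ : ℤ, ((α = 1 ∧ β = 0 ∧ γ = 0) ∨ (α = 0 ∧ β = 1 ∧ γ = 0) ∨
        (α = 0 ∧ β = 0 ∧ γ = 1)) → E i μ c * d c = α * ((q - 1) * (q ^ 2 - q + 1)) -
          β * (2 * (s a * d a)) - γ * (2 * (s b * d b)) → False := fun α β γ u v => by
      have := v ▸ hd.mul_left (E i μ c)
      rcases u with ⟨rfl, rfl, rfl⟩ | ⟨rfl, rfl, rfl⟩ | ⟨rfl, rfl, rfl⟩
      · exact Z1 (by simpa using this)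
      · exact Z2 (by simpa using this)
      · exact Z3 (by simpa using this)
    by_cases i0 : i = 0
    · subst i0
      rw [(sum_one (A0 μ hμ).1 k hi).2, h.Eo0 μ hμ, h.Es0 μ hμ] at de
      have g := A2 1 (by decide) μ hμ
      refine fin _ _ _ (A1 1 (by decide) μ hμ).2 ?_
      rw [g.1, g.2.1, g.2.2, B1]
      linear_combination de + 2 * X1 + 2 * E 0 μ a * d a * v2 + 2 * E 0 μ b * d b * v3
    · rw [(sum_one (A1 i i0 μ hμ).1 k hi).2, h.Eo i i0 μ hμ, h.Es i i0 μ hμ] at de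
      refine fin _ _ _ (A1 i i0 μ hμ).2 ?_
      rw [B1]
      linear_combination de + 2 * E i μ a * d a * v2 + 2 * E i μ b * d b * v3
  · refine Or.inr (Or.inr (Or.inl fun hd => ?_))
    rw [h.do'] at hd
    have := Int.le_of_dvd one_pos hd
    omega
  · exact Or.inr (Or.inl rfl)
  · exact Or.inr (Or.inr (Or.inl fun hd => Z1 (dx ▸ hd.mul_left _)))
  · exact Or.inr (Or.inr (Or.inr ⟨tx', dx'⟩))
  · exact Or.inr (Or.inr (Or.inl fun hd => Y.1 (hd.mul_left _)))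
  · exact Or.inr (Or.inr (Or.inl fun hd => Y.1 (Dvd.dvd.mul_left (h.bd a ha ▸ hd) _)))
  · exact Or.inr (Or.inr (Or.inl fun hd => Y.2 (hd.mul_left _)))
  · exact Or.inr (Or.inr (Or.inl fun hd => Y.2 (Dvd.dvd.mul_left (h.bd b hb ▸ hd) _)))

theorem main {c : ι} (hc : c ∈ I) (hT : T c ≠ 0) :
    Θ c ∨ c = st ∨ ¬ q ∣ d c ∨ (T c = -q ∧ d c = q * (q ^ 2 - q + 1)) :=
  h.sig_x.elim (fun e => h.core e hc hT) fun e => h.swap.core e hc hT

end Tab

end H15.Rw
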