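import Cfsg.Agent.H18.Pair
import Cfsg.Agent.H16.Not

/-! Columns of the character table and their weighted averages. -/

set_option autoImplicit false
set_option linter.unusedSectionVars false

namespace H15.Rw

open Subgroup _root_.Cfsg CF H18
open scoped ComplexConjugate H16 Classical

variable {G : Type*} [Group G] [Finite G] {K L B Q H P : Subgroup G} {g h w t s x : G}
  {φ ψ χ μ θ α β : G → ℂ} {a b c : (G → ℂ) → ℂ}

/-- inner product of functions on the irreducible characters -/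
noncomputable def ip (a b : (G → ℂ) → ℂ) : ℂ := ∑ χ ∈ Irr (⊤ : Subgroup G), a χ * conj (b χ)

/-- a column -/
def col (g : G) : (G → ℂ) → ℂ := fun χ => χ g

/-- weighted average over a coset -/
noncomputable def co (w : G) (K : Subgroup G) (φ : G → ℂ) : (G → ℂ) → ℂ :=
  fun χ => dot K (fun x => χ (w * x)) φ

theorem ip_add_left : ip (a + b) c = ip a c + ip b c := by
  simp only [ip, Pi.add_apply, add_mul, Finset.sum_add_distrib]
theorem ip_sub_left : ip (a - b) c = ip a c - ip b c := by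
  simp only [ip, Pi.sub_apply, sub_mul, Finset.sum_sub_distrib]
theorem ip_smul_left (z : ℂ) : ip (z • a) c = z * ip a c := by
  simp only [ip, Pi.smul_apply, smul_eq_mul, mul_assoc, Finset.mul_sum]
theorem ip_conj (a b : (G → ℂ) → ℂ) : conj (ip a b) = ip b a := by
  simp only [ip, map_sum, map_mul, Complex.conj_conj, mul_comm]
theorem ip_add_right : ip c (a + b) = ip c a + ip c b := by
  simp only [ip, Pi.add_apply, map_add, mul_add, Finset.sum_add_distrib]
theorem ip_sub_right : ip c (a - b) = ip c a - ip c b := by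
  simp only [ip, Pi.sub_apply, map_sub, mul_sub, Finset.sum_sub_distrib]
theorem ip_smul_right (z : ℂ) : ip c (z • a) = conj z * ip c a := by
  simp only [ip, Pi.smul_apply, smul_eq_mul, map_mul, Finset.mul_sum, mul_left_comm]
theorem ip_congr {a' b' : (G → ℂ) → ℂ} (h1 : ∀ χ ∈ Irr (⊤ : Subgroup G), a χ = a' χ)
    (h2 : ∀ χ ∈ Irr (⊤ : Subgroup G), b χ = b' χ) : ip a b = ip a' b' :=
  Finset.sum_congr rfl fun χ hχ => by rw [h1 χ hχ, h2 χ hχ]

theorem ip_co_left : ip (co w K φ) b =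
    (Nat.card K : ℂ)⁻¹ * ∑ k ∈ fs (K : Set G), conj (φ k) * ip (col (w * k)) b := by
  simp only [ip, co, col, dot_def, Finset.mul_sum, Finset.sum_mul]
  rw [Finset.sum_comm]
  exact Finset.sum_congr rfl fun _ _ => Finset.sum_congr rfl fun _ _ => by ring

theorem ip_co_right : ip b (co w K φ) =
    (Nat.card K : ℂ)⁻¹ * ∑ k ∈ fs (K : Set G), φ k * ip b (col (w * k)) := by
  rw [← ip_conj, ip_co_left]
  simp only [map_mul, map_sum, map_inv₀, map_natCast, Complex.conj_conj, ip_conj]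

theorem co_add_right : co w K (φ + ψ) = co w K φ + co w K ψ := funext fun _ => dot_add_right _ _ _
theorem co_sub_right : co w K (φ - ψ) = co w K φ - co w K ψ := funext fun _ => dot_sub_right _ _ _

theorem ip_col_of (e : ∃ x, x * g * x⁻¹ = h) : ip (col g) (col h) = Nat.card C1[g] := by
  obtain ⟨x, e⟩ := e
  rw [ip, show (∑ χ ∈ Irr (⊤ : Subgroup G), col g χ * conj (col h χ)) = _ from
    column_orth (mem_top g), if_pos ⟨x, mem_top x, e⟩, top_inf_eq]

theorem ip_col_self : ip (col g) (col g) = Nat.card C1[g] := ip_col_of ⟨1, by simp⟩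

theorem ip_col_zero (e : ∀ x, x * g * x⁻¹ ≠ h) : ip (col g) (col h) = 0 := by
  rw [ip, show (∑ χ ∈ Irr (⊤ : Subgroup G), col g χ * conj (col h χ)) = _ from
    column_orth (mem_top g), if_neg fun ⟨x, _, k⟩ => e x k]

theorem ip_col_pow {m : ℕ} (h1 : g ^ m = 1) (h2 : h ^ m ≠ 1) :
    ip (col g) (col h) = 0 ∧ ip (col h) (col g) = 0 := by
  have : ip (col g) (col h) = 0 := ip_col_zero fun x e => h2 (by rw [← e, conj_pow, h1]; simp)
  exact ⟨this, by rw [← ip_conj, this, map_zero]⟩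

theorem ip_col : ip (col g) (col h) =
    ∑ x ∈ fs ((⊤ : Subgroup G) : Set G), if x * g * x⁻¹ = h then 1 else 0 := by
  rw [sum_conj_ccls (fun y => if y = h then 1 else 0), Finset.sum_ite_eq']
  split_ifs with k
  · rw [mul_one]; exact ip_col_of (mem_ccls.1 (mem_fs.1 k))
  · rw [mul_zero]; exact ip_col_zero fun x e => k (mem_fs.2 ⟨x, e⟩)

theorem ip_co_one (e : ∀ k ∈ K, w * k = 1 → φ k = 0) : ip (co w K φ) (col 1) = 0 := by
  rw [ip_co_left, sum_fs_eq_zero, mul_zero]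
  intro k hk
  by_cases h : w * k = 1
  · rw [e k hk h, map_zero, zero_mul]
  · rw [ip_col_zero fun x e => h (H16.conj_eq_one_iff.1 e), mul_zero]

/-- inner products of averages over trivial intersection cosets -/
theorem ip_ti {w' : G} {D : Set G} (h1 : ∀ x ∈ D, x ∈ N[K] ∧ x * w * x⁻¹ = w')
    (h2 : ∀ x, ∀ k ∈ K, ∀ k' ∈ K, k ≠ 1 → k' ≠ 1 → x * (w * k) * x⁻¹ = w' * k' → x ∈ D)
    (p : φ 1 = 0) (p' : ψ 1 = 0) : ip (co w K φ) (co w' K ψ) =
      (Nat.card K : ℂ)⁻¹ * ∑ x ∈ fs D, dot K (fun k => ψ (x * k * x⁻¹)) φ := by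
  rw [ip_co_left]
  congr 1
  simp only [ip_co_right, ip_col, Finset.mul_sum]
  rw [Finset.sum_congr rfl fun k _ => Finset.sum_comm, Finset.sum_comm,
    ← sum_fs_subset (A := D) (fun _ _ => mem_top _) fun x _ hx => sum_fs_eq_zero fun k hk =>
      sum_fs_eq_zero fun k' hk' => ?_]
  · refine sum_fs_congr fun x hx => ?_
    rw [dot_def, Finset.mul_sum]
    refine sum_fs_congr fun k hk => ?_
    obtain ⟨e1, e2⟩ := h1 x hx
    rw [Finset.sum_eq_single_of_mem (x * k * x⁻¹) (mem_fs.2 (H16.conj_mem e1 hk)) fun k' _ n => by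
      rw [if_neg fun e => n (mul_left_cancel (a := w') (by rw [← e, ← e2]; group))]; simp,
      if_pos (by rw [← e2]; group)]
    ring
  · split_ifs with e
    · by_cases k1 : k = 1
      · simp [k1, p]
      · by_cases k2 : k' = 1
        · simp [k2, p']
        · exact absurd (h2 x k hk k' hk' k1 k2 e) hx
    · simp

theorem fs_zp (h2 : t * t = 1) (h1 : t ≠ 1) {M : Type*} [AddCommMonoid M] (F : G → M) :
    ∑ x ∈ fs (zpowers t : Set G), F x = F 1 + F t := by
  have o : orderOf t = 2 := orderOf_eq_prime (by rw [pow_two, h2]) h1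
  rw [show fs (zpowers t : Set G) = {1, t} from ?_, Finset.sum_pair h1.symm]
  ext x
  simp only [mem_fs, SetLike.mem_coe, Finset.mem_insert, Finset.mem_singleton]
  refine ⟨fun hx => ?_, by rintro (rfl | rfl); exacts [one_mem _, mem_zpowers _]⟩
  rw [mem_zpowers_iff_mem_range_orderOf, o] at hx
  simp only [Finset.mem_image, Finset.mem_range] at hx
  obtain ⟨i, hi, rfl⟩ := hx
  interval_cases i <;> simp

theorem compl_zp (h2 : t * t = 1) (hK : t ∉ K) (hc : t ∈ C[K]) :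
    IsComplIn (zpowers t) K (zpowers t ⊔ K) := by
  refine ⟨le_sup_left, le_sup_right, ?_, fun m hm => ?_⟩
  · refine eq_bot_iff.2 fun x hx => ?_
    by_contra h
    have o : orderOf t = 2 := orderOf_eq_prime (by rw [pow_two, h2]) fun e => hK (e ▸ one_mem K)
    have : x ∈ zpowers t := hx.1
    rw [mem_zpowers_iff_mem_range_orderOf, o] at this
    simp only [Finset.mem_image, Finset.mem_range] at this
    obtain ⟨i, hi, rfl⟩ := this
    interval_cases i
    · simp at h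
    · exact hK (by simpa using hx.2)
  · obtain ⟨a, ha, k, hk, e⟩ := (H16.mem_sup_r (zpowers_le.2 (centralizer_le_normalizer _ hc))).1 hm
    exact ⟨a, ha, k, hk, e.symm⟩

/-- the eigenspaces of a central involution -/
theorem half (h2 : t * t = 1) (hK : t ∉ K) (hc : t ∈ C[K]) (hL : zpowers t ⊔ K ≤ L)
    (hφ : φ ∈ vchar L) {ε : ℂ} (hε : ε = 1 ∨ ε = -1) :
    Res (K : Set G) (fun x => (φ x + ε * φ (t * x)) / 2) ∈ vchar K := by
  have t1 : t ≠ 1 := fun e => hK (e ▸ one_mem K)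
  have cp := compl_zp h2 hK hc
  have hc' : zpowers t ≤ C[K] := zpowers_le.2 hc
  have e2 : ε * ε = 1 := by rcases hε with rfl | rfl <;> norm_num
  have ce : conj ε = ε := by rcases hε with rfl | rfl <;> simp
  have mz : ∀ x ∈ zpowers t, x = 1 ∨ x = t := fun x hx => by
    have : x ∈ fs (zpowers t : Set G) := mem_fs.2 hx
    by_contra hn
    push Not at hn
    have k := fs_zp h2 t1 (fun y => if y = x then (1 : ℕ) else 0)
    rw [Finset.sum_ite_eq', if_pos this, if_neg hn.1.symm, if_neg hn.2.symm] at k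
    omega
  let e : G → ℂ := fun x => if x = 1 then 1 else if x = t then ε else 0
  have e1 : e 1 = 1 := if_pos rfl
  have et : e t = ε := by simp only [e, if_neg t1, if_true]
  have he : IsLin (zpowers t) e := isLin_of_mul (fun x hx => by
    simp only [e]
    rw [if_neg (by rintro rfl; exact hx (one_mem _)),
      if_neg (by rintro rfl; exact hx (mem_zpowers _))]) e1
    fun x hx y hy => by
      rcases mz x hx with rfl | rfl <;> rcases mz y hy with rfl | rfl <;> simp [e1, et, h2, e2]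
  refine mem_vchar_of_dot (mem_cf_of (fun x hx => Res_of_not_mem _ hx) fun x hx k hk => ?_)
    fun l hl => ?_
  · have kL := hL (mem_sup_right hk)
    rw [Res_of_mem _ hx, Res_of_mem _ (K.mul_mem (K.mul_mem hk hx) (K.inv_mem hk)),
      cf_conj (vchar_cf hφ) x kL, ← cf_conj (vchar_cf hφ) (t * x) kL, ← mul_assoc k, hc k hk]
    simp only [mul_assoc]
  · obtain ⟨n, hn⟩ := vchar_dot_int_of_le hL hφ (irr_vchar (dp_mem_Irr cp hc' he.mem_Irr hl))
    refine ⟨n, ?_⟩
    rw [← hn, dot_Res_left, dot_def, dot_def, sum_compl cp, fs_zp h2 t1, ← card_compl cp,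
      Nat.card_zpowers, orderOf_eq_prime (p := 2) (by rw [pow_two, h2]) t1,
      ← Finset.sum_add_distrib, Finset.mul_sum, Finset.mul_sum]
    refine sum_fs_congr fun k hk => ?_
    rw [dp_apply cp.2.2.1 hc' _ _ (one_mem _) hk, dp_apply cp.2.2.1 hc' _ _ (mem_zpowers t) hk, e1, et]
    simp only [one_mul, map_mul, ce]
    push_cast
    ring

theorem co_int (h2 : t * t = 1) (hK : t ∉ K) (hc : t ∈ C[K]) (hχ : χ ∈ vchar ⊤) (hφ : φ ∈ vchar K) :
    ∃ n : ℤ, co t K φ χ = n := by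
  obtain ⟨n, hn⟩ := vchar_dot_int (half h2 hK hc le_top hχ (Or.inl rfl)) hφ
  obtain ⟨m, hm⟩ := vchar_dot_int_of_le le_top hχ hφ
  refine ⟨2 * n - m, ?_⟩
  rw [dot_Res_left] at hn
  push_cast
  rw [← hn, ← hm, co, dot_def, dot_def, dot_def, Finset.mul_sum, Finset.mul_sum, Finset.mul_sum,
    Finset.mul_sum, ← Finset.sum_sub_distrib]
  exact Finset.sum_congr rfl fun _ _ => by ring

/-- four averages over a four-group times `K` -/
theorem co_four {v : G} (h2 : t * t = 1) (v2 : v * v = 1) (hv : v ∉ K) (vc : v ∈ C[K])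
    (ht : t ∉ zpowers v ⊔ K) (tc : t ∈ C[zpowers v ⊔ K]) (hχ : χ ∈ vchar ⊤) (hφ : φ ∈ vchar K)
    {ε η : ℂ} (hε : ε = 1 ∨ ε = -1) (hη : η = 1 ∨ η = -1) : ∃ n : ℤ,
    (co 1 K φ χ + ε * co t K φ χ + η * co v K φ χ + ε * η * co (t * v) K φ χ) / 4 = n := by
  obtain ⟨n, hn⟩ := vchar_dot_int (half v2 hv vc le_rfl (half h2 ht tc le_top hχ hε) hη) hφ
  refine ⟨n, ?_⟩
  rw [← hn, dot_Res_left]
  simp only [co, dot_def, Finset.mul_sum, ← Finset.sum_add_distrib, Finset.sum_div]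
  refine sum_fs_congr fun k hk => ?_
  rw [Res_of_mem _ (mem_sup_right hk : k ∈ zpowers v ⊔ K), Res_of_mem _
    (mul_mem (mem_sup_left (mem_zpowers v)) (mem_sup_right hk) : v * k ∈ zpowers v ⊔ K)]
  simp only [one_mul, mul_assoc]
  ring

/-- the number of ways to write `g` as a product of two conjugates of `t` -/
noncomputable def Fc (t g : G) : ℕ := (ccls t ∩ {a | a⁻¹ * g ∈ ccls t}).ncard

/-- the weight in the class multiplication formula -/
noncomputable def wt (t : G) : (G → ℂ) → ℂ := fun χ => χ t ^ 2 / χ 1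

theorem ip_wt : ((ccls t).ncard : ℂ) ^ 2 * ip (wt t) (col g) = Nat.card G * Fc t g := by
  have h1 : pairSum t t (∑ χ ∈ Irr (⊤ : Subgroup G), conj (χ g) • χ) = Nat.card G * Fc t g := by
    have : (∑ χ ∈ Irr (⊤ : Subgroup G), conj (χ g) • χ) = ∑ x ∈ fs ((⊤ : Subgroup G) : Set G),
        fun y => (fun z => if z = g then (1 : ℂ) else 0) (x * y * x⁻¹) := by
      funext y
      rw [Finset.sum_apply, Finset.sum_apply, ← ip_col]
      exact Finset.sum_congr rfl fun _ _ => mul_comm _ _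
    rw [this, map_sum, sum_fs_congr fun x _ =>
      pairSum_conj t t x (fun z => if z = g then (1 : ℂ) else 0), sum_sub_const, card_top,
      pairSum_apply, Fc, ← mul_one ((_ : Set G).ncard : ℂ), ← sum_fs_const, ← sum_fs_indicator]
    congr 1
    refine sum_fs_congr fun u _ => ?_
    rw [Finset.sum_congr rfl (g := fun v => if v = u⁻¹ * g then 1 else 0) fun v _ =>
      if_congr eq_inv_mul_iff_mul_eq.symm rfl rfl, Finset.sum_ite_eq', Set.indicator_apply]
    exact if_congr mem_fs rfl rfl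
  rw [← h1, map_sum, ip, Finset.mul_sum]
  refine Finset.sum_congr rfl fun χ hχ => ?_
  rw [map_smul, pairSum_irr hχ, smul_eq_mul, wt, col]
  ring

theorem Ind_ti (hθ : θ ∈ cf B) (h : ∀ g, g * x * g⁻¹ ∈ B → g ∈ B) : Ind ⊤ B θ x = θ x := by
  rw [Ind_apply_cf' (cf_le_supp _ hθ), ← sum_fs_subset (A := B) (fun _ _ => mem_top _)
    fun g _ hg => cf_zero hθ fun e => hg (h g e),
    sum_fs_congr (g := fun _ => θ x) fun g hg => cf_conj hθ x hg, sum_sub_const,
    inv_mul_cancel_left₀ (card_ne _)]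

theorem Ind_zero (h : ∀ g, g * x * g⁻¹ ∉ B) : Ind ⊤ B θ x = 0 :=
  Ind_eq_zero_of fun g _ e => absurd e (h g)

theorem mackey (hQ : Q ≤ B) (s2 : s * s = 1) (sB : s ∉ B)
    (dc : ∀ g, g ∉ B → ∃ b ∈ B, ∃ u ∈ Q, g = b * s * u) (un : ∀ u ∈ Q, s * u * s ∈ B → u = 1)
    (hH : ∀ x, x ∈ H ↔ x ∈ B ∧ s * x * s ∈ B) (cd : Nat.card B = Nat.card Q * Nat.card H)
    (hα : α ∈ cf B) (hβ : β ∈ cf B) :
    dot ⊤ (Ind ⊤ B α) (Ind ⊤ B β) = dot B α β + dot H α (cfj s β) := by
  have si : s⁻¹ = s := inv_eq_of_mul_eq_one_right s2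
  have k : ∀ g, Ind ⊤ B β g = β g + ∑ y ∈ fs (Q : Set G), β (s * (y * g * y⁻¹) * s) := fun g => by
    rw [Ind_apply_cf' (cf_le_supp _ hβ), sum_fs_diff (A := B) fun _ _ => mem_top _,
      sum_fs_congr (g := fun _ => β g) fun x hx => cf_conj hβ g hx, sum_sub_const,
      ← sum_fs_bij (A := (B : Set G) ×ˢ (Q : Set G)) (B := ((⊤ : Subgroup G) : Set G) \ B)
        (fun p : G × G => p.1 * s * p.2)
        ⟨fun p hp => ⟨mem_top _, fun e => sB ((mul_mem_cancel_left hp.1).1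
          ((mul_mem_cancel_right (hQ hp.2)).1 e))⟩, fun p hp q hq e => ?_, fun x hx => by
          obtain ⟨k, h1, y, h2, e⟩ := dc x hx.2
          exact ⟨(k, y), ⟨h1, h2⟩, e.symm⟩⟩,
      show fs ((B : Set G) ×ˢ (Q : Set G)) = fs (B : Set G) ×ˢ fs (Q : Set G) by ext; simp,
      Finset.sum_product,
      sum_fs_congr (g := fun _ => ∑ y ∈ fs (Q : Set G), β (s * (y * g * y⁻¹) * s)) fun x hx =>
        Finset.sum_congr rfl fun y _ => by
          rw [← cf_conj hβ (s * (y * g * y⁻¹) * s) hx]; simp [mul_assoc, si],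
      sum_sub_const, ← mul_add, inv_mul_cancel_left₀ (card_ne _)]
    have e' : p.1 * s * p.2 = q.1 * s * q.2 := e
    have : p.2 = q.2 := mul_inv_eq_one.1 (un _ (Q.mul_mem hp.2 (Q.inv_mem hq.2)) (by
      rw [show s * (p.2 * q.2⁻¹) * s = p.1⁻¹ * (p.1 * s * p.2) * q.2⁻¹ * s by group, e',
        show p.1⁻¹ * (q.1 * s * q.2) * q.2⁻¹ * s = p.1⁻¹ * q.1 * (s * s) by group, s2, mul_one]
      exact B.mul_mem (B.inv_mem hp.1) hq.1))
    rw [this] at e'
    exact Prod.ext (mul_right_cancel (mul_right_cancel e')) this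
  rw [dot_Ind_left le_top _ (Ind_mem_cf le_top β),
    dot_congr (ψ' := β + ∑ y ∈ fs (Q : Set G), cfj y⁻¹ (cfj s β))
    (fun _ _ => rfl) (fun x _ => by rw [k x]; simp [si]), dot_add_right, dot_sum_right,
    sum_fs_congr (g := fun _ => dot B α (cfj s β)) fun y hy => by
      rw [← dot_cfj_left (H16.le_norm _ (hQ hy)), cfj_of_mem hα (hQ hy)], sum_sub_const,
    add_right_inj, dot_def, dot_def, cd, ← sum_fs_subset (A := H) (fun x hx => ((hH x).1 hx).1)
      fun x hx hx' => by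
        rw [cfj_apply, si, cf_zero hβ fun e => hx' ((hH x).2 ⟨hx, e⟩), map_zero, mul_zero]]
  push_cast
  rw [mul_inv, mul_assoc, mul_inv_cancel_left₀ (card_ne Q)]

theorem lin_fixed (hK : K ≤ C[K]) (hx : x ∈ N[K]) (hf : K ⊓ C1[x] = ⊥) (hμ : IsLin K μ)
    (e : ∀ k ∈ K, μ (x * k * x⁻¹) = μ k) : μ = CF.one K := by
  refine cf_ext hμ.cf (one_mem_cf K) fun k hk => ?_
  let F : K → K := fun y => ⟨y.1⁻¹ * (x * y.1 * x⁻¹), K.mul_mem (K.inv_mem y.2) (H16.conj_mem hx y.2)⟩
  have hF : Function.Injective F := fun y z e => by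
    have e' : y.1⁻¹ * (x * y.1 * x⁻¹) = z.1⁻¹ * (x * z.1 * x⁻¹) := congrArg Subtype.val e
    refine Subtype.ext (mul_inv_eq_one.1 (H16.eq_one_of_mem_bot hf (x := y.1 * z.1⁻¹)
      ⟨K.mul_mem y.2 (K.inv_mem z.2), H16.mem_cent1.2 ?_⟩))
    calc y.1 * z.1⁻¹ * x = y.1 * (z.1⁻¹ * (x * z.1 * x⁻¹)) * x * z.1⁻¹ := by group
      _ = x * (y.1 * z.1⁻¹) := by rw [← e']; group
  obtain ⟨y, hy⟩ := (Finite.injective_iff_surjective.1 hF) ⟨k, hk⟩
  rw [← show y.1⁻¹ * (x * y.1 * x⁻¹) = k from congrArg Subtype.val hy,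
    hμ.map_mul (K.inv_mem y.2) (H16.conj_mem hx y.2), e _ y.2, ← hμ.map_mul (K.inv_mem y.2) y.2,
    inv_mul_cancel, hμ.one_apply, one_of_mem (F y).2]

theorem parity (ho : Odd (Nat.card K)) {F : G → ℂ} (h1 : ∀ k ∈ K, IsIntegral ℤ (F k))
    (h2 : ∀ k ∈ K, F k⁻¹ = F k) {m : ℤ} (h : ∑ k ∈ fs (K : Set G), F k = F 1 + m) : Even m := by
  let e := Finite.equivFin G
  have hs : ∑ k ∈ fs ((K : Set G) \ {1}), F k =
      2 * ∑ k ∈ fs {k | k ∈ K ∧ e k < e k⁻¹}, F k := by
    rw [show (K : Set G) \ {1} = {k | k ∈ K ∧ e k < e k⁻¹} ∪ {k | k ∈ K ∧ e k⁻¹ < e k} from ?_,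
      sum_fs_union (Set.disjoint_left.2 fun k a b => lt_asymm a.2 b.2), two_mul,
      ← sum_fs_bij (A := {k | k ∈ K ∧ e k < e k⁻¹}) (B := {k | k ∈ K ∧ e k⁻¹ < e k}) (fun k => k⁻¹)
        ⟨fun k hk => ⟨K.inv_mem hk.1, by simpa using hk.2⟩, inv_injective.injOn,
          fun k hk => ⟨k⁻¹, ⟨K.inv_mem hk.1, by simpa using hk.2⟩, inv_inv k⟩⟩,
      sum_fs_congr (f := fun k => F k⁻¹) fun k hk => h2 k hk.1]
    ext k
    constructor
    · rintro ⟨hk, k1⟩
      rcases lt_trichotomy (e k) (e k⁻¹) with l | l | l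
      · exact Or.inl ⟨hk, l⟩
      · refine absurd (orderOf_eq_one_iff.1 (Nat.eq_one_of_dvd_coprimes (Nat.coprime_two_left.2 ho)
          (orderOf_dvd_of_pow_eq_one ?_) (K.orderOf_dvd_natCard hk))) k1
        rw [pow_two]; exact mul_eq_one_iff_eq_inv.2 (e.injective l)
      · exact Or.inr ⟨hk, l⟩
    · rintro (⟨hk, l⟩ | ⟨hk, l⟩) <;> exact ⟨hk, by rintro rfl; simp at l⟩
  rw [sum_fs_diff (A := {1}) (by simp), fs_singleton, Finset.sum_singleton, add_right_inj, hs] at h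
  have : IsIntegral ℤ ((m : ℚ) / 2) := by
    rw [← isIntegral_algebraMap_iff (B := ℂ) (algebraMap ℚ ℂ).injective]
    have : algebraMap ℚ ℂ ((m : ℚ) / 2) = ∑ k ∈ fs {k | k ∈ K ∧ e k < e k⁻¹}, F k := by
      simp [← h]
    rw [this]
    exact IsIntegral.sum _ fun k hk => h1 k (mem_fs.1 hk).1
  obtain ⟨z, hz⟩ := IsIntegrallyClosed.isIntegral_iff.1 this
  refine ⟨z, ?_⟩
  have : (m : ℚ) = z + z := by
    have : (z : ℚ) = m / 2 := hz
    linear_combination -2 * this
  exact_mod_cast this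

end H15.Rw
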