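import Cfsg.Agent.H15.Rw2
import Cfsg.Agent.H26.JS1

/-! Groups of Ree type: columns at the elements `t u`, `u` of order three. -/

set_option autoImplicit false
set_option linter.unusedSectionVars false

namespace H15.Rw

open Subgroup _root_.Cfsg CF H18 H26.J
open scoped ComplexConjugate H16 Classical

universe v

variable {G : Type v} [Group G] [Finite G] {S P Y Q B : Subgroup G} {n ρ τ : ℕ}
  {g t s u x y : G} {φ ψ χ μ θ : G → ℂ}

section
variable (r : RE S n ρ τ t s P Y Q B)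
include r

theorem ar : 3 ^ n + 1 = 4 * ρ ∧ 3 ^ n = 2 * τ + 1 :=
  ⟨(r.lf.minus_of_three rfl).1, (r.lf.minus_of_three rfl).2.1⟩

theorem card_Y : Nat.card Y = τ := (r.h.c3_card rfl r.c).2.1

theorem ti (hx : x ∈ Q) (h1 : x ≠ 1) (h : g * x * g⁻¹ ∈ B) : g ∈ B :=
  inv_mem_iff.1 (r.q.mem_of r.h r.c hx h1 (H16.mem_cj.2 (by simpa using h)))

theorem Pt (hx : x ∈ P) : t * x = x * t := (H16.mem_cent1.1 (r.q.inf.ge hx).2).symm

theorem t1 : t ≠ 1 := r.c.t1

theorem tQ : t ∉ Q := fun h => by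
  have := Q.orderOf_dvd_natCard h
  rw [r.ot] at this
  exact (Nat.not_even_iff_odd.2 (r.q.odd r.h r.c)) (even_iff_two_dvd.2 this)

theorem tu_pow (hx : x ∈ P) : (t * x) ^ 3 = t ∧ (t * x) ^ 4 = x ∧ (t * x) ^ 2 = x⁻¹ := by
  have c : Commute t x := Pt r hx
  have e3 := r.P_pow hx
  have e2 : t ^ 2 = 1 := by rw [pow_two, r.t2]
  refine ⟨?_, ?_, ?_⟩
  · rw [c.mul_pow, e3, pow_succ, e2]; simp
  · rw [c.mul_pow, pow_succ x, e3, show 4 = 2 * 2 from rfl, pow_mul, e2]; simp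
  · rw [c.mul_pow, e2, one_mul, eq_inv_iff_mul_eq_one, ← pow_succ, e3]

theorem not_real (hu : u ∈ P) (h : g * u * g⁻¹ = u⁻¹) : u = 1 := by
  by_contra u1
  exact u1 (H16.GD.J8d.one_of_real (r.q.not_four r.h r.c) r.tB r.ot
    (ti r (r.PQ hu) u1 (h ▸ r.QB (r.PQ (P.inv_mem hu)))) (r.q.inf.ge hu).2
    ((r.q.odd r.h r.c).of_dvd_nat (Q.orderOf_dvd_natCard (r.PQ hu))) h)

theorem not_real' (hu : u ∈ P) (u1 : u ≠ 1) (g : G) : g * (t * u) * g⁻¹ ≠ t * u⁻¹ := fun e =>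
  u1 (not_real r hu (g := g) (by
    rw [← (tu_pow r (P.inv_mem hu)).2.1, ← e, conj_pow, (tu_pow r hu).2.1]))

theorem ti' (hu : u ∈ P) (u1 : u ≠ 1) (g : G) (h : g * (t * u) * g⁻¹ ∈ B) : g ∈ B :=
  ti r (r.PQ hu) u1 (by rw [← (tu_pow r hu).2.1, ← conj_pow]; exact B.pow_mem h 4)

theorem card_tu (hu : u ∈ P) (u1 : u ≠ 1) : Nat.card C1[t * u] = 2 * 3 ^ n := by
  have hP : P ≤ C1[t] := fun x hx => (r.q.inf.ge hx).2
  rw [← r.card_P, ← card_two_sup r.ot hP fun h => tQ r (r.PQ h)]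
  congr 2
  refine le_antisymm (fun g hg => ?_) (sup_le (zpowers_le.2 (H16.mem_cent1.2 ?_))
    fun x hx => H16.mem_cent1.2 ?_)
  · have c : Commute g (t * u) := H16.mem_cent1.1 hg
    have c1 : g ∈ C1[t] := H16.mem_cent1.2 ((tu_pow r hu).1 ▸ c.pow_right 3)
    have c2 : Commute g u := (tu_pow r hu).2.1 ▸ c.pow_right 4
    have k := (r.lf.syl P r.c.syl).2.2 u hu u1
    rw [r.h.cent_eq' r.ot, mem_two_sup r.ot r.Lt_le] at c1
    refine (mem_two_sup r.ot hP).2 ?_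
    exact c1.imp (fun h => k.le ⟨h, H16.mem_cent1.2 c2⟩) fun h => k.le ⟨h, H16.mem_cent1.2
      ((show Commute t u from Pt r hu).mul_left c2)⟩
  · rw [mul_assoc, ← Pt r hu]
  · rw [← mul_assoc, ← Pt r hx, mul_assoc, mul_assoc, r.P_comm hu x hx]

theorem sumP (hu : u ∈ P) (u1 : u ≠ 1) (F : G → ℂ) : ∑ x ∈ fs (P : Set G), F x =
    F 1 + ∑ y ∈ fs (Y : Set G), F (y * u * y⁻¹) + ∑ y ∈ fs (Y : Set G), F (y * u⁻¹ * y⁻¹) := by
  have inj : ∀ u ∈ P, u ≠ 1 → Set.InjOn (fun y => y * u * y⁻¹) Y := fun u hu u1 a ha b hb e => by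
    by_contra hn
    have e' : a * u * a⁻¹ = b * u * b⁻¹ := e
    refine u1 (H16.eq_one_of_mem_bot (H16.GD.J8d.frob r.h r.c (Y.mul_mem (Y.inv_mem hb) ha)
      fun k => hn (inv_mul_eq_one.1 k).symm) ⟨hu, H16.mem_cent1.2 ?_⟩)
    calc u * (b⁻¹ * a) = b⁻¹ * (b * u * b⁻¹) * a := by group
      _ = _ := by rw [← e']; group
  have u1' := inv_ne_one.2 u1
  have d : Disjoint ((fun y => y * u * y⁻¹) '' Y) ((fun y => y * u⁻¹ * y⁻¹) '' Y) :=
    Set.disjoint_left.2 fun x ⟨a, ha, e⟩ ⟨b, hb, e'⟩ => u1 (not_real r hu (g := b⁻¹ * a) (by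
      have : a * u * a⁻¹ = b * u⁻¹ * b⁻¹ := e.trans e'.symm
      calc _ = b⁻¹ * (a * u * a⁻¹) * b := by group
        _ = _ := by rw [this]; group))
  rw [H17.sum_sharp, add_assoc, sum_fs_bij _ (inj u hu u1).bijOn_image F,
    sum_fs_bij _ (inj _ (P.inv_mem hu) u1').bijOn_image F, ← sum_fs_union d]
  congr 3
  symm
  refine Set.eq_of_subset_of_ncard_le ?_ ?_
  · rintro x (⟨a, ha, rfl⟩ | ⟨a, ha, rfl⟩)
    · exact ⟨H16.conj_mem (r.YP ha) hu, H16.conj_eq_one_iff.not.2 u1⟩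
    · exact ⟨H16.conj_mem (r.YP ha) (P.inv_mem hu), H16.conj_eq_one_iff.not.2 u1'⟩
  · rw [Set.ncard_union_eq d, (inj u hu u1).ncard_image, (inj _ (P.inv_mem hu) u1').ncard_image,
      Set.ncard_sdiff_singleton_of_mem P.one_mem, ← Nat.card_coe_set_eq, ← Nat.card_coe_set_eq]
    have := r.card_P
    have := card_Y r
    have := (ar r).2
    simp only [SetLike.coe_sort_coe]
    omega

theorem co_P (hu : u ∈ P) (u1 : u ≠ 1) (hχ : χ ∈ cf ⊤) : co t P φ χ = ((3 ^ n : ℕ) : ℂ)⁻¹ *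
    (χ t * conj (φ 1) + χ (t * u) * conj (∑ y ∈ fs (Y : Set G), φ (y * u * y⁻¹)) +
      χ (t * u⁻¹) * conj (∑ y ∈ fs (Y : Set G), φ (y * u⁻¹ * y⁻¹))) := by
  have k : ∀ x, ∀ y ∈ Y, χ (t * (y * x * y⁻¹)) = χ (t * x) := fun x y hy => by
    rw [← cf_conj hχ (t * x) (mem_top y), ← mul_assoc y, H16.mem_cent1.1 (r.Yt hy)]
    simp only [mul_assoc]
  rw [co, dot_def, sumP r hu u1, r.card_P, mul_one, map_sum, map_sum, Finset.mul_sum,
    Finset.mul_sum, sum_fs_congr fun y hy => by rw [k u y hy],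
    sum_fs_congr (f := fun y => χ (t * (y * u⁻¹ * y⁻¹)) * _) fun y hy => by rw [k _ y hy]]

theorem co_one (hu : u ∈ P) (u1 : u ≠ 1) (hχ : χ ∈ cf ⊤) : co t P (CF.one P) χ =
    (χ t + τ * χ (t * u) + τ * χ (t * u⁻¹)) / (3 ^ n : ℕ) := by
  rw [co_P r hu u1 hχ, sum_fs_congr fun y hy => one_of_mem (H16.conj_mem (r.YP hy) hu),
    sum_fs_congr fun y hy => one_of_mem (H16.conj_mem (r.YP hy) (P.inv_mem hu)), sum_sub_const,
    card_Y r]
  simp only [one_one, map_one, mul_one, map_natCast]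
  ring

/-- the Gauss sum -/
theorem exists_c (hu : u ∈ P) (u1 : u ≠ 1) : ∃ c : ℂ, c * conj c * (3 ^ n : ℕ) = 1 ∧
    ∀ χ ∈ vchar (⊤ : Subgroup G), ∃ a b : ℤ,
      (2 * χ t - χ (t * u) - χ (t * u⁻¹)) / (3 ^ n : ℕ) = a + b ∧
      c * (χ (t * u) - χ (t * u⁻¹)) = a - b := by
  obtain ⟨l, hl, k⟩ := exists_Irr_not_le (H := P) (r.q.P_ne r.h r.c)
  have ll := isLin_of_comm (H16.comm_iff.2 r.P_comm) hl
  have l1 : l ≠ CF.one P := fun e => k (by rw [e, cfker_one])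
  set η := ∑ y ∈ fs (Y : Set G), l (y * u * y⁻¹) with hη
  have e1 : ∑ y ∈ fs (Y : Set G), l (y * u⁻¹ * y⁻¹) = conj η := by
    rw [map_sum]
    exact Finset.sum_congr rfl fun y _ => by rw [ll.char.conj_apply]; congr 1; group
  have q0 : ((3 ^ n : ℕ) : ℂ) ≠ 0 := Nat.cast_ne_zero.2 (by positivity)
  have e2 : 1 + η + conj η = 0 := by
    have := dot_irr_ne hl (one_mem_Irr P) l1
    rw [dot_one_right, sumP r hu u1, e1, ll.one_apply] at this
    exact (mul_eq_zero.1 this).resolve_left (inv_ne_zero (card_ne P))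
  have e3 : 2 * (η * conj η) = τ + 1 := by
    let L : G → ℂ := ∑ y ∈ fs (Y : Set G), cfj y⁻¹ l
    have hL : ∀ x, L x = ∑ y ∈ fs (Y : Set G), l (y * x * y⁻¹) := fun x => by
      simp [L, Finset.sum_apply]
    have hi : ∀ x, ∀ z ∈ Y, L (z * x * z⁻¹) = L x := fun x z hz => by
      rw [hL, hL, ← sum_mul_right hz (fun y => l (y * x * y⁻¹))]
      exact Finset.sum_congr rfl fun y _ => by congr 1; group
    have d1 : dot P L L = τ := by
      rw [dot_sum_left, sum_fs_congr (g := fun _ => 1) fun y hy => ?_, sum_sub_const, card_Y r,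
        mul_one]
      have m : ∀ y ∈ Y, cfj y⁻¹ l ∈ Irr P := fun y hy => cfj_mem_Irr_norm (r.YP (Y.inv_mem hy)) hl
      rw [dot_sum_right, Finset.sum_eq_single_of_mem y (mem_fs.2 hy) fun z hz ne =>
        dot_irr_ne (m y hy) (m z (mem_fs.1 hz)) fun e => l1 ?_, dot_irr_self (m y hy)]
      have hz' : z * y⁻¹ ∈ Y := Y.mul_mem (mem_fs.1 hz) (Y.inv_mem hy)
      refine lin_fixed r.P_comm (r.YP hz') (H16.GD.J8d.frob r.h r.c hz' fun k => ne (mul_inv_eq_one.1 k)) ll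
        fun k _ => ?_
      have := congrFun e (y⁻¹ * k * y)
      simp only [cfj_apply, inv_inv] at this
      rw [show y * (y⁻¹ * k * y) * y⁻¹ = k by group] at this
      rw [this]; congr 1; group
    rw [dot_def, sumP r hu u1, sum_fs_congr fun y hy => by rw [hi u y hy],
      sum_fs_congr (f := fun y => L (y * u⁻¹ * y⁻¹) * _) fun y hy => by rw [hi _ y hy],
      sum_sub_const, sum_sub_const, hL, hL, hL, e1, ← hη, r.card_P, card_Y r] at d1
    simp only [mul_one, mul_inv_cancel, ll.one_apply, sum_sub_const, card_Y r, map_natCast,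
      Complex.conj_conj] at d1
    rw [inv_mul_eq_iff_eq_mul₀ q0, (ar r).2] at d1
    have t0 : (τ : ℂ) ≠ 0 := Nat.cast_ne_zero.2 (by have := r.lf.three_le_tau; omega)
    refine mul_left_cancel₀ t0 ?_
    push_cast at d1
    linear_combination d1
  have e4 : ((3 ^ n : ℕ) : ℂ) = 2 * τ + 1 := by rw [(ar r).2]; push_cast; rfl
  refine ⟨(conj η - η) / (3 ^ n : ℕ), ?_, fun χ hχ => ?_⟩
  · rw [map_div₀, map_natCast, map_sub, Complex.conj_conj]
    field_simp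
    linear_combination 2 * e3 - e4 - (η + conj η - 1) * e2
  · have tc : t ∈ C[P] := fun x hx => (Pt r hx).symm
    have tP : t ∉ P := fun h => tQ r (r.PQ h)
    obtain ⟨a, ha⟩ := co_int r.t2 tP tc hχ ll.vchar
    obtain ⟨b, hb⟩ := co_int r.t2 tP tc hχ ll.star.vchar
    rw [co_P r hu u1 (vchar_cf hχ), e1, ← hη, ll.one_apply] at ha
    rw [co_P r hu u1 (vchar_cf hχ)] at hb
    simp only [Pi.star_apply, RCLike.star_def, ← map_sum, e1, ← hη, ll.one_apply,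
      Complex.conj_conj, map_one] at ha hb
    refine ⟨a, b, ?_, ?_⟩
    · rw [← ha, ← hb]
      linear_combination (-(χ (t * u) + χ (t * u⁻¹)) / (3 ^ n : ℕ)) * e2
    · rw [← ha, ← hb]; ring

/-- averages over `t Q` and over `t P` agree -/
theorem avg (hχ : χ ∈ cf ⊤) : co t Q (CF.one Q) χ = co t P (CF.one P) χ := by
  have ex : ∀ x, ∃ c p : G, x ∈ Q → c ∈ Q ∧ p ∈ P ∧ c * (t * p) * c⁻¹ = t * x := fun x => by
    by_cases hx : x ∈ Q
    swap
    · exact ⟨1, 1, fun h => absurd h hx⟩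
    have tn : ∀ y ∈ Q, t * y * t ∈ Q := fun y hy => by
      have := H16.conj_mem (r.nQ r.tB) hy
      rwa [inv_eq_of_mul_eq_one_right r.t2] at this
    have h2 : (t * x) ^ 2 ∈ Q := by rw [pow_two, ← mul_assoc]; exact Q.mul_mem (tn x hx) hx
    obtain ⟨m, hm⟩ := r.q.odd r.h r.c
    have o : orderOf ((t * x) ^ Nat.card Q) = 2 := orderOf_eq_prime (by
      rw [← pow_mul, mul_comm, pow_mul]
      exact congrArg Subtype.val (pow_card_eq_one' (x := (⟨_, h2⟩ : Q)))) fun e => tQ r (by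
        rw [hm, pow_succ, pow_mul, mul_eq_one_iff_inv_eq] at e
        exact (mul_mem_cancel_right hx).1 (e ▸ Q.inv_mem (Q.pow_mem h2 m)))
    obtain ⟨c, hc, e⟩ := r.inv_B (B.pow_mem (B.mul_mem r.tB (r.QB hx)) _) o
    refine ⟨c, t * c⁻¹ * t * x * c, fun _ => ⟨hc, r.q.inf.le ⟨Q.mul_mem (Q.mul_mem
      (tn _ (Q.inv_mem hc)) hx) hc, H16.mem_cent1.2 ?_⟩, ?_⟩⟩
    · have k : t * x * (c * t * c⁻¹) = c * t * c⁻¹ * (t * x) := by
        rw [e]; exact Commute.self_pow _ _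
      calc _ = t * c⁻¹ * (t * x * (c * t * c⁻¹)) * c := by group
        _ = _ := by rw [k]; group
    · calc _ = c * (t * t) * c⁻¹ * t * x := by group
        _ = _ := by rw [r.t2]; group
  choose c p h using ex
  have b : Set.BijOn (fun z : G × G => (c z.1 * z.2, p z.1)) ((Q : Set G) ×ˢ (P : Set G))
      ((Q : Set G) ×ˢ (P : Set G)) := ((Set.toFinite _).injOn_iff_bijOn_of_mapsTo
    fun z hz => Set.mk_mem_prod (Q.mul_mem (h _ hz.1).1 (r.PQ hz.2)) (h _ hz.1).2.1).1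
      fun z hz w hw e => by
      have k : ∀ z ∈ (Q : Set G) ×ˢ (P : Set G),
          c z.1 * z.2 * (t * p z.1) * (c z.1 * z.2)⁻¹ = t * z.1 := fun z hz => by
        rw [← (h _ hz.1).2.2, mul_assoc _ z.2, ← mul_assoc z.2, ← Pt r hz.2, mul_assoc t,
          r.P_comm (h _ hz.1).2.1 _ hz.2]
        group
      obtain ⟨e1, e2⟩ := Prod.ext_iff.1 e
      have e3 : z.1 = w.1 := mul_left_cancel (a := t) (by
        rw [← k z hz, ← k w hw, show c z.1 * z.2 = c w.1 * w.2 from e1, show p z.1 = p w.1 from e2])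
      exact Prod.ext e3 (mul_left_cancel (a := c z.1) (e1.trans (by rw [e3])))
  have := sum_fs_bij _ b (fun z => χ (t * z.2))
  rw [show fs ((Q : Set G) ×ˢ (P : Set G)) = fs (Q : Set G) ×ˢ fs (P : Set G) by ext; simp,
    Finset.sum_product, Finset.sum_product] at this
  dsimp only at this
  rw [sum_sub_const Q, sum_fs_congr (g := fun x => Nat.card P * χ (t * x)) fun x hx => by
      rw [sum_sub_const, ← (h x hx).2.2, cf_conj hχ _ (mem_top _)], ← Finset.mul_sum] at this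
  rw [co, co, dot_one_right, dot_one_right, inv_mul_eq_iff_eq_mul₀ (card_ne Q), mul_left_comm,
    ← this, inv_mul_cancel_left₀ (card_ne P)]

end

end H15.Rw
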