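import Cfsg.Agent.H15.Rw3
import Cfsg.Agent.H8.Cyc

/-! Groups of Ree type: columns at the elements centralizing a four-group. -/

set_option autoImplicit false
set_option linter.unusedSectionVars false

namespace H15.Rw

open Subgroup _root_.Cfsg CF H18 H26.J
open scoped ComplexConjugate H16 Classical

universe v

variable {G : Type v} [Group G] [Finite G] {S P Y Q B W : Subgroup G} {n ρ τ : ℕ}
  {g t s u x y c k k' w w' : G} {φ ψ χ μ θ : G → ℂ}

theorem nine (m : ℕ) : 9 ^ m % 5 = 1 ∨ 9 ^ m % 5 = 4 := by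
  induction m with
  | zero => simp
  | succ m ih => rw [pow_succ, Nat.mul_mod]; rcases ih with h | h <;> simp [h]

/-- the transporter -/
def DD (W : Subgroup G) (w w' : G) : Set G := {x | x ∈ N[W] ∧ x * w * x⁻¹ = w'}

section
variable (r : RE S n ρ τ t s P Y Q B) (hW : W ≤ S) (h4 : Nat.card W = 4)
include r hW h4

theorem card_R : Nat.card (RW W) = ρ := r.h.card_rw hW h4

theorem sqW (hw : w ∈ W) : w * w = 1 := (r.h.two_comm r.h.sy.2.1).2 w (hW hw)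

theorem WC' : W ≤ C[W] := hW.trans (r.h.comm.trans (centralizer_le hW))

theorem inn : W ⊔ RW W ≤ C[W] ⊓ C[RW W] := sup_le
  (le_inf (WC' r hW h4) (le_centralizer_iff.1 (r.h.rw_le_cent hW h4)))
  (le_inf (r.h.rw_le_cent hW h4) (r.h.rw_comm hW h4))

theorem odd_R (hk : k ∈ RW W) (h : k * k = 1) : k = 1 :=
  orderOf_eq_one_iff.1 (Nat.eq_one_of_dvd_coprimes (Nat.coprime_two_left.2 (r.h.rw_odd hW h4))
    (orderOf_dvd_of_pow_eq_one (by rw [pow_two, h])) ((RW W).orderOf_dvd_natCard hk))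

theorem out (hc : c ∈ C[W]) (h : c ∉ W ⊔ RW W) :
    c * c = 1 ∧ ∀ k ∈ RW W, c * k * c⁻¹ = k⁻¹ := by
  have p : Ph S = ⊥ := card_eq_one.1 r.h.card_ph
  rw [r.h.cent_four hW h4, r.h.ph_four hW h4, p, sup_bot_eq, H16.mem_sup_l
    ((r.h.comm.trans (centralizer_le hW)).trans ((centralizer_le_normalizer _).trans
      (r.h.norm_rw hW h4)))] at hc
  obtain ⟨a, ha, b, hb, rfl⟩ := hc
  have b1 : b ∉ W := fun e => h (mul_mem (mem_sup_right ha) (mem_sup_left e))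
  have b2 := (r.h.two_comm r.h.sy.2.1).2 b hb
  refine ⟨?_, fun k hk => ?_⟩
  · calc _ = a * (b * a * b⁻¹) * (b * b) := by group
      _ = 1 := by rw [r.h.rw_inv hW h4 hb b1 ha, b2]; group
  · calc _ = a * (b * k * b⁻¹) * a⁻¹ := by group
      _ = _ := by
        rw [r.h.rw_inv hW h4 hb b1 hk, r.h.rw_comm hW h4 ((RW W).inv_mem hk) a ha]; group

theorem normR (hk : k ∈ RW W) (h1 : k ≠ 1) : N[zpowers k] ≤ N[W] := by
  refine (r.h.cent_rt hW h4 hk h1).resolve_right ?_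
  rintro ⟨A, ⟨e⟩, -, -, -, -, u, hu, u1, hA, -⟩
  have := card_dvd_of_le hA
  rw [Nat.card_congr e.toEquiv, H26.J.card_a5, (r.h.lf u (r.h.ord hu fun e => u1 (e ▸ W.one_mem))).card]
    at this
  have h5 := (show 5 ∣ 60 by norm_num).trans this
  obtain ⟨m, hm⟩ := r.lf.odd_n
  have a1 := (ar r).1
  have a2 := H16.GD.J8d.not_five r.lf.odd_n (ar r).2
  have a3 := nine m
  rw [hm, pow_succ, pow_mul] at a1
  rcases (Nat.Prime.dvd_mul Nat.prime_five).1 h5 with h | h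
  · rcases (Nat.Prime.dvd_mul Nat.prime_five).1 h with h | h
    · exact absurd (Nat.prime_five.dvd_of_dvd_pow h) (by norm_num)
    · norm_num at a1; omega
  · exact a2 h

theorem fpf (hx : x ∈ N[W]) (h : x ∉ W ⊔ RW W) : RW W ⊓ C1[x] = ⊥ := by
  obtain ⟨u, d, cf⟩ := r.h.exists_cf hW h4
  have df := UQ.d_fpf r.h r.c r.q cf
  refine eq_bot_iff.2 fun k hk => ?_
  have e : x * k * x⁻¹ = k := by rw [← H16.mem_cent1.1 hk.2]; group
  rw [r.h.cf_sup cf, H16.mem_sup_l (H16.norm_cent (zpowers_le.2 cf.dN))]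
    at hx
  obtain ⟨c, hc, a, ha, rfl⟩ := hx
  have aN : a ∈ N[RW W] := r.h.norm_rw hW h4 (zpowers_le.2 cf.dN ha)
  have k1 : a * a * k * (a * a)⁻¹ = k := by
    by_cases hc' : c ∈ W ⊔ RW W
    · have : a * k * a⁻¹ = k :=
        calc _ = a * k * a⁻¹ * c * c⁻¹ := by group
          _ = c * a * k * (c * a)⁻¹ := by rw [(inn r hW h4 hc').2 _ (H16.conj_mem aN hk.1)]; group
          _ = k := e
      calc _ = a * (a * k * a⁻¹) * a⁻¹ := by group
        _ = _ := by rw [this, this]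
    · have : (a * k * a⁻¹)⁻¹ = k := by
        rw [← (out r hW h4 hc hc').2 _ (H16.conj_mem aN hk.1)]
        exact (by group : _ = c * a * k * (c * a)⁻¹).trans e
      calc _ = a * (a * k * a⁻¹) * a⁻¹ := by group
        _ = a * k⁻¹ * a⁻¹ := by rw [inv_eq_iff_eq_inv.1 this]
        _ = (a * k * a⁻¹)⁻¹ := by group
        _ = _ := this
  have d3 : d * d * d = 1 := by rw [← pow_three', ← cf.ord, pow_orderOf_eq_one]
  rcases mem_zp3 cf.ord ha with rfl | rfl | rfl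
  · rw [mul_one] at e h
    rw [(out r hW h4 hc h).2 k hk.1, inv_eq_iff_mul_eq_one] at e
    exact odd_R r hW h4 hk.1 e
  · refine df.le ⟨hk.1, H16.mem_cent1.2 ?_⟩
    rw [eq_inv_of_mul_eq_one_left d3] at k1
    calc k * a = a * (a⁻¹ * k * a⁻¹⁻¹) := by group
      _ = _ := by rw [k1]
  · refine df.le ⟨hk.1, H16.mem_cent1.2 ?_⟩
    rw [← mul_assoc, d3, one_mul] at k1
    calc k * d = d * k * d⁻¹ * d := by rw [k1]
      _ = _ := by group

theorem wk_pow (hw : w ∈ W) (hk : k ∈ RW W) : (w * k) ^ 2 = k ^ 2 ∧ (w * k) ^ ρ = w := by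
  have c : Commute w k := r.h.rw_le_cent hW h4 hk w hw
  have w2 : w ^ 2 = 1 := by rw [pow_two, sqW r hW h4 hw]
  obtain ⟨m, hm⟩ := r.lf.odd_rho
  refine ⟨by rw [c.mul_pow, w2, one_mul], ?_⟩
  rw [c.mul_pow, show k ^ ρ = 1 from card_R r hW h4 ▸ congrArg Subtype.val
    (pow_card_eq_one' (x := (⟨k, hk⟩ : RW W))), hm, pow_succ, pow_mul, w2]
  simp

theorem tiW (hw : w ∈ W) (hw' : w' ∈ W) (x : G) (k : G) (hk : k ∈ RW W) (k' : G) (hk' : k' ∈ RW W)
    (h1 : k ≠ 1) (h2 : k' ≠ 1) (e : x * (w * k) * x⁻¹ = w' * k') : x ∈ DD W w w' := by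
  have e2 : x * k ^ 2 * x⁻¹ = k' ^ 2 := by
    rw [← (wk_pow r hW h4 hw hk).1, ← (wk_pow r hW h4 hw' hk').1, ← e, conj_pow]
  refine ⟨normR r hW h4 ((RW W).pow_mem hk 2) (fun e => h1 (odd_R r hW h4 hk (by rw [← pow_two, e])))
    ?_, by rw [← (wk_pow r hW h4 hw hk).2, ← (wk_pow r hW h4 hw' hk').2, ← e, conj_pow]⟩
  obtain ⟨j, hj⟩ := H8.mem_zpowers_of_isCyclic (r.h.rw_cyclic hW h4) ((RW W).pow_mem hk 2)
    ((RW W).pow_mem hk' 2) (by rw [← e2, H16.orderOf_cj])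
  exact mem_norm_zpowers (e2.trans hj.symm)

theorem card_D1 : (DD W 1 1).ncard = 24 * ρ := by
  obtain ⟨u, d, cf⟩ := r.h.exists_cf hW h4
  rw [show DD W 1 1 = N[W] by ext; simp [DD], ← Nat.card_coe_set_eq, SetLike.coe_sort_coe,
    r.h.cf_sup cf, H16.card_sup_of_inf_bot
      (Or.inr (H16.norm_cent (zpowers_le.2 cf.dN))) ?_,
    r.h.card_cent_four hW h4, Nat.card_zpowers, cf.ord]
  · ring
  · refine eq_bot_iff.2 fun x hx => ?_
    by_contra x1
    have : d ∈ C[W] := zpowers_le.2 hx.1 (by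
      rcases mem_zp3 cf.ord hx.2 with rfl | rfl | rfl
      · exact absurd (mem_bot.2 rfl) x1
      · exact mem_zpowers _
      · refine ⟨2, ?_⟩
        have d3 : d * d * d = 1 := by rw [← pow_three', ← cf.ord, pow_orderOf_eq_one]
        show (d * d) ^ (2 : ℤ) = d
        rw [zpow_two, ← mul_assoc, d3, one_mul])
    have k := r.h.cf_fpf cf
    rw [inf_eq_left.2 fun w hw => H16.mem_cent1.2 (this w hw)] at k
    rw [k, card_bot] at h4
    omega

theorem card_D (hw : w ∈ W) (hw' : w' ∈ W) (h1 : w ≠ 1) (h2 : w' ≠ 1) :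
    (DD W w w').ncard = 8 * ρ := by
  obtain ⟨u, d, cf⟩ := r.h.exists_cf hW h4
  obtain ⟨a, ha, e⟩ := r.h.cf_trans cf hw h1 hw' h2
  have aN : a ∈ N[W] := zpowers_le.2 cf.dN ha
  rw [show DD W w w' = (fun x => a * x) '' C[W] from ?_,
    Set.ncard_image_of_injective _ (mul_right_injective a), ← Nat.card_coe_set_eq,
    SetLike.coe_sort_coe, r.h.card_cent_four hW h4, mul_one]
  ext x
  constructor
  · rintro ⟨h, e'⟩
    refine ⟨a⁻¹ * x, r.h.norm_cent_four hW h4 hw h1 ⟨N[W].mul_mem (N[W].inv_mem aN) h, H16.mem_cent1.2 ?_⟩,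
      mul_inv_cancel_left a x⟩
    calc _ = a⁻¹ * (x * w * x⁻¹) * x := by group
      _ = _ := by rw [e', ← e]; group
  · rintro ⟨c, hc, rfl⟩
    refine ⟨mul_mem aN (centralizer_le_normalizer _ hc), ?_⟩
    show a * c * w * (a * c)⁻¹ = w'
    rw [mul_assoc a, ← hc w hw, ← e]; group

theorem card_D0 (h : (w = 1 ∧ w' ≠ 1) ∨ (w ≠ 1 ∧ w' = 1)) : (DD W w w').ncard = 0 := by
  rw [show DD W w w' = ∅ from Set.eq_empty_of_forall_notMem fun x hx => ?_, Set.ncard_empty]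
  rcases h with ⟨rfl, h⟩ | ⟨h, rfl⟩
  · exact h (by rw [← hx.2]; simp)
  · exact h (H16.conj_eq_one_iff.1 hx.2)

theorem ip_D (hw : w ∈ W) (hw' : w' ∈ W) (p : φ 1 = 0) (p' : ψ 1 = 0) :
    ip (co w (RW W) φ) (co w' (RW W) ψ) =
      (ρ : ℂ)⁻¹ * ∑ x ∈ fs (DD W w w'), dot (RW W) (cfj x⁻¹ ψ) φ := by
  rw [ip_ti (fun x hx => ⟨r.h.norm_rw hW h4 hx.1, hx.2⟩) (tiW r hW h4 hw hw') p p', card_R r hW h4]
  congr 1
  exact Finset.sum_congr rfl fun x _ => dot_congr (fun _ _ => by simp) fun _ _ => rfl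

theorem lin_R (hμ : μ ∈ Irr (RW W)) : IsLin (RW W) μ :=
  isLin_of_comm (H16.comm_iff.2 (r.h.rw_comm hW h4)) hμ

theorem gram (hw : w ∈ W) (hw' : w' ∈ W) (hμ : μ ∈ Irr (RW W)) (h1 : μ ≠ CF.one (RW W)) :
    ip (co w (RW W) (CF.one (RW W) - μ)) (co w' (RW W) (CF.one (RW W) - μ)) =
      (ρ : ℂ)⁻¹ * (DD W w w').ncard + if w = w' then 4 else 0 := by
  have l := lin_R r hW h4 hμ
  have p : (CF.one (RW W) - μ) 1 = 0 := by simp [l.one_apply]
  have ρ0 : (ρ : ℂ) ≠ 0 := card_R r hW h4 ▸ card_ne _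
  rw [ip_D r hW h4 hw hw' p p, sum_fs_congr (g := fun x => 1 + Set.indicator (W ⊔ RW W : Subgroup G)
    (fun _ => 1) x) fun x hx => ?_, Finset.sum_add_distrib, sum_fs_indicator, sum_fs_const,
    sum_fs_const, mul_one, mul_one, mul_add]
  · congr 1
    split_ifs with e
    · rw [Set.inter_eq_right.2 fun x hx => show x ∈ DD W w w' from
        ⟨centralizer_le_normalizer _ (inn r hW h4 hx).1, by
        rw [← (inn r hW h4 hx).1 w hw, e, mul_inv_cancel_right]⟩, ← Nat.card_coe_set_eq,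
        SetLike.coe_sort_coe, r.h.card_sup_rw hW h4]
      push_cast
      field_simp
    · rw [show DD W w w' ∩ (W ⊔ RW W : Subgroup G) = ∅ from
        Set.eq_empty_of_forall_notMem fun x hx => e (by
          rw [← hx.1.2, ← (inn r hW h4 hx.2).1 w hw, mul_inv_cancel_right]), Set.ncard_empty]
      simp
  · have xN := inv_mem (r.h.norm_rw hW h4 hx.1)
    have m := cfj_mem_Irr_norm xN hμ
    rw [map_sub, cfj_one_norm xN, dot_sub_left, dot_sub_right, dot_sub_right, dot_one_one,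
      dot_irr_ne (one_mem_Irr _) hμ h1.symm, dot_irr_ne m (one_mem_Irr _)
        fun e => h1 ((cfj_eq_one_iff xN).1 e), Set.indicator_apply]
    split_ifs with e
    · rw [mem_stab.1 (cent_le_stab (cf_le_supp _ l.cf) (inv_mem (inn r hW h4 e).2)), dot_irr_self hμ]
      ring
    · rw [dot_irr_ne m hμ fun k => h1 (lin_fixed (r.h.rw_comm hW h4) (r.h.norm_rw hW h4 hx.1)
        (fpf r hW h4 hx.1 e) l fun y _ => by simpa using congrFun k y)]
      ring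

theorem co_l : co w (RW W) (CF.one (RW W)) =
    (ρ : ℂ)⁻¹ • col w + co w (RW W) (CF.one (RW W) - (ρ : ℂ)⁻¹ • reg (RW W)) := by
  funext χ
  simp only [co, Pi.add_apply, Pi.smul_apply, dot_sub_right, dot_smul_right, dot_reg_right, col,
    mul_one, map_inv₀, map_natCast, smul_eq_mul]
  ring

theorem p0 : (CF.one (RW W) - (ρ : ℂ)⁻¹ • reg (RW W) : G → ℂ) 1 = 0 := by
  have ρ0 : (ρ : ℂ) ≠ 0 := card_R r hW h4 ▸ card_ne _
  simp [card_R r hW h4, ρ0]

theorem gram1 (hw : w ∈ W) (hw' : w' ∈ W) (hμ : μ ∈ Irr (RW W)) (h1 : μ ≠ CF.one (RW W)) :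
    ip (co w (RW W) (CF.one (RW W) - μ)) (co w' (RW W) (CF.one (RW W) - (ρ : ℂ)⁻¹ • reg (RW W))) =
      (ρ : ℂ)⁻¹ * (DD W w' w).ncard := by
  have l := lin_R r hW h4 hμ
  have p : (CF.one (RW W) - μ) 1 = 0 := by simp [l.one_apply]
  rw [← ip_conj, ip_D r hW h4 hw' hw (p0 r hW h4) p, sum_fs_congr (g := fun _ => 1) fun x hx => ?_,
    sum_fs_const, mul_one]
  · simp
  · have xN := inv_mem (r.h.norm_rw hW h4 hx.1)
    rw [dot_sub_right, dot_smul_right, dot_reg_right, cfj_at_one, p, map_sub, cfj_one_norm xN,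
      dot_sub_left, dot_one_one, dot_irr_ne (cfj_mem_Irr_norm xN hμ) (one_mem_Irr _)
        fun e => h1 ((cfj_eq_one_iff xN).1 e)]
    ring

theorem gram2 (hw : w ∈ W) (h1 : w ≠ 1) :
    ip (co w (RW W) (CF.one (RW W) - (ρ : ℂ)⁻¹ • reg (RW W)))
      (co w (RW W) (CF.one (RW W) - (ρ : ℂ)⁻¹ • reg (RW W))) = 8 * (ρ - 1) / ρ := by
  have ρ0 : (ρ : ℂ) ≠ 0 := card_R r hW h4 ▸ card_ne _
  rw [ip_D r hW h4 hw hw (p0 r hW h4) (p0 r hW h4),
    sum_fs_congr (g := fun _ => 1 - (ρ : ℂ)⁻¹) fun x hx => ?_, sum_fs_const,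
    card_D r hW h4 hw hw h1 h1]
  · push_cast; field_simp
  · have xN := inv_mem (r.h.norm_rw hW h4 hx.1)
    rw [dot_sub_right, dot_smul_right, dot_reg_right, cfj_at_one, p0 r hW h4, ← cfj_one_norm xN,
      cfj_one_norm xN, mul_zero, sub_zero]
    conv_lhs => rw [← cfj_one_norm xN]
    rw [cfj_one_norm xN, dot_cfj_left xN, cfj_one_norm (inv_mem xN), dot_sub_left, dot_smul_left,
      dot_reg_left, dot_one_one]
    simp

theorem not_B (hw : w ∈ W) (hk : k ∈ RW W) (h1 : k ≠ 1) (g : G) : g * (w * k) * g⁻¹ ∉ B := by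
  intro h
  have h2 := B.orderOf_dvd_natCard (B.pow_mem h 2)
  rw [conj_pow, H16.orderOf_cj, (wk_pow r hW h4 hw hk).1] at h2
  have h3 := (RW W).orderOf_dvd_natCard ((RW W).pow_mem hk 2)
  have cB : Nat.card B = (3 ^ n) ^ 3 * (2 * τ) := by
    have := B.card_mul_index
    rw [r.idx, r.card_G, show 3 ^ n - 1 = 2 * τ by have := (ar r).2; omega] at this
    exact Nat.eq_of_mul_eq_mul_right (m := (3 ^ n) ^ 3 + 1) (Nat.succ_pos _)
      (this.trans (by ring))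
  rw [card_R r hW h4] at h3
  rw [cB] at h2
  have := Nat.eq_one_of_dvd_coprimes (Nat.Coprime.mul_left (r.lf.cop_q_rho.pow_left 3)
    (Nat.Coprime.mul_left (Nat.coprime_two_left.2 r.lf.odd_rho) r.lf.cop_rho_tau.symm)) h2 h3
  exact h1 (odd_R r hW h4 hk (by rw [← pow_two]; exact orderOf_eq_one_iff.1 this))

theorem mem_cls : x ∈ ccls t ↔ x * x = 1 ∧ x ≠ 1 :=
  ⟨fun h => by
    have := (orderOf_of_ccls h).trans r.ot
    exact ⟨sq_of_ord this, ne_of_ord this⟩, fun h => r.h.conj r.ot (ord_of_sq h.1 h.2)⟩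

theorem Fc_R (hw : w ∈ W) (w1 : w ≠ 1) (hk : k ∈ RW W) (h1 : k ≠ 1) : Fc t (w * k) = 4 * ρ := by
  have wk : w * k ∈ W ⊔ RW W := mul_mem (mem_sup_left hw) (mem_sup_right hk)
  rw [Fc, show ccls t ∩ {a | a⁻¹ * (w * k) ∈ ccls t} = (C[W] : Set G) \ (W ⊔ RW W : Subgroup G)
    from ?_, Set.ncard_sdiff (SetLike.coe_subset_coe.2 ((inn r hW h4).trans inf_le_left)), ← Nat.card_coe_set_eq,
    ← Nat.card_coe_set_eq, SetLike.coe_sort_coe, SetLike.coe_sort_coe, r.h.card_cent_four hW h4,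
    r.h.card_sup_rw hW h4]
  · omega
  ext a
  simp only [Set.mem_inter_iff, Set.mem_ofPred_eq, mem_cls r hW h4, Set.mem_sdiff, SetLike.mem_coe]
  constructor
  · rintro ⟨⟨a2, -⟩, e, -⟩
    have ai := inv_eq_of_mul_eq_one_right a2
    have e1 : a * (w * k) * a⁻¹ = w * k⁻¹ := by
      rw [ai] at e ⊢
      rw [eq_inv_of_mul_eq_one_left (a := a * (w * k) * a) (b := w * k) (by rw [← e]; group),
        mul_inv_rev, inv_eq_of_mul_eq_one_right (sqW r hW h4 hw),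
        r.h.rw_le_cent hW h4 ((RW W).inv_mem hk) w hw]
    obtain ⟨m1, m2⟩ := tiW r hW h4 hw hw a k hk _ ((RW W).inv_mem hk) h1 (inv_ne_one.2 h1) e1
    refine ⟨r.h.norm_cent_four hW h4 hw w1 ⟨m1, H16.mem_cent1.2 (mul_inv_eq_iff_eq_mul.1 m2)⟩,
      fun h => h1 (odd_R r hW h4 hk ?_)⟩
    rw [← mul_assoc, ← (inn r hW h4 h).1 w hw, mul_assoc w, ← (inn r hW h4 h).2 k hk, mul_assoc,
      mul_inv_cancel_right, mul_left_cancel_iff] at e1
    exact mul_eq_one_iff_eq_inv.2 e1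
  · rintro ⟨h, h'⟩
    have n2 : a⁻¹ * (w * k) ∉ W ⊔ RW W := fun e => h' (inv_mem_iff.1 ((mul_mem_cancel_right wk).1 e))
    exact ⟨⟨(out r hW h4 h h').1, fun e => h' (e ▸ one_mem _)⟩,
      (out r hW h4 (mul_mem (inv_mem h) (inn r hW h4 wk).1) n2).1, fun e => n2 (e ▸ one_mem _)⟩

theorem Fc_u (hu : u ∈ P) (u1 : u ≠ 1) : Fc t (t * u) = 0 := by
  rw [Fc, show ccls t ∩ {a | a⁻¹ * (t * u) ∈ ccls t} = ∅ from
    Set.eq_empty_of_forall_notMem fun a ⟨h1, h2⟩ => ?_, Set.ncard_empty]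
  have a2 := ((mem_cls r hW h4).1 h1).1
  have e := ((mem_cls r hW h4).1 h2).1
  refine not_real' r hu u1 a ?_
  rw [inv_eq_of_mul_eq_one_right a2] at e ⊢
  rw [eq_inv_of_mul_eq_one_left (a := a * (t * u) * a) (b := t * u) (by rw [← e]; group),
    mul_inv_rev, inv_eq_of_mul_eq_one_right r.t2, Pt r (P.inv_mem hu)]

theorem Fc_t (ht : t ∈ W) (hs : s ∈ W) : Fc t t = 2 * (3 ^ n * τ) := by
  have := r.h.sum_inv hW h4 ht (t1 r) hs r.c.sL r.c.s1 (one_mem_cf C1[t])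
  rw [sum_fs_congr (g := fun _ => 1) fun x hx => one_of_mem hx.2, sum_fs_const,
    one_of_mem (H16.cent1_self t), one_of_mem (r.Lt_le r.c.sL),
    one_of_mem (mul_mem (H16.cent1_self t) (r.Lt_le r.c.sL))] at this
  have e : (H20.cls ⊤ t ∩ C1[t]).ncard = 1 + 2 * (3 ^ n * τ) := by
    have : ((H20.cls ⊤ t ∩ C1[t]).ncard : ℂ) = (1 + 2 * (3 ^ n * τ) : ℕ) := by
      push_cast at this ⊢; linear_combination this
    exact_mod_cast this
  rw [Fc, show ccls t ∩ {a | a⁻¹ * t ∈ ccls t} = (H20.cls ⊤ t ∩ C1[t]) \ {t} from ?_,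
    Set.ncard_sdiff_singleton_of_mem
      (Set.mem_inter (H20.self_mem_cls _ _) (SetLike.mem_coe.2 (H16.cent1_self t))), e]
  · omega
  ext a
  have : a ∈ H20.cls ⊤ t ↔ a ∈ ccls t := ⟨fun ⟨g, _, e⟩ => ⟨g, e⟩, fun ⟨g, e⟩ => ⟨g, mem_top g, e⟩⟩
  simp only [Set.mem_inter_iff, Set.mem_ofPred_eq, this, mem_cls r hW h4, Set.mem_sdiff,
    SetLike.mem_coe, Set.mem_singleton_iff, H16.mem_cent1, and_assoc, ne_eq, inv_mul_eq_one]
  refine and_congr_right fun a2 => and_congr_right fun _ => and_congr_left fun _ => ?_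
  rw [inv_eq_of_mul_eq_one_right a2, mul_eq_one_iff_eq_inv, mul_inv_rev,
    inv_eq_of_mul_eq_one_right a2, inv_eq_of_mul_eq_one_right r.t2]

end

end H15.Rw
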