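import Cfsg.Agent.H15.Rw4

/-! Groups of Ree type: the characters induced from the Borel subgroup. -/

set_option autoImplicit false
set_option linter.unusedSectionVars false

namespace H15.Rw

open Subgroup _root_.Cfsg CF H18 H26.J
open scoped ComplexConjugate H16 Classical

universe v

variable {G : Type v} [Group G] [Finite G] {S P Y Q B W : Subgroup G} {n ρ τ : ℕ}
  {g t s u x y z : G} {φ ψ χ μ θ θ' ε ξ ξ' : G → ℂ}

theorem sum_dot (hψ : ψ ∈ Irr (⊤ : Subgroup G)) (a : (G → ℂ) → ℂ) :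
    ∑ χ ∈ Irr (⊤ : Subgroup G), a χ * dot ⊤ ψ χ = a ψ := by
  rw [Finset.sum_eq_single_of_mem ψ hψ fun χ hχ ne => by rw [dot_irr_ne hψ hχ ne.symm, mul_zero],
    dot_irr_self hψ, mul_one]

theorem char_two (h : IsChar ⊤ φ) (h2 : dot ⊤ φ φ = 2) :
    ∃ ξ ∈ Irr (⊤ : Subgroup G), ∃ ξ' ∈ Irr (⊤ : Subgroup G), ξ ≠ ξ' ∧ φ = ξ + ξ' := by
  obtain ⟨α, hα, β, hβ, o, e⟩ := norm_two h.vchar h2
  have k : ∀ α ∈ dirr (⊤ : Subgroup G), dot ⊤ φ α = 1 → α ∈ Irr (⊤ : Subgroup G) :=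
    fun α hα e => (mem_dirr.1 hα).resolve_right fun k => by
      obtain ⟨m, hm⟩ := h.dot_nat (irr_char k)
      rw [dot_neg_right, e] at hm
      have : (-1 : ℤ) = m := by exact_mod_cast hm
      omega
  refine ⟨α, k α hα (by rw [e, dot_add_left, dot_dirr_self hα, dot_symm_zero o, add_zero]), β,
    k β hβ (by rw [e, dot_add_left, dot_dirr_self hβ, o, zero_add]), fun k => ?_, e⟩
  rw [k, dot_dirr_self hβ] at o
  exact one_ne_zero o

theorem not_half {a : ℂ} (h : IsIntegral ℤ a) : 2 * a ≠ 1 := fun e => by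
  have : IsIntegral ℤ ((1 : ℚ) / 2) := by
    rw [← isIntegral_algebraMap_iff (B := ℂ) (algebraMap ℚ ℂ).injective]
    have : algebraMap ℚ ℂ (1 / 2) = a := by simp; linear_combination (-1 / 2 : ℂ) * e
    rwa [this]
  obtain ⟨z, hz⟩ := IsIntegrallyClosed.isIntegral_iff.1 this
  have h1 : (z : ℚ) = 1 / 2 := hz
  have : (2 * z : ℤ) = 1 := by
    have : (2 * z : ℚ) = 1 := by rw [h1]; norm_num
    exact_mod_cast this
  omega

section
variable (r : RE S n ρ τ t s P Y Q B)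
include r

theorem card_H : Nat.card (zpowers t ⊔ Y : Subgroup G) = 2 * τ := by
  rw [card_two_sup r.ot r.Yt fun h => r.h.not_mem_Lt r.ot (r.h.c3_le rfl r.c h), card_Y r]

theorem complB : IsComplIn Q (zpowers t ⊔ Y) B :=
  ⟨r.QB, r.HB, eq_bot_iff.2 fun _ hx => (r.q.semi s r.sB).le ⟨hx.1, (r.inf.ge hx.2).2⟩,
    fun _ hb => let ⟨u, hu, x, hx, e⟩ := r.dec hb; ⟨u, hu, x, hx, e.symm⟩⟩

theorem th_lin (hθ : θ ∈ IrrQ B Q) : IsLin B θ := by
  obtain ⟨h1, h2⟩ := mem_IrrQ.1 hθ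
  refine isLin_of_irr h1 ?_
  rw [← Res_one (zpowers t ⊔ Y) θ]
  exact irr_one_of_comm (H16.comm_iff.2 (H16.GD.J8d.comm_of_inv fun _ hx => r.inv_H hx))
    (Res_compl_mem_Irr (complB r) (r.HB.trans r.nQ) h1 h2)

theorem th_Q (hθ : θ ∈ IrrQ B Q) (hx : x ∈ Q) : θ x = 1 :=
  (th_lin r hθ).mem_cfker.1 ((mem_IrrQ.1 hθ).2 hx)

theorem th_t (hθ : θ ∈ IrrQ B Q) : θ t = 1 ∨ θ t = -1 := mul_self_eq_one_iff.1 (by
  rw [← (th_lin r hθ).map_mul r.tB r.tB, r.t2, (th_lin r hθ).one_apply])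

theorem th_star (hθ : θ ∈ IrrQ B Q) : star θ ∈ IrrQ B Q :=
  mem_IrrQ.2 ⟨star_mem_Irr (mem_IrrQ.1 hθ).1, (cfker_star θ).symm ▸ (mem_IrrQ.1 hθ).2⟩

theorem mack (hθ : θ ∈ IrrQ B Q) (hθ' : θ' ∈ IrrQ B Q) : dot ⊤ (Ind ⊤ B θ) (Ind ⊤ B θ') =
    (if θ = θ' then 1 else 0) + if θ = star θ' then 1 else 0 := by
  have si : s⁻¹ = s := inv_eq_of_mul_eq_one_right r.s2
  obtain ⟨h1, h2⟩ := mem_IrrQ.1 hθ
  obtain ⟨h3, h4⟩ := mem_IrrQ.1 (th_star r hθ')
  rw [mackey (H := zpowers t ⊔ Y) r.QB r.s2 r.sB (fun g hg => by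
      obtain ⟨u, hu, b, hb, e⟩ := r.dc (g := g⁻¹) (mt inv_mem_iff.1 hg)
      exact ⟨b⁻¹, B.inv_mem hb, u⁻¹, Q.inv_mem hu, by rw [← inv_inv g, e]; simp [mul_assoc, si]⟩)
    (fun u hu e => H16.eq_one_of_mem_bot (r.q.semi s r.sB) ⟨hu, H16.mem_cj.2 (si.symm ▸ e)⟩)
    (fun x => by rw [← r.inf, mem_inf, H16.mem_cj, si]) (card_compl (complB r)).symm
    (irr_cf h1) (th_lin r hθ').cf, dot_irr h1 (mem_IrrQ.1 hθ').1,
    dot_congr (ψ' := star θ') (fun _ _ => rfl) fun x hx => by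
      have := r.inv_H hx
      rw [si] at this
      rw [cfj_apply, si, this, ← (th_lin r hθ').char.conj_apply]; rfl,
    dot_Res_compl (complB r) (r.HB.trans r.nQ) h2 h4, dot_irr h1 h3]

theorem m_eq (hχ : χ ∈ cf ⊤) :
    co t P (CF.one P) χ = ∑ θ ∈ IrrQ B Q, θ t * dot ⊤ χ (Ind ⊤ B θ) := by
  rw [← avg r hχ, Finset.sum_congr rfl fun θ _ => by rw [dot_Ind_right le_top θ hχ, dot_def]]
  simp only [Finset.mul_sum]
  rw [Finset.sum_comm, ← sum_mul_left r.tB, co, dot_def, Finset.mul_sum,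
    sum_fs_subset (A := Q) (B := B) (f := fun x => (Nat.card Q : ℂ)⁻¹ *
      (χ (t * x) * conj (CF.one Q x))) r.QB fun x _ hx => by rw [one_of_not_mem hx]; simp]
  refine sum_fs_congr fun x hx => ?_
  have k := sum_IrrQ_one_mul r.QB r.nQ x
  rw [relIndex_compl (complB r)] at k
  have : ∑ θ ∈ IrrQ B Q, conj (θ x) = Nat.card (zpowers t ⊔ Y : Subgroup G) * conj (CF.one Q x) := by
    rw [← map_natCast conj, ← map_mul, ← k, map_sum]
    exact Finset.sum_congr rfl fun θ hθ => by rw [(th_lin r hθ).one_apply, one_mul]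
  rw [Finset.sum_congr rfl (g := fun θ => (Nat.card B : ℂ)⁻¹ * χ (t * x) * conj (θ x))
    fun θ hθ => by
      rw [(th_lin r hθ).map_mul r.tB hx]
      rcases th_t r hθ with e | e <;> rw [e] <;> simp [mul_assoc], ← Finset.mul_sum, this,
    ← card_compl (complB r)]
  have := card_ne (zpowers t ⊔ Y)
  push_cast
  field_simp

theorem sum_t : ∑ θ ∈ IrrQ B Q, θ t = 0 := by
  have k := sum_IrrQ_one_mul r.QB r.nQ t
  rw [one_of_not_mem (tQ r), mul_zero] at k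
  rw [← k]
  exact Finset.sum_congr rfl fun θ hθ => by rw [(th_lin r hθ).one_apply, one_mul]

theorem th_ext (hθ : θ ∈ IrrQ B Q) (hθ' : θ' ∈ IrrQ B Q) (h1 : ∀ y ∈ Y, θ y = θ' y)
    (h2 : θ t = θ' t) : θ = θ' := by
  have l := th_lin r hθ
  have l' := th_lin r hθ'
  refine cf_ext l.cf l'.cf fun b hb => ?_
  obtain ⟨u, hu, x, hx, rfl⟩ := r.dec hb
  rw [l.map_mul (r.QB hu) (r.HB hx), l'.map_mul (r.QB hu) (r.HB hx), th_Q r hθ hu, th_Q r hθ' hu]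
  rcases (mem_two_sup r.ot r.Yt).1 hx with k | k
  · rw [h1 x k]
  · have := h1 _ k
    rw [l.map_mul r.tB (r.HB hx), l'.map_mul r.tB (r.HB hx), h2] at this
    rw [mul_left_cancel₀ (l'.ne_zero r.tB) this]

theorem th_pow (hθ : θ ∈ IrrQ B Q) (hy : y ∈ Y) : θ y ^ τ = 1 := by
  rw [← (th_lin r hθ).map_pow (r.YB hy), orderOf_dvd_iff_pow_eq_one.1 (r.h.c3_dvd rfl r.c hy),
    (th_lin r hθ).one_apply]

theorem th_real (hθ : θ ∈ IrrQ B Q) (h : star θ = θ) (hy : y ∈ Y) : θ y = 1 := by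
  have h1 := (th_lin r hθ).mul_conj (r.YB hy)
  have h2 := th_pow r hθ hy
  obtain ⟨m, hm⟩ := r.lf.odd_tau
  rwa [hm, pow_succ, pow_mul, pow_two, show θ y * θ y = 1 from
    (congrArg (θ y * ·) (congrFun h y)).symm.trans h1, one_pow, one_mul] at h2

theorem exists_eps : ∃ ε ∈ IrrQ B Q, ε t = -1 ∧ star ε = ε ∧
    ∀ θ ∈ IrrQ B Q, star θ = θ → θ = CF.one B ∨ θ = ε := by
  obtain ⟨θ, hθ, k⟩ := exists_IrrQ_not_mem r.QB r.nQ (tQ r)
  have l := (th_lin r hθ).pow (n := τ) (by have := r.lf.three_le_tau; omega)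
  have m : θ ^ τ ∈ IrrQ B Q := mem_IrrQ.2 ⟨l.mem_Irr, fun x hx => l.mem_cfker.2 (by
    rw [Pi.pow_apply, th_Q r hθ hx, one_pow])⟩
  have e : (θ ^ τ) t = -1 := by
    rw [Pi.pow_apply, (th_t r hθ).resolve_left fun e => k ((th_lin r hθ).mem_cfker.2 e),
      r.lf.odd_tau.neg_one_pow]
  have eY : ∀ y ∈ Y, (θ ^ τ) y = 1 := fun y hy => th_pow r hθ hy
  refine ⟨_, m, e, th_ext r (th_star r m) m (fun y hy => by simp [eY y hy]) (by simp [e]),
    fun φ hφ h => (th_t r hφ).imp (fun k => th_ext r hφ (one_mem_IrrQ r.QB)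
      (fun y hy => by rw [th_real r hφ h hy, one_of_mem (r.YB hy)]) (by rw [k, one_of_mem r.tB]))
      fun k => th_ext r hφ m (fun y hy => by rw [th_real r hφ h hy, eY y hy]) (by rw [k, e])⟩

theorem ind_char (hθ : θ ∈ IrrQ B Q) : IsChar ⊤ (Ind ⊤ B θ) := (th_lin r hθ).char.Ind le_top

theorem ind_one (hθ : θ ∈ IrrQ B Q) : Ind ⊤ B θ 1 = ((3 ^ n : ℕ) : ℂ) ^ 3 + 1 := by
  rw [Ind_one le_top, relIndex_top_right, r.idx, (th_lin r hθ).one_apply]; push_cast; ring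

theorem ind_u (hθ : θ ∈ IrrQ B Q) (hu : u ∈ P) (u1 : u ≠ 1) : Ind ⊤ B θ (t * u) = θ t := by
  rw [Ind_ti (th_lin r hθ).cf (ti' r hu u1), (th_lin r hθ).map_mul r.tB (r.QB (r.PQ hu)),
    th_Q r hθ (r.PQ hu), mul_one]

theorem ind_t (hθ : θ ∈ IrrQ B Q) : Ind ⊤ B θ t = ((3 ^ n : ℕ) + 1) * θ t := by
  obtain ⟨u, hu, u1⟩ := (P.bot_or_exists_ne_one).resolve_left (r.q.P_ne r.h r.c)
  have h1 := m_eq r (ind_char r hθ).cf
  rw [co_one r hu u1 (ind_char r hθ).cf, ind_u r hθ hu u1,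
    ind_u r hθ (P.inv_mem hu) (inv_ne_one.2 u1), Finset.sum_congr rfl
      (g := fun φ => (if θ = φ then θ t else 0) + if star θ = φ then θ t else 0) fun φ hφ => ?_,
    Finset.sum_add_distrib, Finset.sum_ite_eq, Finset.sum_ite_eq, if_pos hθ, if_pos (th_star r hθ),
    div_eq_iff (Nat.cast_ne_zero.2 (by positivity))] at h1
  · have e4 : ((3 ^ n : ℕ) : ℂ) = 2 * τ + 1 := by rw [(ar r).2]; push_cast; rfl
    linear_combination h1 + θ t * e4
  · rw [mack r hθ hφ, mul_add]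
    congr 1
    · split_ifs with e <;> simp [e]
    · by_cases e : θ = star φ
      · rw [if_pos e, if_pos (by rw [e, star_star]), e]
        rcases th_t r hφ with k | k <;> simp [k]
      · rw [if_neg e, if_neg fun k => e (by rw [← k, star_star]), mul_zero]

theorem ind_irr (hθ : θ ∈ IrrQ B Q) (h : star θ ≠ θ) : Ind ⊤ B θ ∈ Irr (⊤ : Subgroup G) :=
  (ind_char r hθ).mem_Irr (by rw [mack r hθ hθ, if_pos rfl, if_neg h.symm, add_zero])

theorem ind_star (hθ : θ ∈ IrrQ B Q) (h : Ind ⊤ B θ ∈ Irr (⊤ : Subgroup G)) :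
    star (Ind ⊤ B θ) = Ind ⊤ B θ := by
  refine (irr_eq_of_dot_ne h (star_mem_Irr h) ?_).symm
  rw [← Ind_star, mack r hθ (th_star r hθ), star_star, if_pos rfl]
  split_ifs <;> norm_num

theorem dot_pi : dot ⊤ (Ind ⊤ B (CF.one B)) (CF.one ⊤) = 1 := by
  rw [dot_Ind_one le_top, dot_one_one]

theorem st_irr : Ind ⊤ B (CF.one B) - CF.one ⊤ ∈ Irr (⊤ : Subgroup G) := by
  have o := one_mem_IrrQ (H := B) r.QB
  refine ((ind_char r o).sub_irr (one_mem_Irr _) (by rw [dot_pi r]; exact one_ne_zero)).mem_Irr ?_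
  rw [dot_sub_left, dot_sub_right, dot_sub_right, mack r o o, dot_pi r, dot_one_one,
    ← dot_conj_symm, dot_pi r]
  simp

theorem exists_xi (hε : ε ∈ IrrQ B Q) (h : star ε = ε) :
    ∃ ξ ∈ Irr (⊤ : Subgroup G), ∃ ξ' ∈ Irr (⊤ : Subgroup G), ξ ≠ ξ' ∧ Ind ⊤ B ε = ξ + ξ' ∧
      star ξ = ξ ∧ star ξ' = ξ' := by
  obtain ⟨ξ, hξ, ξ', hξ', ne, e⟩ := char_two (ind_char r hε) (by
    rw [mack r hε hε, if_pos rfl, if_pos h.symm]; norm_num)
  have e' : star ξ + star ξ' = ξ + ξ' := by rw [← star_add, ← e, ← Ind_star, h]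
  have k : star ξ = ξ := by
    by_contra k
    have k' : star ξ = ξ' := by
      by_contra k'
      have := congrArg (fun φ => dot ⊤ φ (star ξ)) e'
      simp only [dot_add_left] at this
      rw [dot_irr_self (star_mem_Irr hξ), dot_irr_ne hξ (star_mem_Irr hξ) (Ne.symm k),
        dot_irr_ne hξ' (star_mem_Irr hξ) (Ne.symm k'), dot_irr_ne (star_mem_Irr hξ')
          (star_mem_Irr hξ) fun k => ne (star_injective k).symm] at this
      norm_num at this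
    obtain ⟨x, hx, xP⟩ := SetLike.exists_of_lt (lt_of_le_of_ne r.PQ fun e => by
      have h1 := r.card_P
      have h2 := r.q_ge
      rw [e, r.card_Q] at h1
      nlinarith [Nat.mul_le_mul h2 h2])
    have zQ : x⁻¹ * (t * x * t⁻¹) ∈ Q := Q.mul_mem (Q.inv_mem hx) (H16.conj_mem (r.nQ r.tB) hx)
    have z1 : x⁻¹ * (t * x * t⁻¹) ≠ 1 := fun e => xP (r.q.inf.le ⟨hx, H16.mem_cent1.2 (by
      rw [inv_mul_eq_one, eq_mul_inv_iff_mul_eq] at e; exact e)⟩)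
    have zi : t * (x⁻¹ * (t * x * t⁻¹)) * t⁻¹ = (x⁻¹ * (t * x * t⁻¹))⁻¹ := by
      calc _ = t * x⁻¹ * t⁻¹ * (t * t) * x * (t * t)⁻¹ := by group
        _ = _ := by rw [r.t2]; group
    generalize x⁻¹ * (t * x * t⁻¹) = z at zQ z1 zi
    have := congrFun e z
    rw [Ind_ti (th_lin r hε).cf fun g => ti r zQ z1, th_Q r hε zQ, ← k', Pi.add_apply,
      show star ξ z = conj (ξ z) from rfl, (irr_char hξ).conj_apply, ← zi,
      cf_conj (irr_cf hξ) z (mem_top t), ← two_mul] at this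
    exact not_half ((irr_char hξ).isIntegral z) this.symm
  exact ⟨ξ, hξ, ξ', hξ', ne, e, k, add_left_cancel (a := ξ) (by rw [← e', k])⟩

variable (hε : ε ∈ IrrQ B Q) (et : ε t = -1) (es : star ε = ε)
  (eu : ∀ θ ∈ IrrQ B Q, star θ = θ → θ = CF.one B ∨ θ = ε)
  (hξ : ξ ∈ Irr (⊤ : Subgroup G)) (hξ' : ξ' ∈ Irr (⊤ : Subgroup G)) (ne : ξ ≠ ξ')
  (e : Ind ⊤ B ε = ξ + ξ')
include hε et es eu hξ hξ' ne e

theorem eps_ne : ε ≠ CF.one B := fun k => by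
  rw [k, one_of_mem r.tB] at et; norm_num at et

theorem dot_xi (hθ : θ ∈ IrrQ B Q) (h : θ ≠ ε) : dot ⊤ ξ (Ind ⊤ B θ) = 0 := by
  have := mack r hε hθ
  obtain ⟨a, ha⟩ := (irr_char hξ).dot_nat (ind_char r hθ)
  obtain ⟨b, hb⟩ := (irr_char hξ').dot_nat (ind_char r hθ)
  rw [if_neg h.symm, if_neg fun k => h (by rw [← star_star θ, ← k, es]), e, dot_add_left, ha, hb,
    add_zero] at this
  have : a + b = 0 := by exact_mod_cast this
  rw [ha, show a = 0 by omega, Nat.cast_zero]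

theorem m_xi : co t P (CF.one P) ξ = -1 := by
  rw [m_eq r (irr_cf hξ), Finset.sum_eq_single_of_mem ε hε fun θ hθ h => by
    rw [dot_xi r hε et es eu hξ hξ' ne e hθ h, mul_zero], e, dot_add_right, dot_irr_self hξ,
    dot_irr_ne hξ hξ' ne, et]
  ring

theorem xi_ne : CF.one ⊤ ≠ ξ ∧ Ind ⊤ B (CF.one B) - CF.one ⊤ ≠ ξ := by
  have := dot_xi r hε et es eu hξ hξ' ne e (one_mem_IrrQ r.QB) (eps_ne r hε et es eu hξ hξ' ne e).symm
  have k : CF.one ⊤ ≠ ξ := fun k => by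
    rw [← k, ← dot_conj_symm, dot_pi r] at this; simp at this
  refine ⟨k, fun k' => ?_⟩
  rw [sub_eq_iff_eq_add.1 k', dot_add_right, dot_irr_self hξ,
    dot_irr_ne hξ (one_mem_Irr _) k.symm] at this
  simp at this

theorem m_zero (hχ : χ ∈ Irr (⊤ : Subgroup G)) (h1 : χ ≠ CF.one ⊤)
    (h2 : χ ≠ Ind ⊤ B (CF.one B) - CF.one ⊤) (h3 : χ ≠ ξ) (h4 : χ ≠ ξ')
    (h5 : ¬ ∃ θ ∈ IrrQ B Q, χ = Ind ⊤ B θ) : co t P (CF.one P) χ = 0 := by
  rw [m_eq r (irr_cf hχ)]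
  refine Finset.sum_eq_zero fun θ hθ => mul_eq_zero_of_right _ ?_
  by_cases k : star θ = θ
  · rcases eu θ hθ k with rfl | rfl
    · rw [← sub_add_cancel (Ind ⊤ B (CF.one B)) (CF.one ⊤), dot_add_right,
        dot_irr_ne hχ (st_irr r) h2, dot_irr_ne hχ (one_mem_Irr _) h1, add_zero]
    · rw [e, dot_add_right, dot_irr_ne hχ hξ h3, dot_irr_ne hχ hξ' h4, add_zero]
  · exact dot_irr_ne hχ (ind_irr r hθ k) fun k => h5 ⟨θ, hθ, k⟩

theorem wt_m : ip (wt t) (co t P (CF.one P)) =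
    wt t (CF.one ⊤) + wt t (Ind ⊤ B (CF.one B) - CF.one ⊤) - (wt t ξ + wt t ξ') := by
  let A : (G → ℂ) → ℂ := fun θ => ∑ χ ∈ Irr (⊤ : Subgroup G), wt t χ * dot ⊤ (Ind ⊤ B θ) χ
  let c : ℂ := ((3 ^ n : ℕ) + 1) ^ 2 / (((3 ^ n : ℕ) : ℂ) ^ 3 + 1)
  have o := one_mem_IrrQ (H := B) r.QB
  have n1 := eps_ne r hε et es eu hξ hξ' ne e
  have h1 : ip (wt t) (co t P (CF.one P)) = ∑ θ ∈ IrrQ B Q, θ t * (A θ - c) := by
    simp only [mul_sub, Finset.sum_sub_distrib, ← Finset.sum_mul, sum_t r, zero_mul, sub_zero, A,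
      Finset.mul_sum]
    rw [Finset.sum_comm]
    refine Finset.sum_congr rfl fun χ hχ => ?_
    rw [m_eq r (irr_cf hχ), map_sum, Finset.mul_sum]
    refine Finset.sum_congr rfl fun θ hθ => ?_
    rw [map_mul, dot_conj_symm]
    rcases th_t r hθ with k | k <;> simp [k]
  rw [h1, ← Finset.sum_subset (s₁ := {CF.one B, ε}) (by
    intro θ hθ
    rcases Finset.mem_insert.1 hθ with rfl | k
    exacts [o, Finset.mem_singleton.1 k ▸ hε]) fun θ hθ k => ?_, Finset.sum_pair n1.symm, et,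
    one_of_mem r.tB]
  · have a1 : A (CF.one B) = wt t (CF.one ⊤) + wt t (Ind ⊤ B (CF.one B) - CF.one ⊤) := by
      rw [← sum_dot (one_mem_Irr _) (wt t), ← sum_dot (st_irr r) (wt t), ← Finset.sum_add_distrib]
      exact Finset.sum_congr rfl fun χ _ => by rw [dot_sub_left]; ring
    have a2 : A ε = wt t ξ + wt t ξ' := by
      rw [← sum_dot hξ (wt t), ← sum_dot hξ' (wt t), ← Finset.sum_add_distrib]
      exact Finset.sum_congr rfl fun χ _ => by rw [e, dot_add_left]; ring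
    rw [a1, a2]; ring
  · have : star θ ≠ θ := fun k' => k (by simpa using eu θ hθ k')
    rw [show A θ = _ from sum_dot (ind_irr r hθ this) (wt t), wt, ind_t r hθ, ind_one r hθ]
    rcases th_t r hθ with k | k <;> rw [k] <;> simp only [c] <;> ring

end

end H15.Rw
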