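import Cfsg.Agent.H15.Rw5

/-! Groups of Ree type: the inner products of the columns. -/

set_option autoImplicit false
set_option linter.unusedSectionVars false

namespace H15.Rw

open Subgroup _root_.Cfsg CF H18 H26.J
open scoped ComplexConjugate H16 Classical

universe v

variable {G : Type v} [Group G] [Finite G] {S P Y Q B W K : Subgroup G} {n ρ τ : ℕ}
  {g t s u x y z k w w' : G} {φ ψ χ χ' μ θ ε ξ ξ' : G → ℂ} {c : ℂ}

/-- the sum of the two coordinates at the nonprincipal characters of `P` -/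
noncomputable def sg (q : ℂ) (t u : G) : (G → ℂ) → ℂ :=
  q⁻¹ • ((2 : ℂ) • col t - col (t * u) - col (t * u⁻¹))

/-- their difference -/
noncomputable def dl (c : ℂ) (t u : G) : (G → ℂ) → ℂ := c • (col (t * u) - col (t * u⁻¹))

/-- signs -/
def e1 (i : Fin 4) : ℂ := ![1, 1, -1, -1] i
/-- signs -/
def e2 (i : Fin 4) : ℂ := ![1, -1, 1, -1] i

/-- the coordinates of the induced differences -/
noncomputable def EE (t s : G) (R : Subgroup G) (i : Fin 4) (μ : G → ℂ) : (G → ℂ) → ℂ :=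
  (4 : ℂ)⁻¹ • (co 1 R (CF.one R - μ) + e1 i • co t R (CF.one R - μ) + e2 i • co s R (CF.one R - μ) +
    (e1 i * e2 i) • co (t * s) R (CF.one R - μ))

theorem co_sub : co w K φ (χ - χ') = co w K φ χ - co w K φ χ' := dot_sub_left _ _ _
theorem co_add : co w K φ (χ + χ') = co w K φ χ + co w K φ χ' := dot_add_left _ _ _
theorem co_top : co w K φ (CF.one ⊤) = dot K (CF.one K) φ :=
  dot_congr (fun x hx => by rw [one_of_mem (mem_top _), one_of_mem hx]) fun _ _ => rfl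

theorem EE_sub (i : Fin 4) : EE t s K i μ (χ - χ') = EE t s K i μ χ - EE t s K i μ χ' := by
  simp only [EE, Pi.smul_apply, Pi.add_apply, co_sub, smul_eq_mul]; ring
theorem EE_add (i : Fin 4) : EE t s K i μ (χ + χ') = EE t s K i μ χ + EE t s K i μ χ' := by
  simp only [EE, Pi.smul_apply, Pi.add_apply, co_add, smul_eq_mul]; ring

theorem ip_symm {a b : (G → ℂ) → ℂ} (h : ip a b = 0) : ip b a = 0 := by
  rw [← ip_conj, h, map_zero]

section
variable (r : RE S n ρ τ t s P Y Q B)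
include r

theorem qc : ((3 ^ n : ℕ) : ℂ) = 2 * τ + 1 ∧ ((3 ^ n : ℕ) : ℂ) + 1 = 4 * ρ ∧
    ((3 ^ n : ℕ) : ℂ) ≠ 0 ∧ (ρ : ℂ) ≠ 0 ∧ ((3 ^ n : ℕ) : ℂ) ^ 2 - (3 ^ n : ℕ) + 1 ≠ 0 := by
  refine ⟨by rw [(ar r).2]; push_cast; rfl, by exact_mod_cast (ar r).1,
    Nat.cast_ne_zero.2 (by positivity), Nat.cast_ne_zero.2 r.lf.odd_rho.pos.ne', fun e => ?_⟩
  have : ((3 ^ n : ℕ) : ℤ) ^ 2 - (3 ^ n : ℕ) + 1 = 0 := by exact_mod_cast e
  nlinarith [sq_nonneg (((3 ^ n : ℕ) : ℤ) - 1), Int.natCast_nonneg (3 ^ n)]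

theorem cG : (Nat.card G : ℂ) = ((3 ^ n : ℕ) : ℂ) ^ 3 * (((3 ^ n : ℕ) : ℂ) ^ 3 + 1) *
    ((3 ^ n : ℕ) - 1) := by
  rw [r.card_G]; push_cast [Nat.cast_sub (Nat.one_le_pow n 3 (by norm_num))]; rfl

theorem cT : (Nat.card C1[t] : ℂ) = (3 ^ n : ℕ) * (((3 ^ n : ℕ) : ℂ) ^ 2 - 1) := by
  rw [r.h.card_cent' r.ot]
  push_cast [Nat.cast_sub (Nat.one_le_pow 2 (3 ^ n) (by positivity))]; rfl

theorem wt_col (g : G) : ip (wt t) (col g) = (((3 ^ n : ℕ) : ℂ) ^ 2 - 1) /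
    ((3 ^ n : ℕ) * (((3 ^ n : ℕ) : ℂ) ^ 2 - (3 ^ n : ℕ) + 1)) * Fc t g := by
  obtain ⟨-, -, q0, -, N0⟩ := qc r
  have h1 := ip_wt (t := t) (g := g)
  have h2 : (Nat.card C1[t] : ℂ) * (ccls t).ncard = Nat.card G := by
    exact_mod_cast card_mul_ncard_ccls t
  have h3 := card_ne C1[t]
  rw [cT r] at h2 h3
  rw [cG r] at h1 h2
  generalize ((3 ^ n : ℕ) : ℂ) = q at *
  have h4 : ((ccls t).ncard : ℂ) = q ^ 2 * (q ^ 2 - q + 1) :=
    mul_left_cancel₀ h3 (by rw [h2]; ring)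
  rw [h4] at h1
  refine mul_left_cancel₀ (pow_ne_zero 2 (mul_ne_zero (pow_ne_zero 2 q0) N0)) (h1.trans ?_)
  generalize hN : q ^ 2 - q + 1 = N at *
  field_simp
  rw [← hN]; ring

variable (hu : u ∈ P) (u1 : u ≠ 1)
include hu u1

theorem ip_P : ip (col t) (col t) = (3 ^ n : ℕ) * (((3 ^ n : ℕ) : ℂ) ^ 2 - 1) ∧
    ip (col (t * u)) (col (t * u)) = 2 * (3 ^ n : ℕ) ∧
    ip (col (t * u⁻¹)) (col (t * u⁻¹)) = 2 * (3 ^ n : ℕ) ∧
    ip (col (t * u)) (col (t * u⁻¹)) = 0 ∧ ip (col (t * u⁻¹)) (col (t * u)) = 0 ∧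
    ip (col t) (col (t * u)) = 0 ∧ ip (col (t * u)) (col t) = 0 ∧
    ip (col t) (col (t * u⁻¹)) = 0 ∧ ip (col (t * u⁻¹)) (col t) = 0 := by
  have k : ∀ u ∈ P, u ≠ 1 → ip (col t) (col (t * u)) = 0 ∧ ip (col (t * u)) (col t) = 0 :=
    fun u hu u1 => ip_col_pow (m := 2) (by rw [pow_two, r.t2])
      (by rw [(tu_pow r hu).2.2]; exact inv_ne_one.2 u1)
  have z := ip_col_zero (not_real' r hu u1)
  exact ⟨by rw [ip_col_self, cT r], by rw [ip_col_self, card_tu r hu u1]; push_cast; rfl,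
    by rw [ip_col_self, card_tu r (P.inv_mem hu) (inv_ne_one.2 u1)]; push_cast; rfl, z, ip_symm z,
    (k u hu u1).1, (k u hu u1).2, (k _ (P.inv_mem hu) (inv_ne_one.2 u1)).1,
    (k _ (P.inv_mem hu) (inv_ne_one.2 u1)).2⟩

theorem ip_dl (hc : c * conj c * (3 ^ n : ℕ) = 1) : ip (dl c t u) (dl c t u) = (4 : ℤ) := by
  obtain ⟨-, a, b, d, e, -⟩ := ip_P r hu u1
  simp only [dl, ip_smul_left, ip_smul_right, ip_sub_left, ip_sub_right, a, b, d, e]
  push_cast at hc ⊢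
  linear_combination 4 * hc

theorem T_eq (hχ : χ ∈ cf ⊤) : χ t = co t P (CF.one P) χ + τ * sg (3 ^ n : ℕ) t u χ := by
  obtain ⟨q1, -, q0, -⟩ := qc r
  rw [co_one r hu u1 hχ]
  simp only [sg, col, Pi.smul_apply, Pi.sub_apply, smul_eq_mul]
  field_simp
  linear_combination χ t * q1

end

section
variable (r : RE S n ρ τ t s P Y Q B) (hW : W ≤ S) (h4 : Nat.card W = 4)
include r hW h4

theorem ip_six (hg : g ^ 6 = 1) (hw : w ∈ W) (p : φ 1 = 0) : ip (col g) (co w (RW W) φ) = 0 := by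
  rw [ip_co_right, sum_fs_eq_zero, mul_zero]
  intro k hk
  by_cases k1 : k = 1
  · rw [k1, p, zero_mul]
  · refine mul_eq_zero_of_right _ (ip_col_pow hg fun e => k1 ?_).1
    rw [show 6 = 2 * 3 from rfl, pow_mul, (wk_pow r hW h4 hw hk).1, ← pow_mul] at e
    exact orderOf_eq_one_iff.1 (Nat.eq_one_of_dvd_coprimes (Nat.Coprime.mul_left
      (Nat.coprime_two_left.2 r.lf.odd_rho) r.lf.cop_p_rho) (orderOf_dvd_of_pow_eq_one e)
      (card_R r hW h4 ▸ (RW W).orderOf_dvd_natCard hk))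

theorem gramv (hw : w ∈ W) (hw' : w' ∈ W) (hμ : μ ∈ Irr (RW W)) (h1 : μ ≠ CF.one (RW W)) :
    ip (co w (RW W) (CF.one (RW W) - μ)) (co w' (RW W) (CF.one (RW W) - μ)) =
      if w = 1 then (if w' = 1 then 28 else 0) else if w' = 1 then 0 else
        if w = w' then 12 else 8 := by
  have ρ0 := (qc r).2.2.2.1
  rw [gram r hW h4 hw hw' hμ h1]
  by_cases a : w = 1 <;> by_cases b : w' = 1
  · subst a b; rw [card_D1 r hW h4]; simp; field_simp; norm_num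
  · rw [card_D0 r hW h4 (Or.inl ⟨a, b⟩), if_neg fun e : w = w' => b (e ▸ a)]; simp [a, b]
  · rw [card_D0 r hW h4 (Or.inr ⟨a, b⟩), if_neg fun e : w = w' => a (e ▸ b)]; simp [a, b]
  · rw [card_D r hW h4 hw hw' a b]
    simp only [a, b, if_false]
    split_ifs <;> push_cast <;> field_simp <;> norm_num

theorem co_ind (hw : w ∈ W) (p : φ 1 = 0) : co w (RW W) φ (Ind ⊤ B θ) = 0 := by
  rw [co, dot_def, sum_fs_eq_zero, mul_zero]
  intro k hk
  by_cases k1 : k = 1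
  · rw [k1, p, map_zero, mul_zero]
  · rw [Ind_zero (not_B r hW h4 hw hk k1), zero_mul]

theorem realW (hχ : χ ∈ cf ⊤) (hw : w ∈ W) (hk : k ∈ RW W) : χ (w * k⁻¹) = χ (w * k) := by
  obtain ⟨a, ha, a1⟩ := SetLike.exists_of_lt (lt_of_le_of_ne ((inn r hW h4).trans inf_le_left)
    fun e => by
      have := r.h.card_sup_rw hW h4
      rw [e, r.h.card_cent_four hW h4] at this
      have := r.lf.odd_rho.pos
      omega)
  rw [← cf_conj hχ (w * k) (mem_top a), ← (out r hW h4 ha a1).2 k hk, ← mul_assoc a, ← ha w hw]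
  simp only [mul_assoc]

theorem co_star (hχ : χ ∈ vchar ⊤) (hw : w ∈ W) : co w (RW W) φ (star χ) = co w (RW W) φ χ :=
  dot_congr (fun k hk => by
    rw [show star χ (w * k) = conj (χ (w * k)) from rfl, vchar_conj_apply hχ, mul_inv_rev,
      inv_eq_of_mul_eq_one_right (sqW r hW h4 hw), ← r.h.rw_le_cent hW h4 ((RW W).inv_mem hk) w hw,
      realW r hW h4 (vchar_cf hχ) hw hk]) fun _ _ => rfl

theorem nR (hw : w ∈ W) (h1 : w ≠ 1) : w ∉ RW W := fun h => h1 (odd_R r hW h4 h (sqW r hW h4 hw))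

theorem p1 (hμ : μ ∈ Irr (RW W)) : (CF.one (RW W) - μ) 1 = 0 := by
  simp [(lin_R r hW h4 hμ).one_apply]

variable (ht : t ∈ W) (hs : s ∈ W)
include ht hs

theorem ne4 : t ≠ 1 ∧ s ≠ 1 ∧ t * s ≠ 1 ∧ t ≠ s ∧ t ≠ t * s ∧ s ≠ t * s := by
  have a : t ≠ s := fun e => r.h.not_mem_Lt r.ot (e ▸ r.c.sL)
  exact ⟨t1 r, r.c.s1, fun e => a (mul_left_cancel (r.t2.trans e.symm)), a,
    fun e => r.c.s1 (left_eq_mul.1 e), fun e => t1 r (right_eq_mul.1 e)⟩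

theorem l_int (hχ : χ ∈ vchar ⊤) : ∃ m : ℤ, co t (RW W) (CF.one (RW W)) χ = m :=
  co_int r.t2 (nR r hW h4 ht (t1 r)) (inn r hW h4 (mem_sup_left ht)).2 hχ (one_mem_vchar _)

theorem EE_int (hχ : χ ∈ vchar ⊤) (i : Fin 4) (hμ : μ ∈ Irr (RW W)) :
    ∃ m : ℤ, EE t s (RW W) i μ χ = m := by
  obtain ⟨m, hm⟩ := co_four (ε := e1 i) (η := e2 i) r.t2 r.s2 (nR r hW h4 hs r.c.s1)
    (inn r hW h4 (mem_sup_left hs)).2 (fun h => r.h.not_mem_Lt r.ot
      (sup_le (zpowers_le.2 r.c.sL) (r.h.rw_le hW h4 ht (t1 r)) h))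
    (H16.le_cent1.1 (sup_le (zpowers_le.2 (r.Lt_le r.c.sL))
      ((r.h.rw_le hW h4 ht (t1 r)).trans r.Lt_le))) hχ
    (sub_mem (one_mem_vchar _) (irr_vchar hμ)) (by fin_cases i <;> simp [e1])
    (by fin_cases i <;> simp [e2])
  exact ⟨m, by rw [← hm]; simp only [EE, Pi.smul_apply, Pi.add_apply, smul_eq_mul]; ring⟩

theorem ip_EE (hμ : μ ∈ Irr (RW W)) (h1 : μ ≠ CF.one (RW W)) (i j : Fin 4) :
    ip (EE t s (RW W) i μ) (EE t s (RW W) j μ) =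
      (28 + 4 * (e1 i * e1 j + e2 i * e2 j + e1 i * e2 i * (e1 j * e2 j)) +
        8 * (e1 i + e2 i + e1 i * e2 i) * (e1 j + e2 j + e1 j * e2 j)) / 16 := by
  obtain ⟨a1, a2, a3, a4, a5, a6⟩ := ne4 r hW h4 ht hs
  have c1 : conj (e1 j) = e1 j := by fin_cases j <;> simp [e1]
  have c2 : conj (e2 j) = e2 j := by fin_cases j <;> simp [e2]
  simp only [EE, ip_smul_left, ip_smul_right, ip_add_left, ip_add_right, map_mul, c1, c2,
    gramv r hW h4 _ _ hμ h1, W.one_mem, ht, hs, W.mul_mem ht hs, a1, a2, a3, a4, a5, a6, a4.symm,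
    a5.symm, a6.symm, if_true, if_false, map_inv₀, map_ofNat]
  ring

theorem EE_deg (hμ : μ ∈ Irr (RW W)) (i : Fin 4) : ip (EE t s (RW W) i μ) (col 1) = (0 : ℤ) := by
  have k : ∀ w ∈ W, ip (co w (RW W) (CF.one (RW W) - μ)) (col 1) = 0 := fun w hw =>
    ip_co_one fun k hk e => by
      have := (wk_pow r hW h4 hw hk).1
      rw [e, one_pow, pow_two] at this
      rw [odd_R r hW h4 hk this.symm, p1 r hW h4 hμ]
  simp only [EE, ip_smul_left, ip_add_left, k _ W.one_mem, k _ ht, k _ hs, k _ (W.mul_mem ht hs)]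
  simp

theorem EE_ind (hμ : μ ∈ Irr (RW W)) (i : Fin 4) : EE t s (RW W) i μ (Ind ⊤ B θ) = 0 := by
  have p := p1 r hW h4 hμ
  simp only [EE, Pi.smul_apply, Pi.add_apply, co_ind r hW h4 W.one_mem p, co_ind r hW h4 ht p,
    co_ind r hW h4 hs p, co_ind r hW h4 (W.mul_mem ht hs) p]
  simp

theorem EE_one (hμ : μ ∈ Irr (RW W)) (h1 : μ ≠ CF.one (RW W)) (i : Fin 4) :
    EE t s (RW W) i μ (CF.one ⊤) = if i = 0 then 1 else 0 := by
  simp only [EE, Pi.smul_apply, Pi.add_apply, co_top, dot_sub_right, dot_one_one,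
    dot_irr_ne (one_mem_Irr _) hμ h1.symm]
  fin_cases i <;> simp [e1, e2]
  norm_num

theorem EE_star (hχ : χ ∈ vchar ⊤) (i : Fin 4) :
    EE t s (RW W) i μ (star χ) = EE t s (RW W) i μ χ := by
  simp only [EE, Pi.smul_apply, Pi.add_apply, co_star r hW h4 hχ W.one_mem, co_star r hW h4 hχ ht,
    co_star r hW h4 hχ hs, co_star r hW h4 hχ (W.mul_mem ht hs)]

theorem l_ind (hθ : θ ∈ IrrQ B Q) : co t (RW W) (CF.one (RW W)) (Ind ⊤ B θ) = 4 * θ t := by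
  obtain ⟨-, q2, -, ρ0, -⟩ := qc r
  rw [co_l r hW h4, Pi.add_apply, co_ind r hW h4 ht (p0 r hW h4), Pi.smul_apply, col, ind_t r hθ, q2,
    smul_eq_mul]
  field_simp
  ring

theorem l_sum (χ : G → ℂ) : ρ * co t (RW W) (CF.one (RW W)) χ - χ t =
    ∑ μ ∈ (Irr (RW W)).erase (CF.one (RW W)), (EE t s (RW W) 0 μ χ + EE t s (RW W) 1 μ χ -
      EE t s (RW W) 2 μ χ - EE t s (RW W) 3 μ χ) := by
  rw [Finset.sum_congr rfl (g := fun μ => co t (RW W) (CF.one (RW W) - μ) χ) fun μ _ => by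
    simp [EE, e1, e2]; ring, Finset.sum_erase _ (by simp [co])]
  simp only [co, dot_sub_right, Finset.sum_sub_distrib, Finset.sum_const, nsmul_eq_mul,
    card_Irr_of_comm (H16.comm_iff.2 (r.h.rw_comm hW h4)), card_R r hW h4]
  rw [← dot_sum_right, Finset.sum_congr rfl (g := fun μ => μ 1 • μ) fun μ hμ => by
    rw [(lin_R r hW h4 hμ).one_apply, one_smul], ← reg_eq_sum, dot_reg_right, mul_one]

theorem l_par (hχ : χ ∈ vchar ⊤) {a b : ℤ} (ha : co t (RW W) (CF.one (RW W)) χ = a)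
    (hb : χ t = b) : Even (a - b) := by
  have := parity (m := ρ * a - b) (F := fun x => χ (t * x)) (r.h.rw_odd hW h4)
    (fun _ _ => vchar_isIntegral hχ _) (fun k hk => realW r hW h4 (vchar_cf hχ) ht hk) (by
      rw [co, dot_one_right, card_R r hW h4, inv_mul_eq_iff_eq_mul₀ (qc r).2.2.2.1] at ha
      rw [ha, mul_one, hb]; push_cast; ring)
  obtain ⟨m, hm⟩ := r.lf.odd_rho
  rw [hm] at this
  push_cast at this
  rw [show (2 * m + 1) * a - b = 2 * (m * a) + (a - b) by ring, Int.even_add] at this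
  exact this.1 (even_two_mul _)

variable (hu : u ∈ P) (u1 : u ≠ 1)
include hu u1

theorem six : t ^ 6 = 1 ∧ (t * u) ^ 6 = 1 ∧ (t * u⁻¹) ^ 6 = 1 := by
  have : t ^ 2 = 1 := by rw [pow_two, r.t2]
  exact ⟨by rw [show 6 = 2 * 3 from rfl, pow_mul, this, one_pow],
    by rw [show 6 = 3 * 2 from rfl, pow_mul, (tu_pow r hu).1, this],
    by rw [show 6 = 3 * 2 from rfl, pow_mul, (tu_pow r (P.inv_mem hu)).1, this]⟩

theorem ip_s : ip ((2 : ℂ) • sg (3 ^ n : ℕ) t u - co t (RW W) (CF.one (RW W)))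
    ((2 : ℂ) • sg (3 ^ n : ℕ) t u - co t (RW W) (CF.one (RW W))) = (8 : ℤ) := by
  obtain ⟨a1, a2, a3, a4, a5, a6, a7, a8, a9⟩ := ip_P r hu u1
  obtain ⟨b1, b2, b3⟩ := six r hW h4 ht hs hu u1
  have c1 := ip_six r hW h4 b1 ht (p0 r hW h4)
  have c2 := ip_six r hW h4 b2 ht (p0 r hW h4)
  have c3 := ip_six r hW h4 b3 ht (p0 r hW h4)
  obtain ⟨-, q2, q0, ρ0, -⟩ := qc r
  rw [co_l r hW h4]
  simp only [sg, ip_smul_left, ip_smul_right, ip_sub_left, ip_sub_right, ip_add_left, ip_add_right,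
    a1, a2, a3, a4, a5, a6, a7, a8, a9, c1, c2, c3, ip_symm c1, ip_symm c2, ip_symm c3,
    gram2 r hW h4 ht (t1 r), map_inv₀, map_natCast, map_ofNat]
  generalize ((3 ^ n : ℕ) : ℂ) = q at *
  obtain rfl : q = 4 * ρ - 1 := by linear_combination q2
  push_cast
  field_simp
  ring

theorem s_deg : ip ((2 : ℂ) • sg (3 ^ n : ℕ) t u - co t (RW W) (CF.one (RW W))) (col 1) =
    (0 : ℤ) := by
  have k : ∀ x ∈ P, ip (col (t * x)) (col 1) = 0 := fun x hx => ip_col_zero fun g e =>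
    tQ r (r.PQ ((mul_mem_cancel_right hx).1 (H16.conj_eq_one_iff.1 e ▸ P.one_mem)))
  have k1 := k 1 P.one_mem
  rw [mul_one] at k1
  simp only [sg, ip_smul_left, ip_sub_left, k1, k u hu, k _ (P.inv_mem hu)]
  rw [ip_co_one fun k hk e => absurd ((mul_mem_cancel_right hk).1 (e ▸ one_mem _))
    (nR r hW h4 ht (t1 r))]
  simp

theorem EE_s (hμ : μ ∈ Irr (RW W)) (h1 : μ ≠ CF.one (RW W)) (i : Fin 4) :
    ip (EE t s (RW W) i μ) ((2 : ℂ) • sg (3 ^ n : ℕ) t u - co t (RW W) (CF.one (RW W))) =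
      -2 * (e1 i + e2 i + e1 i * e2 i) := by
  obtain ⟨b1, b2, b3⟩ := six r hW h4 ht hs hu u1
  obtain ⟨a1, a2, a3, -⟩ := ne4 r hW h4 ht hs
  have ρ0 := (qc r).2.2.2.1
  have k : ∀ w ∈ W, ip (co w (RW W) (CF.one (RW W) - μ))
      ((2 : ℂ) • sg (3 ^ n : ℕ) t u - co t (RW W) (CF.one (RW W))) =
        -((ρ : ℂ)⁻¹ * (DD W t w).ncard) := fun w hw => by
    have p := p1 r hW h4 hμ
    rw [co_l r hW h4]
    simp only [sg, ip_smul_right, ip_sub_right, ip_add_right, ip_symm (ip_six r hW h4 b1 hw p),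
      ip_symm (ip_six r hW h4 b2 hw p), ip_symm (ip_six r hW h4 b3 hw p), gram1 r hW h4 hw ht hμ h1]
    ring
  simp only [EE, ip_smul_left, ip_add_left, k _ W.one_mem, k _ ht, k _ hs, k _ (W.mul_mem ht hs),
    card_D0 r hW h4 (Or.inr ⟨a1, rfl⟩), card_D r hW h4 ht ht a1 a1, card_D r hW h4 ht hs a1 a2,
    card_D r hW h4 ht (W.mul_mem ht hs) a1 a3]
  push_cast
  field_simp
  ring

theorem wt_s : ip (wt t) ((2 : ℂ) • sg (3 ^ n : ℕ) t u - co t (RW W) (CF.one (RW W))) =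
    (((3 ^ n : ℕ) : ℂ) - 1) * (-((3 ^ n : ℕ) : ℂ) ^ 2 + 6 * (3 ^ n : ℕ) - 1) /
      ((3 ^ n : ℕ) * (((3 ^ n : ℕ) : ℂ) ^ 2 - (3 ^ n : ℕ) + 1)) := by
  obtain ⟨q1, q2, q0, ρ0, N0⟩ := qc r
  simp only [sg, ip_smul_right, ip_sub_right, ip_co_right, wt_col r, Fc_u r hW h4 hu u1,
    Fc_u r hW h4 (P.inv_mem hu) (inv_ne_one.2 u1), map_inv₀, map_natCast, map_ofNat]
  rw [H17.sum_sharp, sum_fs_congr fun k hk => by
    rw [one_of_mem hk.1, Fc_R r hW h4 ht (t1 r) hk.1 hk.2], sum_fs_const,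
    Set.ncard_sdiff_singleton_of_mem (RW W).one_mem, ← Nat.card_coe_set_eq, SetLike.coe_sort_coe,
    card_R r hW h4, mul_one, Fc_t r hW h4 ht hs, Nat.cast_sub r.lf.odd_rho.pos, one_one]
  rw [Nat.cast_mul, Nat.cast_mul]
  generalize ((3 ^ n : ℕ) : ℂ) = q at *
  generalize hN : q ^ 2 - q + 1 = N at *
  have : (τ : ℂ) = 2 * ρ - 1 := by linear_combination (q2 - q1) / 2
  obtain rfl : q = 4 * ρ - 1 := by linear_combination q2
  rw [this]
  push_cast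
  field_simp
  ring

theorem wt_m' : ip (wt t) (co t P (CF.one P)) = (((3 ^ n : ℕ) : ℂ) ^ 2 - 1) *
    ((3 ^ n : ℕ) - 1) / ((3 ^ n : ℕ) * (((3 ^ n : ℕ) : ℂ) ^ 2 - (3 ^ n : ℕ) + 1)) := by
  obtain ⟨q1, q2, q0, ρ0, N0⟩ := qc r
  simp only [ip_co_right, wt_col r]
  rw [H17.sum_sharp, sum_fs_eq_zero fun k hk => by rw [Fc_u r hW h4 hk.1 hk.2]; simp,
    mul_one, Fc_t r hW h4 ht hs, one_one, r.card_P, Nat.cast_mul, Nat.cast_mul]
  generalize ((3 ^ n : ℕ) : ℂ) = q at *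
  generalize hN : q ^ 2 - q + 1 = N at *
  rw [show q - 1 = 2 * τ by linear_combination q1]
  push_cast
  field_simp
  ring

end

end H15.Rw
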