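import Cfsg.Agent.H15.Rw6
import Cfsg.Agent.H15.Rw1

/-! Groups of Ree type: every element without fixed points on the cosets of the Borel subgroup
is inverted by an involution. -/

set_option autoImplicit false
set_option linter.unusedSectionVars false

namespace H15.Rw

open Subgroup _root_.Cfsg CF H18 H26.J
open scoped ComplexConjugate H16 Classical

universe v

variable {G : Type v} [Group G] [Finite G] {S P Y Q B W K : Subgroup G} {n ρ τ : ℕ}
  {g t s u x y z k w w' : G} {φ ψ χ χ' μ θ ε ξ ξ' : G → ℂ} {c : ℂ} {a b : (G → ℂ) → ℂ}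

/-- the integer given by an integral complex number -/
noncomputable def zz (a : (G → ℂ) → ℂ) (χ : G → ℂ) : ℤ := ⌊(a χ).re⌋

/-- integer valued -/
def IV (a : (G → ℂ) → ℂ) : Prop := ∀ χ ∈ Irr (⊤ : Subgroup G), (zz a χ : ℂ) = a χ

theorem zz_of {m : ℤ} (h : a χ = m) : zz a χ = m := by simp [zz, h]

theorem iv_of (h : ∀ χ ∈ vchar (⊤ : Subgroup G), ∃ m : ℤ, a χ = m) : IV a := fun χ hχ => by
  obtain ⟨m, hm⟩ := h χ (irr_vchar hχ)
  rw [zz_of hm, hm]

theorem zz_congr (h : a χ = a χ') : zz a χ = zz a χ' := by simp only [zz, h]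

theorem ipZ {f g : (G → ℂ) → ℤ} (hf : ∀ χ ∈ Irr (⊤ : Subgroup G), (f χ : ℂ) = a χ)
    (hg : ∀ χ ∈ Irr (⊤ : Subgroup G), (g χ : ℂ) = b χ) {m : ℤ} (h : ip a b = m) :
    ∑ χ ∈ Irr (⊤ : Subgroup G), f χ * g χ = m := by
  apply Int.cast_injective (α := ℂ)
  rw [← h, Int.cast_sum]
  exact Finset.sum_congr rfl fun χ hχ => by rw [← hf χ hχ, ← hg χ hχ]; simp

theorem arith {n d e m : ℕ} (h : d * e = (3 ^ n) ^ 3 * m) (hd : ¬ 3 ^ n ∣ d) :
    3 * (3 ^ n) ^ 2 ∣ e := by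
  obtain ⟨a, d', h1, rfl⟩ := Nat.exists_eq_pow_mul_and_not_dvd (n := d) (fun e => hd (by simp [e]))
    3 (by norm_num)
  have : a < n := by
    by_contra k
    exact hd ((pow_dvd_pow 3 (not_lt.1 k)).mul_right _)
  obtain ⟨b, rfl⟩ := Nat.exists_eq_add_of_lt this
  refine (Nat.Coprime.mul_left ?_ (Nat.Coprime.pow_left _ (Nat.Coprime.pow_left _ ?_))).dvd_of_dvd_mul_left
    (m := d') ⟨3 ^ b * m, Nat.eq_of_mul_eq_mul_left (show 0 < 3 ^ a by positivity) ?_⟩
  · exact (Nat.Prime.coprime_iff_not_dvd Nat.prime_three).2 h1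
  · exact (Nat.Prime.coprime_iff_not_dvd Nat.prime_three).2 h1
  · rw [← mul_assoc, h]; ring

section
variable (r : RE S n ρ τ t s P Y Q B) (hW : W ≤ S) (h4 : Nat.card W = 4) (ht : t ∈ W) (hs : s ∈ W)
include r hW h4 ht hs

theorem deg (hχ : χ ∈ Irr (⊤ : Subgroup G)) : (∃ θ ∈ IrrQ B Q, χ = Ind ⊤ B θ) ∨
    χ = Ind ⊤ B (CF.one B) - CF.one ⊤ ∨
    ∃ m : ℤ, χ t ^ 2 / χ 1 * Nat.card G = 3 * ((3 ^ n : ℕ) : ℂ) ^ 2 * m := by
  obtain ⟨u, hu, u1⟩ := (P.bot_or_exists_ne_one).resolve_left (r.q.P_ne r.h r.c)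
  obtain ⟨c, hc, hc'⟩ := exists_c r hu u1
  obtain ⟨ε, hε, et, es, eu⟩ := exists_eps r
  obtain ⟨ξ, hξ, ξ', hξ', ne, e, s1, s2⟩ := exists_xi r hε es
  have e' : Ind ⊤ B ε = ξ' + ξ := e.trans (add_comm _ _)
  obtain ⟨q1, q2, q0, ρ0, N0⟩ := qc r
  have oQ := one_mem_IrrQ (H := B) r.QB
  have sgv : ∀ χ, sg (3 ^ n : ℕ) t u χ = (2 * χ t - χ (t * u) - χ (t * u⁻¹)) / (3 ^ n : ℕ) :=
    fun χ => by simp only [sg, col, Pi.smul_apply, Pi.sub_apply, smul_eq_mul]; ring
  have dlv : ∀ χ, dl c t u χ = c * (χ (t * u) - χ (t * u⁻¹)) := fun χ => rfl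
  have id : IV (col (1 : G)) := iv_of fun χ hχ => vchar_one_int hχ
  have iσ : IV (sg (3 ^ n : ℕ) t u) := iv_of fun χ hχ => by
    obtain ⟨a, b, h, -⟩ := hc' χ hχ
    exact ⟨a + b, by rw [sgv, h]; simp⟩
  have iδ : IV (dl c t u) := iv_of fun χ hχ => by
    obtain ⟨a, b, -, h⟩ := hc' χ hχ
    exact ⟨a - b, by rw [dlv, h]; simp⟩
  have im : IV (co t P (CF.one P)) := iv_of fun χ hχ => co_int r.t2 (fun h => tQ r (r.PQ h))
    (fun x hx => (Pt r hx).symm) hχ (one_mem_vchar _)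
  have iT : IV (col t) := fun χ hχ => by
    have : col t χ = (zz (co t P (CF.one P)) χ + τ * zz (sg (3 ^ n : ℕ) t u) χ : ℤ) := by
      rw [Int.cast_add, Int.cast_mul, im χ hχ, iσ χ hχ, Int.cast_natCast]
      exact (T_eq r hu u1 (irr_cf hχ) :)
    rw [zz_of this, this]
  have il : IV (co t (RW W) (CF.one (RW W))) := iv_of fun χ hχ => l_int r hW h4 ht hs hχ
  have iE : ∀ i, ∀ μ ∈ (Irr (RW W)).erase (CF.one (RW W)), IV (EE t s (RW W) i μ) :=
    fun i μ hμ => iv_of fun χ hχ => EE_int r hW h4 ht hs hχ i (Finset.mem_erase.1 hμ).2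
  have is : ∀ χ ∈ Irr (⊤ : Subgroup G), ((2 * zz (sg (3 ^ n : ℕ) t u) χ -
      zz (co t (RW W) (CF.one (RW W))) χ : ℤ) : ℂ) =
      ((2 : ℂ) • sg (3 ^ n : ℕ) t u - co t (RW W) (CF.one (RW W))) χ := fun χ hχ => by
    rw [Int.cast_sub, Int.cast_mul, iσ χ hχ, il χ hχ, Int.cast_ofNat]; rfl
  have sv : ∀ χ ∈ Irr (⊤ : Subgroup G), ∀ g, star χ g = χ g⁻¹ := fun χ hχ g =>
    (irr_char hχ).conj_apply g
  have ti : t⁻¹ = t := inv_eq_of_mul_eq_one_right r.t2
  have tu : ∀ x ∈ P, (t * x)⁻¹ = t * x⁻¹ := fun x hx => by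
    rw [mul_inv_rev, ti, Pt r (P.inv_mem hx)]
  have o1 : ∀ g : G, CF.one ⊤ g = 1 := fun g => one_of_mem (mem_top g)
  have ot : CF.one B t = 1 := one_of_mem r.tB
  have sum2 : ∀ {a : (G → ℂ) → ℂ} {m : ℤ}, IV a → a ξ + a ξ' = m → zz a ξ + zz a ξ' = m :=
    fun ia h => Int.cast_injective (α := ℂ) (by rw [Int.cast_add, ia ξ hξ, ia ξ' hξ', h])
  have wz : ∀ χ ∈ Irr (⊤ : Subgroup G),
      (((zz (col t) χ : ℚ) ^ 2 / zz (col 1) χ : ℚ) : ℂ) = wt t χ := fun χ hχ => by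
    push_cast [iT χ hχ, id χ hχ]; rfl
  have T : Tab (Irr (⊤ : Subgroup G)) ((Irr (RW W)).erase (CF.one (RW W))) (3 ^ n : ℕ) τ ρ star
      (zz (col 1)) (zz (col t)) (zz (sg (3 ^ n : ℕ) t u)) (zz (dl c t u))
      (zz (co t (RW W) (CF.one (RW W)))) (zz (co t P (CF.one P)))
      (fun i μ => zz (EE t s (RW W) i μ)) (fun χ => ∃ θ ∈ IrrQ B Q, χ = Ind ⊤ B θ) (CF.one ⊤)
      (Ind ⊤ B (CF.one B) - CF.one ⊤) ξ ξ' :=
    { q1 := by exact_mod_cast (ar r).2
      q2 := by exact_mod_cast (ar r).1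
      q3 := by exact_mod_cast dvd_pow_self 3 r.lf.n_ne
      q4 := by have := r.q_ge; omega
      card := by
        rw [Finset.card_erase_of_mem (one_mem_Irr _),
          card_Irr_of_comm (H16.comm_iff.2 (r.h.rw_comm hW h4)), card_R r hW h4,
          Nat.cast_sub r.lf.odd_rho.pos, Nat.cast_one]
      bI := fun χ hχ => star_mem_Irr hχ
      bb := fun χ _ => star_star χ
      bd := fun χ hχ => zz_congr (by rw [col, col, sv χ hχ, inv_one])
      bT := fun χ hχ => zz_congr (by rw [col, col, sv χ hχ, ti])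
      bσ := fun χ hχ => zz_congr (by
        rw [sgv, sgv, sv χ hχ, sv χ hχ, sv χ hχ, ti, tu u hu, tu _ (P.inv_mem hu), inv_inv]; ring)
      bδ := fun χ hχ => zz_of (by
        rw [Int.cast_neg, iδ χ hχ, dlv, dlv, sv χ hχ, sv χ hχ, tu u hu, tu _ (P.inv_mem hu), inv_inv]
        ring)
      bl := fun χ hχ => zz_congr (co_star r hW h4 (irr_vchar hχ) ht)
      bE := fun i μ _ χ hχ => zz_congr (EE_star r hW h4 ht hs (irr_vchar hχ) i)
      pos := fun χ hχ => by
        obtain ⟨m, m0, hm⟩ := irr_pos_one hχ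
        rw [zz_of (m := m) hm]; exact_mod_cast m0
      oI := one_mem_Irr _
      sI := st_irr r
      xI := hξ
      xI' := hξ'
      n1 := fun k => by
        have := congrFun k 1
        rw [Pi.sub_apply, ind_one r oQ, o1, add_sub_cancel_right] at this
        have : 1 = (3 ^ n) ^ 3 := by exact_mod_cast this
        have h2 := r.q_ge
        nlinarith [Nat.mul_le_mul h2 h2]
      n2 := (xi_ne r hε et es eu hξ hξ' ne e).1
      n3 := (xi_ne r hε et es eu hξ' hξ ne.symm e').1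
      n4 := (xi_ne r hε et es eu hξ hξ' ne e).2
      n5 := (xi_ne r hε et es eu hξ' hξ ne.symm e').2
      n6 := ne
      bo := star_one' _
      bs := by rw [star_sub, ← Ind_star, star_one', star_one']
      bx := s1
      bx' := s2
      bΘ := fun χ hχ ⟨θ, hθ, k⟩ => by rw [k] at hχ ⊢; exact ind_star r hθ hχ
      hT := fun χ hχ => zz_of (by
        rw [Int.cast_add, Int.cast_mul, im χ hχ, iσ χ hχ, Int.cast_natCast]
        exact (T_eq r hu u1 (irr_cf hχ) :))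
      hm := fun χ hχ a1 a2 a3 a4 a5 => zz_of (by
        rw [m_zero r hε et es eu hξ hξ' ne e hχ a1 a2 a3 a4 a5, Int.cast_zero])
      mo := zz_of (by rw [co_top, dot_one_one, Int.cast_one])
      ms := zz_of (by
        rw [co_sub, co_top, dot_one_one, co_one r hu u1 (ind_char r oQ).cf, ind_t r oQ,
          ind_u r oQ hu u1, ind_u r oQ (P.inv_mem hu) (inv_ne_one.2 u1), ot]
        field_simp
        push_cast at q1 ⊢
        linear_combination -q1)
      mx := zz_of (by rw [m_xi r hε et es eu hξ hξ' ne e]; simp)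
      mx' := zz_of (by rw [m_xi r hε et es eu hξ' hξ ne.symm e']; simp)
      pδ := fun χ hχ => by
        obtain ⟨a, b, h1, h2⟩ := hc' χ (irr_vchar hχ)
        rw [zz_of (m := a - b) (by rw [dlv, h2]; simp), zz_of (m := a + b) (by rw [sgv, h1]; simp)]
        exact ⟨-b, by ring⟩
      pl := fun χ hχ => l_par r hW h4 ht hs (irr_vchar hχ) (il χ hχ).symm (iT χ hχ).symm
      nδ := by simp only [sq]; exact ipZ iδ iδ (ip_dl r hu u1 hc)
      ns := by simp only [sq]; exact ipZ is is (ip_s r hW h4 ht hs hu u1)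
      ds := ipZ is id (s_deg r hW h4 ht hs hu u1)
      hl := fun χ hχ => Int.cast_injective (α := ℂ) (by
        push_cast [il χ hχ, iT χ hχ]
        rw [col, l_sum r hW h4 ht hs]
        exact Finset.sum_congr rfl fun μ hμ => by
          rw [iE 0 μ hμ χ hχ, iE 1 μ hμ χ hχ, iE 2 μ hμ χ hχ, iE 3 μ hμ χ hχ])
      nE0 := fun μ hμ => by
        simp only [sq]
        refine ipZ (iE 0 μ hμ) (iE 0 μ hμ) ?_
        rw [ip_EE r hW h4 ht hs (Finset.mem_erase.1 hμ).2 (Finset.mem_erase.1 hμ).1]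
        simp [e1, e2]; norm_num
      nE := fun i hi μ hμ => by
        simp only [sq]
        refine ipZ (iE i μ hμ) (iE i μ hμ) ?_
        rw [ip_EE r hW h4 ht hs (Finset.mem_erase.1 hμ).2 (Finset.mem_erase.1 hμ).1]
        fin_cases i <;> simp [e1, e2] at hi ⊢ <;> norm_num
      oE := fun i hi μ hμ => by
        refine ipZ (iE 0 μ hμ) (iE i μ hμ) ?_
        rw [ip_EE r hW h4 ht hs (Finset.mem_erase.1 hμ).2 (Finset.mem_erase.1 hμ).1]
        fin_cases i <;> simp [e1, e2] at hi ⊢ <;> norm_num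
      sE0 := fun μ hμ => by
        refine ipZ (iE 0 μ hμ) is ?_
        rw [EE_s r hW h4 ht hs hu u1 (Finset.mem_erase.1 hμ).2 (Finset.mem_erase.1 hμ).1]
        simp [e1, e2]; norm_num
      sE := fun i hi μ hμ => by
        refine ipZ (iE i μ hμ) is ?_
        rw [EE_s r hW h4 ht hs hu u1 (Finset.mem_erase.1 hμ).2 (Finset.mem_erase.1 hμ).1]
        fin_cases i <;> simp [e1, e2] at hi ⊢
      dE := fun i μ hμ => ipZ (iE i μ hμ) id (EE_deg r hW h4 ht hs (Finset.mem_erase.1 hμ).2 i)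
      do' := zz_of (by rw [col, o1, Int.cast_one])
      To := zz_of (by rw [col, o1, Int.cast_one])
      lo := zz_of (by rw [co_top, dot_one_one, Int.cast_one])
      Eo0 := fun μ hμ => zz_of (by
        rw [EE_one r hW h4 ht hs (Finset.mem_erase.1 hμ).2 (Finset.mem_erase.1 hμ).1]; simp)
      Eo := fun i hi μ hμ => zz_of (by
        rw [EE_one r hW h4 ht hs (Finset.mem_erase.1 hμ).2 (Finset.mem_erase.1 hμ).1]; simp [hi])
      dst := zz_of (by rw [col, Pi.sub_apply, ind_one r oQ, o1]; simp)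
      Ts := zz_of (by rw [col, Pi.sub_apply, ind_t r oQ, o1, ot]; simp)
      ls := zz_of (by rw [co_sub, l_ind r hW h4 ht hs oQ, co_top, dot_one_one, ot]; norm_num)
      Es0 := fun μ hμ => zz_of (by
        rw [EE_sub, EE_ind r hW h4 ht hs (Finset.mem_erase.1 hμ).2,
          EE_one r hW h4 ht hs (Finset.mem_erase.1 hμ).2 (Finset.mem_erase.1 hμ).1]; simp)
      Es := fun i hi μ hμ => zz_of (by
        rw [EE_sub, EE_ind r hW h4 ht hs (Finset.mem_erase.1 hμ).2,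
          EE_one r hW h4 ht hs (Finset.mem_erase.1 hμ).2 (Finset.mem_erase.1 hμ).1]; simp [hi])
      dx := sum2 id (by rw [col, col, ← Pi.add_apply, ← e, ind_one r hε]; simp)
      Tx := sum2 iT (by rw [col, col, ← Pi.add_apply, ← e, ind_t r hε, et]; simp)
      lx := sum2 il (by rw [← co_add, ← e, l_ind r hW h4 ht hs hε, et]; simp)
      Ex := fun i μ hμ => sum2 (iE i μ hμ) (by
        rw [← EE_add, ← e, EE_ind r hW h4 ht hs (Finset.mem_erase.1 hμ).2]; simp)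
      K1 := by
        apply Rat.cast_injective (α := ℂ)
        have k := wt_m r hε et es eu hξ hξ' ne e
        rw [wt_m' r hW h4 ht hs hu u1, wt, wt, Pi.sub_apply, Pi.sub_apply, ind_t r oQ, ind_one r oQ,
          o1, o1, ot] at k
        rw [Rat.cast_add, wz ξ hξ, wz ξ' hξ', Int.cast_natCast]
        simp only [Rat.cast_div, Rat.cast_add, Rat.cast_sub, Rat.cast_pow, Rat.cast_natCast,
          Rat.cast_one]
        generalize ((3 ^ n : ℕ) : ℂ) = q at *
        generalize hN : q ^ 2 - q + 1 = N at *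
        have : (1 : ℂ) ^ 2 / 1 + ((q + 1) * 1 - 1) ^ 2 / (q ^ 3 + 1 - 1) -
            (q ^ 2 - 1) * (q - 1) / (q * N) = (q + 1) / N := by
          rw [add_sub_cancel_right]; field_simp; rw [← hN]; ring
        linear_combination k + this
      K2 := by
        apply Rat.cast_injective (α := ℂ)
        have k := wt_s r hW h4 ht hs hu u1
        rw [Rat.cast_sum, Int.cast_natCast]
        simp only [Rat.cast_div, Rat.cast_add, Rat.cast_sub, Rat.cast_pow, Rat.cast_natCast,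
          Rat.cast_one, Rat.cast_mul, Rat.cast_neg, Rat.cast_ofNat, Rat.cast_intCast]
        rw [← k]
        refine Finset.sum_congr rfl fun χ hχ => ?_
        rw [← is χ hχ, map_intCast, iT χ hχ, id χ hχ, wt, col, col]
        ring }
  by_cases t0 : zz (col t) χ = 0
  · refine Or.inr (Or.inr ⟨0, ?_⟩)
    rw [show χ t = _ from (iT χ hχ).symm, t0]; simp
  obtain ⟨d, d0, hd⟩ := irr_pos_one hχ
  obtain ⟨f, hf⟩ := H17.Cfsg.IsIrrCharacter.degree_dvd_card (mem_Irr_top.1 hχ) hd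
  have dz : zz (col 1) χ = d := zz_of (m := d) hd
  have d0' : (d : ℂ) ≠ 0 := Nat.cast_ne_zero.2 d0.ne'
  refine (T.main hχ t0).imp_right (Or.imp_right ?_)
  rw [dz, hd, show χ t = _ from (iT χ hχ).symm]
  rintro (k | ⟨k1, k2⟩)
  · obtain ⟨m, rfl⟩ := arith (hf.symm.trans (r.card_G.trans (mul_assoc _ _ _)))
      fun e => k (Int.natCast_dvd_natCast.2 e)
    refine ⟨zz (col t) χ ^ 2 * m, ?_⟩
    rw [hf]; push_cast; field_simp
  · obtain ⟨j, hj⟩ := dvd_pow_self 3 r.lf.n_ne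
    refine ⟨j * (3 ^ n : ℕ) * ((3 ^ n : ℕ) + 1) * ((3 ^ n : ℕ) - 1), ?_⟩
    have k3 : (d : ℂ) = (3 ^ n : ℕ) * (((3 ^ n : ℕ) : ℂ) ^ 2 - (3 ^ n : ℕ) + 1) := by
      exact_mod_cast k2
    have k4 : ((3 ^ n : ℕ) : ℂ) = 3 * j := by exact_mod_cast hj
    rw [k1, k3, cG r]
    simp only [Int.cast_mul, Int.cast_add, Int.cast_sub, Int.cast_natCast, Int.cast_neg,
      Int.cast_one]
    generalize ((3 ^ n : ℕ) : ℂ) = q at *
    generalize hN : q ^ 2 - q + 1 = N at *
    field_simp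
    rw [← hN]
    linear_combination (q ^ 3 + 1) * (q - 1) * k4

end

/-- elements without fixed points are inverted by involutions -/
theorem real (r : RE S n ρ τ t s P Y Q B) (hy : ∀ g, g * y * g⁻¹ ∉ B) :
    ∃ a, a * a = 1 ∧ a * y * a⁻¹ = y⁻¹ := by
  obtain ⟨hW, h4⟩ := r.h.c3_four rfl r.c
  have ht := mem_sup_left (T := zpowers s) (mem_zpowers t)
  have hs := mem_sup_right (S := zpowers t) (mem_zpowers s)
  by_contra hn
  have k := wt_col r y
  rw [Fc, show ccls t ∩ {a | a⁻¹ * y ∈ ccls t} = ∅ from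
    Set.eq_empty_of_forall_notMem fun a ⟨h1, h2⟩ => hn ⟨a, ((mem_cls r hW h4).1 h1).1, by
      have e := ((mem_cls r hW h4).1 h2).1
      rw [inv_eq_of_mul_eq_one_right ((mem_cls r hW h4).1 h1).1] at e ⊢
      exact eq_inv_of_mul_eq_one_left (by rw [← e]; group)⟩, Set.ncard_empty, Nat.cast_zero,
    mul_zero, ip, ← Finset.add_sum_erase _ _ (st_irr r)] at k
  obtain ⟨-, -, q0, -⟩ := qc r
  have oQ := one_mem_IrrQ (H := B) r.QB
  have i1 : IsIntegral ℤ (∑ χ ∈ (Irr (⊤ : Subgroup G)).erase (Ind ⊤ B (CF.one B) - CF.one ⊤),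
      wt t χ * conj (col y χ) * (Nat.card G / (3 * ((3 ^ n : ℕ) : ℂ) ^ 2))) :=
    IsIntegral.sum _ fun χ hχ => by
      obtain ⟨h1, h2⟩ := Finset.mem_erase.1 hχ
      rcases deg r hW h4 ht hs h2 with ⟨θ, -, rfl⟩ | e | ⟨m, e⟩
      · rw [col, Ind_zero hy]; simpa using isIntegral_zero
      · exact absurd e h1
      · rw [show wt t χ * conj (col y χ) * (Nat.card G / (3 * ((3 ^ n : ℕ) : ℂ) ^ 2)) =
          m * χ y⁻¹ by
            rw [col, (irr_char h2).conj_apply, wt, eq_div_of_mul_eq (card_top (G := G) ▸ card_ne ⊤) e]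
            have := card_top (G := G) ▸ card_ne ⊤
            field_simp]
        exact (isIntegral_algebraMap (x := m)).mul ((irr_char h2).isIntegral _)
  rw [← Finset.sum_mul, eq_neg_of_add_eq_zero_right k, wt, col, Pi.sub_apply, Pi.sub_apply,
    Pi.sub_apply, ind_t r oQ, ind_one r oQ, Ind_zero hy, one_of_mem r.tB, one_top, cG r] at i1
  have : IsIntegral ℤ ((((3 ^ n : ℕ) : ℚ) ^ 3 + 1) * ((3 ^ n : ℕ) - 1) / 3) := by
    rw [← isIntegral_algebraMap_iff (B := ℂ) (algebraMap ℚ ℂ).injective]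
    convert i1 using 1
    simp only [eq_ratCast, Rat.cast_div, Rat.cast_mul, Rat.cast_add, Rat.cast_sub, Rat.cast_pow,
      Rat.cast_natCast, Rat.cast_one, Rat.cast_ofNat, Pi.one_apply, zero_sub, map_neg, map_one,
      add_sub_cancel_right, mul_one]
    field_simp
  obtain ⟨z, hz⟩ := IsIntegrallyClosed.isIntegral_iff.1 this
  have h1 : (z : ℚ) = _ := hz
  have : 3 * z = (((3 ^ n : ℕ) : ℤ) ^ 3 + 1) * ((3 ^ n : ℕ) - 1) := by
    have : (3 * z : ℚ) = (((3 ^ n : ℕ) : ℚ) ^ 3 + 1) * ((3 ^ n : ℕ) - 1) := by rw [h1]; ring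
    exact_mod_cast this
  obtain ⟨j, hj⟩ := dvd_pow_self 3 r.lf.n_ne
  rw [hj] at this
  push_cast at this
  have : 3 * (z - (27 * j ^ 4 - 9 * j ^ 3 + j)) = -1 := by linear_combination this
  omega

end H15.Rw
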