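import Cfsg.Agent.H15.Rw7
import Cfsg.Agent.H17.PH3
import Cfsg.Agent.H17.A2
import Cfsg.Agent.H8.GWQ1
import Cfsg.Agent.Lead.GW
import Cfsg.Agent.H2.Sm1
import Cfsg.Agent.H26.JRx

/-! `π`-homogeneous groups with dihedral or abelian Sylow `2`-subgroups. -/

set_option autoImplicit false
set_option linter.unusedSectionVars false

namespace H15.Rw

open Subgroup _root_.Cfsg H1 H26.J H17.Ho
open scoped H16 MatrixGroups

universe v

variable {G : Type v} [Group G] [Finite G] {π : Set ℕ}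

theorem burn (h : PH π G) (hs : IsSimpleGroup G) (hn : ¬ IsMulCommutative G) {r : ℕ}
    (hr : r.Prime) (hπ : r ∈ π) (h1 : r ∣ Nat.card G) (h2 : ¬ r * r ∣ Nat.card G) :
    ∃ s : ℕ, s.Prime ∧ s ∈ π ∧ s ∣ r - 1 := by
  have := Fact.mk hr
  obtain ⟨P⟩ : Nonempty (Sylow r G) := inferInstance
  have hP : Nat.card P = r := by
    rw [P.card_eq_multiplicity]
    have a := (hr.dvd_iff_one_le_factorization Nat.card_pos.ne').1 h1
    have b : ¬ 2 ≤ (Nat.card G).factorization r := fun e =>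
      h2 (sq r ▸ (hr.pow_dvd_iff_le_factorization Nat.card_pos.ne').2 e)
    rw [show (Nat.card G).factorization r = 1 by omega, pow_one]
  have := isCyclic_of_prime_card hP
  have key := card_dvd_of_injective _
    (QuotientGroup.kerLift_injective (P : Subgroup G).normalizerMonoidHom)
  rw [normalizerMonoidHom_ker, ← index, ← relIndex, IsCyclic.card_mulAut, hP,
    Nat.totient_prime hr] at key
  obtain ⟨s, s1, s2⟩ := Nat.exists_prime_and_dvd fun e =>
    H2.sm_not_normalizer_le hn P h1 (relIndex_eq_one.1 e)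
  exact ⟨s, s1, h.hom P (fun q hq hd => by
    rwa [(Nat.prime_dvd_prime_iff_eq hq hr).1 (hP ▸ hd)]) s s1 s2, s2.trans key⟩

theorem psl_c {L : Subgroup G} (h : PH π G) (h2 : 2 ∉ π) {F : Type*} [Field F] [Fintype F]
    (h3 : 3 < Fintype.card F) (e : L ≃* PSL(2, F)) : IsPiNat πᶜ (Nat.card L) :=
  Nat.card_congr e.toEquiv ▸ psl_compl ((h.sub L).inj e.symm.toMonoidHom e.symm.injective) h2 h3

theorem psl_t (h : PH π G) (h2 : 2 ∉ π) {F : Type*} [Field F] [Fintype F]
    (h3 : 3 < Fintype.card F) (e : G ≃* PSL(2, F)) : IsPiNat πᶜ (Nat.card G) :=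
  Nat.card_congr e.toEquiv ▸ psl_compl (h.inj e.symm.toMonoidHom e.symm.injective) h2 h3

theorem small (h : PH π G) (hs : IsSimpleGroup G) (hn : ¬ IsMulCommutative G) (h2 : 2 ∉ π)
    (h3 : 3 ∉ π) (h5 : 5 ∉ π) (hc : Nat.card G = 2520 ∨ Nat.card G = 175560) :
    IsPiNat πᶜ (Nat.card G) := fun r hr hd hπ => by
  have k : ∀ s : ℕ, s.Prime → s ∈ π → ¬ s ∣ 2 * 3 * 3 * 5 := fun s hs hπ e => by
    simp only [hs.dvd_mul, Nat.prime_dvd_prime_iff_eq hs Nat.prime_two,
      Nat.prime_dvd_prime_iff_eq hs Nat.prime_three, Nat.prime_dvd_prime_iff_eq hs Nat.prime_five] at e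
    rcases e with ((rfl | rfl) | rfl) | rfl <;> contradiction
  have e : r ∣ 2 ^ 3 * 3 ^ 2 * 5 * 7 * 11 * 19 := hd.trans (by rcases hc with e | e <;> rw [e] <;> norm_num)
  have p7 : Nat.Prime 7 := by norm_num
  have p11 : Nat.Prime 11 := by norm_num
  have p19 : Nat.Prime 19 := by norm_num
  simp only [hr.dvd_mul, hr.prime.dvd_pow_iff_dvd (by norm_num : 3 ≠ 0),
    hr.prime.dvd_pow_iff_dvd (by norm_num : 2 ≠ 0), Nat.prime_dvd_prime_iff_eq hr Nat.prime_two,
    Nat.prime_dvd_prime_iff_eq hr Nat.prime_three, Nat.prime_dvd_prime_iff_eq hr Nat.prime_five,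
    Nat.prime_dvd_prime_iff_eq hr p7, Nat.prime_dvd_prime_iff_eq hr p11,
    Nat.prime_dvd_prime_iff_eq hr p19] at e
  rcases e with ((((rfl | rfl) | rfl) | rfl) | rfl) | rfl
  exacts [h2 hπ, h3 hπ, h5 hπ,
    let ⟨s, a, b, c⟩ := burn h hs hn hr hπ hd (by rcases hc with e | e <;> rw [e] <;> norm_num)
    k s a b (c.trans (by norm_num)),
    let ⟨s, a, b, c⟩ := burn h hs hn hr hπ hd (by rcases hc with e | e <;> rw [e] <;> norm_num)
    k s a b (c.trans (by norm_num)),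
    let ⟨s, a, b, c⟩ := burn h hs hn hr hπ hd (by rcases hc with e | e <;> rw [e] <;> norm_num)
    k s a b (c.trans (by norm_num))]

theorem alt7 (h : PH π G) (hs : IsSimpleGroup G) (hn : ¬ IsMulCommutative G) (h2 : 2 ∉ π)
    (e : G ≃* alternatingGroup (Fin 7)) : IsPiNat πᶜ (Nat.card G) := by
  have h' := h.inj e.symm.toMonoidHom e.symm.injective
  have := Fact.mk Nat.prime_five
  refine small h hs hn h2 (fun k => h'.not_inv h2 Nat.prime_three k
    (y := ⟨Equiv.swap 0 1 * Equiv.swap 1 2, by simp⟩) (t := ⟨Equiv.swap 0 1 * Equiv.swap 3 4, by simp⟩)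
    (orderOf_eq_prime (Subtype.ext (by decide)) fun e => absurd (congrArg Subtype.val e) (by decide))
    (Subtype.ext (by decide)) (Subtype.ext (by decide))) (fun k => h'.not_inv h2 Nat.prime_five k
    (y := ⟨Equiv.swap 0 1 * Equiv.swap 1 2 * (Equiv.swap 2 3 * Equiv.swap 3 4), by simp⟩)
    (t := ⟨Equiv.swap 1 4 * Equiv.swap 2 3, by simp⟩)
    (orderOf_eq_prime (Subtype.ext (by decide)) fun e => absurd (congrArg Subtype.val e) (by decide))
    (Subtype.ext (by decide)) (Subtype.ext (by decide))) (Or.inl ?_)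
  rw [Nat.card_congr e.toEquiv, nat_card_alternatingGroup]
  simp [Nat.factorial]

theorem jr {S : Subgroup G} {p n ρ τ f : ℕ} (h : PH π G) (h2 : 2 ∉ π) (j : JR S p n ρ τ f) :
    IsPiNat πᶜ (Nat.card G) := by
  have k : ∀ t : G, orderOf t = 2 → IsPiNat πᶜ (p ^ n * (4 * ρ) * τ) := fun t ht => by
    obtain ⟨F, _, _, hF, ⟨e⟩⟩ := (j.lf t ht).psl
    exact (j.lf t ht).card ▸ psl_c h h2 (by have := (j.lf t ht).five; omega) e
  rcases j.main.2 with ⟨rfl, rfl, hc⟩ | ⟨rfl, -⟩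
  · obtain ⟨t, ht, t1⟩ := j.exists_inv
    have l := j.lf t (j.ord ht t1)
    have k := k t (j.ord ht t1)
    obtain rfl : τ = 3 := by have := l.ar; omega
    exact small h j.simple j.not_comm h2 (k 3 Nat.prime_three (dvd_mul_left _ _))
      (k 5 Nat.prime_five (Dvd.dvd.mul_right (Dvd.dvd.mul_right (by norm_num) _) _)) (Or.inr hc)
  · obtain ⟨t, s, P, Y, Q, B, r⟩ := j.exists_re
    intro m hm hd hπ
    have := Fact.mk hm
    obtain ⟨y, hy⟩ := exists_prime_orderOf_dvd_card' m hd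
    obtain ⟨a, a1, a2⟩ := real r (y := y) fun g e => by
      have := B.orderOf_dvd_natCard e
      rw [H16.orderOf_cj, hy, ← CF.card_compl (complB r), card_H r, r.card_Q] at this
      refine k t r.ot m hm ?_ hπ
      rcases (Nat.Prime.dvd_mul hm).1 this with e | e
      · exact ((hm.dvd_of_dvd_pow e).mul_right _).mul_right _
      · exact e.trans ⟨3 ^ n * (2 * ρ), by ring⟩
    exact h.not_inv h2 hm hπ hy a1 a2

theorem piSep (h : PH π G) (h2 : 2 ∉ π)
    (hd : (∀ P : Subgroup G, IsPGroup 2 P → IsMulCommutative P) ∨ GW.Dih (⊤ : Subgroup G)) :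
    PiSep π G := by
  refine piSep_ind (fun X _ => PH π X ∧ ((∀ P : Subgroup X, IsPGroup 2 P → IsMulCommutative P) ∨
    GW.Dih (⊤ : Subgroup X))) (fun X _ _ N _ h => ⟨⟨h.1.sub N, h.2.imp
      (fun k => H17.A2.comm_inj k N.subtype N.subtype_injective)
      fun k => GW.Q8.dih_top (k.mono le_top)⟩, h.1.surj _ (QuotientGroup.mk'_surjective N),
      h.2.imp (fun k => H17.A2.comm_surj k _ (QuotientGroup.mk'_surjective N))
      fun k => GW.Q8.dih_surj k _ (QuotientGroup.mk'_surjective N)⟩)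
    (fun X _ _ hs hn h => Or.inr ?_) G ⟨h, hd⟩
  rcases h.2 with k | k
  · obtain ⟨S⟩ : Nonempty (Sylow 2 X) := inferInstance
    rcases walter hs hn (H10.isSylowIn_top S) (H16.comm_iff.1 (k S S.isPGroup')) with
      ⟨-, F, _, _, m, h1, h3, ⟨e⟩⟩ | ⟨F, _, _, -, h3, ⟨e⟩⟩ | ⟨p, n, ρ, τ, f, j⟩
    · exact psl_t h.1 h2 (by
        have := Nat.pow_le_pow_right (n := 2) (by norm_num) h1
        omega) e
    · exact psl_t h.1 h2 h3 e
    · exact jr h.1 h2 j
  · rcases GW.known hs hn k with ⟨F, _, _, -, h3, ⟨e⟩⟩ | ⟨⟨e⟩⟩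
    · exact psl_t h.1 h2 h3 e
    · exact alt7 h.1 hs hn h2 e

end H15.Rw
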